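import Cfsg.Agent.Lib.Invol.J1.NoB
import Cfsg.Agent.Lib.Char.JankoOne.Main

/-! Uniqueness of Janko's first group. -/

set_option autoImplicit false
set_option linter.unusedSectionVars false

namespace Cfsg.Agent.J1U

open Cfsg Cfsg.Agent.Char.JankoOne
open Cfsg.Agent.Spor.Coset (ev ev_append ev_mem)
open Cfsg.Agent.Spor

universe u v

/-- The permutation given by a column of the table. -/
def sigma (s : ℕ) : Equiv.Perm (Fin cA.N) :=
  if hs : s < cA.n then
    { toFun := fun b => ⟨cA.tgt b s, ((act_row cA_act b.isLt).1 s hs).1⟩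
      invFun := fun b => ⟨cA.tgt b s, ((act_row cA_act b.isLt).1 s hs).1⟩
      left_inv := fun b => Fin.ext ((act_row cA_act b.isLt).1 s hs).2
      right_inv := fun b => Fin.ext ((act_row cA_act b.isLt).1 s hs).2 }
  else 1

/-- The standard permutation group. -/
def PJ : Subgroup (Equiv.Perm (Fin cA.N)) := Subgroup.closure {x | ∃ s < cA.n, sigma s = x}

variable {G : Type u} [Group G] [Finite G]

/-- A frame containing the configuration. -/
theorem exists_gens (H : Hyp G) {z : G} (hz : Inv2 z) :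
    ∃ (F : Frame z) (T : Trip) (j : G), T.Good ∧ j * j = 1 ∧ j * z ≠ z * j ∧
      ∀ w ∈ cA.rels, ev (genF F T j) w = 1 := by
  classical
  obtain ⟨F⟩ := H.frame z hz
  obtain ⟨T, hT, hor⟩ := exists_trip H F
  obtain ⟨y, hy3, hy1, hyc, hyz, hyw⟩ := exists_three H hz F hT
  have hyr : y * F.φ (rf T.a3) = F.φ (rf T.a3) * y :=
    hyw.resolve_right fun h => no_B H hz F hT hor hy3 hy1 hyc hyz h
  refine ⟨F, T, y * z * y⁻¹, hT, (hz.conj y).1, ?_⟩
  set j := y * z * y⁻¹ with hjdef
  set r1 := F.φ (rf T.a1) with hr1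
  set r2 := F.φ (rf T.a2) with hr2
  set r3 := F.φ (rf T.a3) with hr3
  set x1 := F.φ (1, T.a1) with hx1
  set q := F.φ (1, T.a3) with hq
  set c := F.φ (1, T.f) with hcdef
  have hone : (Multiplicative.ofAdd 1 : Multiplicative (ZMod 2)) ≠ 1 := by decide +kernel
  have hsq2 : ∀ k : Multiplicative (ZMod 2), k * k = 1 := by decide +kernel
  have hrf : ∀ a : A5, a * a = 1 → a ≠ 1 → Inv2 (F.φ (rf a)) := fun a h h' =>
    ⟨by rw [← map_mul, rf_sq h, map_one], fun e => h' (congrArg Prod.snd (F.inj (e.trans (map_one _).symm)))⟩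
  have hnot : ∀ a : A5, a * a = 1 → a ≠ 1 → ¬ E z (F.φ (rf a)) := fun a h h' e =>
    hone ((F.e_iff (rf_sq h) (fun e' => h' (congrArg Prod.snd e'))).1 e)
  have hzne : ∀ a : A5, a ≠ 1 → z ≠ F.φ (rf a) := fun a h e =>
    h (congrArg Prod.snd (F.inj (F.tt_eq.trans e))).symm
  have i1 := hrf _ hT.i1 hT.n1
  have i2 := hrf _ hT.i2 hT.n2
  have i3 := hrf _ hT.i3 hT.n3
  have ij : Inv2 j := hz.conj y
  have cz : ∀ a : Model, z * F.φ a = F.φ a * z := fun a => (F.comm a).symm
  have e2 : y⁻¹ * y⁻¹ = y := by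
    rw [← mul_inv_rev]
    exact inv_eq_of_mul_eq_one_right (by rw [← pow_two, ← pow_succ]; exact hy3)
  have hjy : j * z = y⁻¹ := by
    have e1 : y * z = z * y⁻¹ := by rw [← hyz, ← mul_assoc, ← mul_assoc, hz.1, one_mul]
    calc j * z = y * z * y⁻¹ * z := rfl
      _ = z * (y⁻¹ * y⁻¹) * z := by rw [e1]; group
      _ = y⁻¹ := by rw [e2, hyz]
  have hjz3 : (j * z) ^ 3 = 1 := by rw [hjy, inv_pow, hy3, inv_one]
  have hjne : j ≠ z := fun e => hy1 (by rw [← inv_inv y, ← hjy, e, hz.1, inv_one])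
  have hjcomm : j * z ≠ z * j := fun h => by
    have e2' : (j * z) ^ 2 = 1 := by
      rw [pow_two]
      calc j * z * (j * z) = j * (z * j) * z := by group
        _ = (j * j) * (z * z) := by rw [← h]; group
        _ = 1 := by rw [ij.1, hz.1, one_mul]
    have e1 : j * z = 1 := by simpa using pow_gcd_eq_one.2 ⟨e2', hjz3⟩
    exact hy1 (by rw [← inv_inv y, ← hjy, e1, inv_one])
  refine ⟨hjcomm, ?_⟩
  have hjc : j * c = c * j :=
    Commute.mul_left (Commute.mul_left hyc (cz _)) (Commute.inv_left hyc)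
  have hj3 : j * r3 = r3 * j :=
    Commute.mul_left (Commute.mul_left hyr (cz _)) (Commute.inv_left hyr)
  have hr2c : r2 = c * r3 := by
    rw [hr2, hcdef, hr3, ← map_mul]
    exact congrArg F.φ (Prod.ext (by simp [rf]) (by simp [rf, Trip.f, mul_assoc, hT.i3]))
  have hj2 : j * r2 = r2 * j := by rw [hr2c]; exact Commute.mul_right hjc hj3
  have h13 : r1 * r3 = r3 * r1 := (F.comm_iff _ _).2 (Prod.ext (mul_comm _ _) hT.c13)
  have hx1r : x1 * r3 = r3 * x1 := (F.comm_iff _ _).2 (Prod.ext (mul_comm _ _) hT.c13)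
  have ix1 : Inv2 x1 :=
    ⟨by rw [hx1, ← map_mul, show ((1, T.a1) : Model) * (1, T.a1) = 1 from Prod.ext (one_mul 1) hT.i1, map_one],
      fun e => hT.n1 (congrArg Prod.snd (F.inj (e.trans (map_one _).symm)))⟩
  have x1ne : x1 ≠ r3 := fun e => hone (congrArg Prod.fst (F.inj e)).symm
  have zx1 : z ≠ x1 := fun e => hone (congrArg Prod.fst (F.inj (F.tt_eq.trans e)))
  -- `x1` lies in the simple factor at `r3`
  have hE3x : E r3 x1 := by
    by_contra hn
    have hx : E x1 r3 := (orient H ix1 i3 x1ne hx1r).2 hn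
    obtain ⟨F1⟩ := H.frame x1 ix1
    obtain ⟨a, ha⟩ := F1.surj r3 hx1r.symm
    obtain ⟨b, hb⟩ := F1.surj z (cz _)
    have h1q : x1 * q = q * x1 := (F.comm_iff _ _).2 (Prod.ext rfl hT.c13)
    obtain ⟨d, hd⟩ := F1.surj q h1q.symm
    obtain ⟨sa, na, -⟩ := invol_frame F1 i3 ha
    obtain ⟨sb, nb, -⟩ := invol_frame F1 hz hb
    have iq : Inv2 q :=
      ⟨by rw [hq, ← map_mul, show ((1, T.a3) : Model) * (1, T.a3) = 1 from Prod.ext (one_mul 1) hT.i3, map_one],
        fun e => hT.n3 (congrArg Prod.snd (F.inj (e.trans (map_one _).symm)))⟩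
    obtain ⟨sd, nd, -⟩ := invol_frame F1 iq hd
    have ga : a.1 = 1 := (F1.e_iff sa na).1 (ha ▸ hx)
    have gd : d.1 = 1 := (F1.e_iff sd nd).1 (hd ▸ hor)
    have hEzx : E z x1 := (F.e_iff (Prod.ext (one_mul 1) hT.i1)
      (fun e => hT.n1 (congrArg Prod.snd e))).2 rfl
    have gb : b.1 ≠ 1 := fun h =>
      (orient H hz ix1 zx1 (cz _)).1 hEzx (hb ▸ (F1.e_iff sb nb).2 h)
    have e : a = b * d := F1.inj (by rw [map_mul, ha, hb, hd, hr3, frame_rf])
    rw [e, Prod.fst_mul, gd, mul_one] at ga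
    exact gb ga
  -- the centralizer of `r3`
  obtain ⟨F3⟩ := H.frame r3 i3
  have hz3 : z * r3 = r3 * z := cz _
  obtain ⟨bz, hbz⟩ := F3.surj z hz3
  obtain ⟨bj, hbj⟩ := F3.surj j hj3
  obtain ⟨bx, hbx⟩ := F3.surj x1 hx1r
  have hEz3 : E r3 z := by
    by_contra hn
    exact hnot _ hT.i3 hT.n3 ((orient H hz i3 (hzne _ hT.n3) hz3).2 hn)
  have hEj3 : E r3 j := by
    have e : y * r3 * y⁻¹ = r3 := by rw [hyr, mul_inv_cancel_right]
    have := hEz3.conj y
    rwa [e] at this
  have hjr3 : j ≠ r3 := fun e => hjcomm (by rw [e]; exact hz3.symm)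
  obtain ⟨sz, nz, pz⟩ := invol_frame F3 hz hbz
  obtain ⟨sj, nj, pj⟩ := invol_frame F3 ij hbj
  obtain ⟨sx, nx, px⟩ := invol_frame F3 ix1 hbx
  have fz : bz.1 = 1 := (F3.e_iff sz nz).1 (hbz ▸ hEz3)
  have fj : bj.1 = 1 := (F3.e_iff sj nj).1 (hbj ▸ hEj3)
  have fx : bx.1 = 1 := (F3.e_iff sx nx).1 (hbx ▸ hE3x)
  obtain ⟨Z2, Zn⟩ := pz (hzne _ hT.n3)
  obtain ⟨J2, Jn⟩ := pj hjr3
  have hb1 : F3.φ (bz * bx) = r1 := by rw [map_mul, hbz, hbx, hr1, frame_rf]
  have hr1r3 : r1 ≠ r3 := fun e => hT.n13 (congrArg Prod.snd (F.inj e))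
  obtain ⟨-, -, p1⟩ := invol_frame F3 i1 hb1
  obtain ⟨A2, An⟩ := p1 hr1r3
  have f1 : (bz * bx).1 = 1 := by rw [Prod.fst_mul, fz, fx, mul_one]
  have hZA : bz.2 ≠ (bz * bx).2 := fun e =>
    hzne _ hT.n1 (hbz.symm.trans ((congrArg F3.φ (Prod.ext (fz.trans f1.symm) e)).trans hb1))
  have hJZ : bj.2 ≠ bz.2 := fun e =>
    hjne (hbj.symm.trans ((congrArg F3.φ (Prod.ext (fj.trans fz.symm) e)).trans hbz))
  have hZAc : bz.2 * (bz * bx).2 = (bz * bx).2 * bz.2 :=
    congrArg Prod.snd ((F3.comm_iff bz (bz * bx)).1 (by rw [hbz, hb1]; exact cz _))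
  have hJZ3 : (bj.2 * bz.2) ^ 3 = 1 := by
    have e : (bj * bz) ^ 3 = 1 := F3.inj (by rw [map_pow, map_mul, hbj, hbz, hjz3, map_one])
    exact congrArg Prod.snd e
  have h01 : (j * r1) ^ 5 = 1 := by
    have e : (bj * (bz * bx)) ^ 5 = 1 := by
      refine Prod.ext ?_ ?_
      · simp [fj, fz, fx]
      · exact (triple_orders Z2 Zn A2 An hZA hZAc J2 Jn hJZ hJZ3).1
    rw [← hbj, ← hb1, ← map_mul, ← map_pow, e, map_one]
  have h12 : (r1 * r2) ^ 3 = 1 := by
    rw [hr1, hr2, ← map_mul, ← map_pow, ← map_one F.φ]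
    exact congrArg F.φ (Prod.ext (by simp [rf, hsq2]) hT.o12)
  have hn12 : r1 * r2 ≠ r2 * r1 := fun e => hT.n12 (congrArg Prod.snd ((F.comm_iff _ _).1 e))
  obtain ⟨hu2, hu0, hu1, hu2'⟩ := h3_central ij.1 i1.1 i2.1 hj2 h12 h01
  have hw5 : (j * r1 * r2) ^ 5 = 1 := by
    by_contra hne1
    set u := (j * r1 * r2) ^ 5 with hu
    have iu : Inv2 u := ⟨hu2, hne1⟩
    obtain ⟨Fu⟩ := H.frame u iu
    obtain ⟨-, nu2⟩ := h3_frame Fu ij i2 hu0.symm hu1.symm hu2'.symm h12 h01 hu.symm
    have hu_ne : u ≠ r2 := fun e => hn12 (by rw [← e]; exact hu1.symm)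
    have hEu : E r2 u := (orient H i2 iu hu_ne.symm hu2'.symm).2 nu2
    have hEz2 : E r2 z := by
      by_contra hn
      exact hnot _ hT.i2 hT.n2 ((orient H hz i2 (hzne _ hT.n2) (cz _)).2 hn)
    obtain ⟨F2⟩ := H.frame r2 i2
    obtain ⟨cu, hcu⟩ := F2.surj u hu2'
    obtain ⟨cz', hcz⟩ := F2.surj z (cz _)
    obtain ⟨su, nu, -⟩ := invol_frame F2 iu hcu
    obtain ⟨szz, nzz, -⟩ := invol_frame F2 hz hcz
    have gu : cu.1 = 1 := (F2.e_iff su nu).1 (hcu ▸ hEu)
    have gz : cz'.1 = 1 := (F2.e_iff szz nzz).1 (hcz ▸ hEz2)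
    have hxu : Commute (r1 * r2) u := Commute.mul_left hu1.symm hu2'.symm
    have hxz : Commute (r1 * r2) z := Commute.mul_left (cz _).symm (cz _).symm
    have hxd : Commute (r1 * r2) (u * z) := Commute.mul_right hxu hxz
    have hd2 : Commute (u * z) r2 := Commute.mul_left hu2' (cz _)
    have hx1' : r1 * r2 ≠ 1 := fun e => hn12 (by
      rw [mul_eq_one_iff_eq_inv.1 e, i2.inv])
    have hlift : ∀ n : ℕ, ((cu * cz').2) ^ n = 1 → (u * z) ^ n = 1 := fun n h => by
      rw [← hcu, ← hcz, ← map_mul, ← map_pow, ← map_one F2.φ]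
      exact congrArg F2.φ (Prod.ext (by simp [gu, gz]) h)
    have hnz : ∀ (h : cu.2 * cz'.2 ≠ 1), u * z ≠ 1 := fun h e => by
      rw [← hcu, ← hcz, ← map_mul, ← map_one F2.φ] at e
      exact h (congrArg Prod.snd (F2.inj e))
    rcases invol_prod cu.2 cz'.2 (congrArg Prod.snd su) (congrArg Prod.snd szz) with h | ⟨h, hne⟩ | ⟨h, hne⟩
    · have huz : u * z = z * u := by
        rw [← hcu, ← hcz]; exact (F2.comm_iff _ _).2 (Prod.ext (mul_comm _ _) h)
      obtain ⟨m, hm⟩ := F.surj u huz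
      rcases hT.cent12 m ((F.comm_iff _ _).1 (by rw [hm]; exact hu1))
        ((F.comm_iff _ _).1 (by rw [hm]; exact hu2')) with e | e
      · exact hne1 (by rw [← hm, e, map_one])
      · exact hjcomm (by rw [← F.tt_eq, ← e, hm]; exact hu0.symm)
    · have hm := mem_zpowers_of_commute (by norm_num : Nat.Prime 3) (by rw [H.card]; norm_num)
        h12 (hlift 3 h) (hnz hne) hxd
      obtain ⟨k, hk⟩ := Subgroup.mem_zpowers_iff.1 hm
      have hc : r1 * r2 * r2 = r2 * (r1 * r2) := by rw [← hk]; exact (hd2.zpow_left k).eq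
      rw [mul_assoc r1 r2 r2, i2.1, mul_one] at hc
      refine hn12 ?_
      calc r1 * r2 = r2 * (r1 * r2) * r2 := by rw [← hc]
        _ = r2 * r1 * (r2 * r2) := by group
        _ = r2 * r1 := by rw [i2.1, mul_one]
    · refine no_B' H i2 hz (cz _) (hzne _ hT.n2).symm hEz2 (hlift 5 h) (hnz hne) hd2.eq ?_ h12 hx1'
        hxd.eq hxz.eq ?_
      · calc z * (u * z) * z = z * u * (z * z) := by group
          _ = (u * z)⁻¹ := by rw [hz.1, mul_one, mul_inv_rev, hz.inv, iu.inv]
      · calc r2 * (r1 * r2) * r2 = r2 * r1 * (r2 * r2) := by group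
          _ = (r1 * r2)⁻¹ := by rw [i2.1, mul_one, mul_inv_rev, i1.inv, i2.inv]
  -- the relations
  intro w hw
  set g := genF F T j with hg
  have hsq : ∀ s, g s * g s = 1 := genF_sq F hT ij.1
  have g0 : g 0 = j := rfl
  have g1 : g 1 = r1 := rfl
  have g2 : g 2 = r2 := rfl
  have g3 : g 3 = r3 := rfl
  have ez : ev g zW = z := ev_zW F hT j
  have ezr : ev g zW.reverse = z := by rw [ev_reverse hsq, ez, hz.inv]
  have erep : ∀ (w : List ℕ) (n : ℕ), ev g (List.replicate n w).flatten = ev g w ^ n := by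
    intro w n
    induction n with
    | zero => simp [Coset.ev]
    | succ n ih => rw [List.replicate_succ, List.flatten_cons, ev_append, ih, pow_succ']
  have hcz' : ∀ x : Model, z * F.φ x * (z * F.φ x) = F.φ x * F.φ x := fun x => by
    calc z * F.φ x * (z * F.φ x) = z * (F.φ x * z) * F.φ x := by group
      _ = (z * z) * (F.φ x * F.φ x) := by rw [← cz]; group
      _ = F.φ x * F.φ x := by rw [hz.1, one_mul]
  have e : cA.rels = [[0, 0], [1, 1], [2, 2], [3, 3], [0, 0], (List.replicate 2 [1, 3]).flatten,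
      (List.replicate 3 [1, 2]).flatten, (List.replicate 5 [2, 3]).flatten,
      (List.replicate 10 [1, 2, 3]).flatten, (List.replicate 2 [2, 0]).flatten,
      (List.replicate 2 [3, 0]).flatten, (List.replicate 3 ([0] ++ zW)).flatten,
      zW.reverse ++ [1] ++ zW ++ [1], zW.reverse ++ [2] ++ zW ++ [2], zW.reverse ++ [3] ++ zW ++ [3],
      (List.replicate 5 [0, 1]).flatten, (List.replicate 5 [0, 1, 2]).flatten] := by decide +kernel
  rw [e] at hw
  simp only [List.mem_cons, List.not_mem_nil, or_false] at hw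
  have hcomm2 : ∀ a b : G, a * a = 1 → b * b = 1 → a * b = b * a → a * b * (a * b) = 1 := fun a b ha hb hab => by
    calc a * b * (a * b) = a * (b * a) * b := by group
      _ = (a * a) * (b * b) := by rw [← hab]; group
      _ = 1 := by rw [ha, hb, one_mul]
  rcases hw with rfl | rfl | rfl | rfl | rfl | rfl | rfl | rfl | rfl | rfl | rfl | rfl | rfl | rfl |
    rfl | rfl | rfl
  · simpa [Coset.ev] using hsq 0
  · simpa [Coset.ev] using hsq 1
  · simpa [Coset.ev] using hsq 2
  · simpa [Coset.ev] using hsq 3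
  · simpa [Coset.ev] using hsq 0
  · rw [erep, pow_two]; simp only [Coset.ev, mul_one, g1, g3]; exact hcomm2 _ _ i1.1 i3.1 h13
  · rw [erep]; simp only [Coset.ev, mul_one, g1, g2]; exact h12
  · rw [erep]; simp only [Coset.ev, mul_one, g2, g3]
    rw [hr2, hr3, ← map_mul, ← map_pow, ← map_one F.φ]
    exact congrArg F.φ (Prod.ext (by simp [rf, hsq2]) hT.o23)
  · have h5 : ev g [1, 2, 3] ^ 5 = z := by rw [← erep, ← ez]; rfl
    rw [erep, show (10 : ℕ) = 5 * 2 from rfl, pow_mul, h5, pow_two, hz.1]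
  · rw [erep, pow_two]; simp only [Coset.ev, mul_one, g0, g2]; exact hcomm2 _ _ i2.1 ij.1 hj2.symm
  · rw [erep, pow_two]; simp only [Coset.ev, mul_one, g0, g3]; exact hcomm2 _ _ i3.1 ij.1 hj3.symm
  · rw [erep, ev_append, ez]; simpa only [Coset.ev, mul_one, g0] using hjz3
  · simp only [ev_append, ezr, ez]; simp only [Coset.ev, mul_one, g1]
    rw [hr1, mul_assoc (z * _), hcz', i1.1]
  · simp only [ev_append, ezr, ez]; simp only [Coset.ev, mul_one, g2]
    rw [hr2, mul_assoc (z * _), hcz', i2.1]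
  · simp only [ev_append, ezr, ez]; simp only [Coset.ev, mul_one, g3]
    rw [hr3, mul_assoc (z * _), hcz', i3.1]
  · rw [erep]; simpa only [Coset.ev, mul_one, g0, g1] using h01
  · rw [erep]; simp only [Coset.ev, mul_one, g0, g1, g2, ← mul_assoc]; exact hw5

theorem sigma_ne : sigma 0 ≠ 1 := by
  have h : cA.tgt 0 0 ≠ 0 := by decide +kernel
  intro e
  have := congrArg (fun p : Equiv.Perm (Fin cA.N) => (p ⟨0, by decide⟩).val) e
  simp only [sigma, dif_pos (show 0 < cA.n by decide)] at this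
  exact h this

/-- A simple group satisfying the hypotheses is the standard permutation group. -/
theorem iso_standard [IsSimpleGroup G] (H : Hyp G) : Nonempty (G ≃* PJ) := by
  classical
  obtain ⟨z, hz⟩ : ∃ z : G, Inv2 z := by
    haveI : Fact (Nat.Prime 2) := ⟨Nat.prime_two⟩
    obtain ⟨z, hz⟩ := exists_prime_orderOf_dvd_card' (G := G) 2 (by rw [H.card]; norm_num)
    refine ⟨z, ?_, fun e => ?_⟩
    · rw [← pow_two, ← hz, pow_orderOf_eq_one]
    · rw [e, orderOf_one] at hz; norm_num at hz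
  obtain ⟨F, T, j, hT, hjj, hjz, hrels⟩ := exists_gens H hz
  set g := genF F T j with hg
  set C := Subgroup.centralizer ({z} : Set G) with hC
  have hCmem : ∀ a : Model, F.φ a ∈ C := fun a =>
    Subgroup.mem_centralizer_singleton_iff.2 (F.comm a)
  have hsub : ∀ w ∈ cA.sub, ev g w ∈ C := by
    intro w hw
    have h : w = [1] ∨ w = [2] ∨ w = [3] := by
      rw [show cA.sub = [[1], [2], [3]] from rfl] at hw
      simpa using hw
    rcases h with rfl | rfl | rfl <;>
      (rw [hg, ev_genF F T j _ (by decide)]; exact hCmem _)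
  have hsq : ∀ s, g s * g s = 1 := genF_sq F hT hjj
  have hall := cA.holds_all g cA_check (H := C) (fun s _ => hsq s) hrels hsub
  have hg0 : g 0 ∉ C := fun h => hjz (Subgroup.mem_centralizer_singleton_iff.1 h)
  have hinjc := sep_inj cA_act (S := cASep)
    (fun b hb => List.all_eq_true.1 cA_sep b (List.mem_range.2 hb)) hall (by decide) hg0
  have hCcard : Nat.card C = 120 := by
    have e : Nat.card C = Nat.card Model := (Nat.card_congr (Equiv.ofBijective
      (fun a : Model => (⟨F.φ a, hCmem a⟩ : C))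
      ⟨fun a b h => F.inj (congrArg Subtype.val h), fun x => by
        obtain ⟨a, ha⟩ := F.surj x (Subgroup.mem_centralizer_singleton_iff.1 x.2)
        exact ⟨a, Subtype.ext ha⟩⟩)).symm
    rw [e, Nat.card_eq_fintype_card, card_model]
  let f : Fin cA.N → G ⧸ C := fun b => QuotientGroup.mk (cA.rep g b)⁻¹
  have hfinj : Function.Injective f := fun a b h => by
    refine Fin.ext (hinjc a a.isLt b b.isLt ?_)
    have := QuotientGroup.eq.1 h
    rw [inv_inv] at this
    exact this
  have hindex : C.index = 1463 := by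
    have h := C.card_mul_index
    rw [hCcard, H.card] at h
    omega
  have hfbij : Function.Bijective f := by
    refine hfinj.bijective_of_nat_card_le ?_
    rw [← Subgroup.index_eq_card, hindex, Nat.card_eq_fintype_card, Fintype.card_fin]
    rfl
  let e := Equiv.ofBijective f hfbij
  let Φ : G →* Equiv.Perm (Fin cA.N) :=
    e.symm.permCongrHom.toMonoidHom.comp (MulAction.toPermHom G (G ⧸ C))
  have hΦ : ∀ s < cA.n, Φ (g s) = sigma s := by
    intro s hs
    ext b
    have ht := ((act_row cA_act b.isLt).1 s hs).1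
    have h1 : g s • f b = f ⟨cA.tgt b s, ht⟩ := by
      show QuotientGroup.mk (g s * (cA.rep g b)⁻¹) = QuotientGroup.mk (cA.rep g (cA.tgt b s))⁻¹
      rw [QuotientGroup.eq, mul_inv_rev, inv_inv, inv_eq_of_mul_eq_one_right (hsq s)]
      exact hall b b.isLt s hs
    have h2 : Φ (g s) b = ⟨cA.tgt b s, ht⟩ := by
      show e.symm (g s • e b) = _
      rw [Equiv.symm_apply_eq]
      exact h1
    rw [h2]
    simp [sigma, hs]
  have hΦinj : Function.Injective Φ := by
    rw [← MonoidHom.ker_eq_bot_iff]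
    rcases IsSimpleGroup.eq_bot_or_eq_top_of_normal Φ.ker inferInstance with h | h
    · exact h
    · exfalso
      apply sigma_ne
      rw [← hΦ 0 (by decide)]
      exact MonoidHom.mem_ker.1 (h ▸ Subgroup.mem_top (g 0))
  have hgen : Subgroup.closure {x | ∃ s < cA.n, g s = x} = ⊤ := by
    rw [eq_top_iff]
    intro x _
    set K := Subgroup.closure {x | ∃ s < cA.n, g s = x}
    have hgK : ∀ s < cA.n, g s ∈ K := fun s hs => Subgroup.subset_closure ⟨s, hs, rfl⟩
    have hCK : C ≤ K := fun x hx => by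
      obtain ⟨a, rfl⟩ := F.surj x (Subgroup.mem_centralizer_singleton_iff.1 hx)
      obtain ⟨w, hw, rfl⟩ := hT.cover a
      have hlt : ∀ s ∈ w, s ≠ 0 ∧ s < cA.n := fun s hs => by
        rcases hT.wlt w hw s hs with rfl | rfl | rfl <;> exact ⟨by norm_num, by decide⟩
      rw [← ev_genF F T j w fun s hs => (hlt s hs).1]
      exact ev_mem w fun s hs => hgK s (hlt s hs).2
    have hrep : ∀ fu b, b ≤ fu → cA.repAux g fu b ∈ K := by
      intro fu
      induction fu with
      | zero => intro b _; exact K.one_mem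
      | succ fu ih =>
        intro b _
        simp only [Coset.Cert.repAux]
        split_ifs
        · exact K.one_mem
        · refine K.mul_mem ?_ (hgK _ (Nat.mod_lt _ (by decide)))
          rcases Nat.lt_or_ge fu (cA.par b / cA.n) with h | h
          · have : ∀ f b, cA.repAux g f b ∈ K := by
              intro f
              induction f with
              | zero => intro b; exact K.one_mem
              | succ f ih' =>
                intro b
                simp only [Coset.Cert.repAux]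
                split_ifs
                · exact K.one_mem
                · exact K.mul_mem (ih' _) (hgK _ (Nat.mod_lt _ (by decide)))
            exact this _ _
          · exact ih _ h
    obtain ⟨b, hb⟩ := hfbij.2 (QuotientGroup.mk x)
    have h := QuotientGroup.eq.1 hb
    rw [inv_inv] at h
    have : cA.rep g b * x ∈ K := hCK h
    have h2 := K.mul_mem (K.inv_mem (hrep b b le_rfl)) this
    simpa [Coset.Cert.rep] using h2
  have hrange : Φ.range = PJ := by
    rw [MonoidHom.range_eq_map, ← hgen, MonoidHom.map_closure, PJ]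
    congr 1
    ext p
    constructor
    · rintro ⟨x, ⟨s, hs, rfl⟩, rfl⟩; exact ⟨s, hs, (hΦ s hs).symm⟩
    · rintro ⟨s, hs, rfl⟩; exact ⟨g s, ⟨s, hs, rfl⟩, hΦ s hs⟩
  exact ⟨(MonoidHom.ofInjective hΦinj).trans (MulEquiv.subgroupCongr hrange)⟩

/-- Two simple groups satisfying the hypotheses are isomorphic. -/
theorem iso {K : Type v} [Group K] [Finite K] [IsSimpleGroup G] [IsSimpleGroup K] (HG : Hyp G)
    (HK : Hyp K) : Nonempty (G ≃* K) := by
  obtain ⟨a⟩ := iso_standard HG
  obtain ⟨b⟩ := iso_standard HK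
  exact ⟨a.trans b.symm⟩

/-- The hypotheses from an involution centralizer. -/
theorem hyp_of_centralizer [IsSimpleGroup G] (t : G) (ht : Cfsg.IsTwoCentralInvolution t)
    (e : Subgroup.centralizer ({t} : Set G) ≃* Model) : Hyp G := by
  obtain ⟨S, rfl⟩ := Char.JankoOne.nonempty_setting t ht e
  refine ⟨fun p hp => ?_, Char.JankoOne.card_eq S.t ht e, fun p q hp hq =>
    (S.conj_involution hp.1 hp.2).symm.trans (S.conj_involution hq.1 hq.2)⟩
  obtain ⟨c, hc⟩ := isConj_iff.1 (S.conj_involution hp.1 hp.2)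
  let F0 : Frame S.t :=
    { φ := S.ι, inj := S.ι_injective, tt_eq := S.ι_tt,
      surj := fun x hx => S.mem_range (Subgroup.mem_centralizer_singleton_iff.2 hx) }
  subst hc
  exact ⟨F0.conj c⟩

/-- In a group of this order an involution with this centralizer is 2-central. -/
theorem two_central (hcard : Nat.card G = 175560) (t : G) (ht : orderOf t = 2)
    (e : Subgroup.centralizer ({t} : Set G) ≃* Model) : Cfsg.IsTwoCentralInvolution t := by
  classical
  refine ⟨ht, ?_⟩
  haveI : Fact (Nat.Prime 2) := ⟨Nat.prime_two⟩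
  set C := Subgroup.centralizer ({t} : Set G) with hC
  obtain ⟨Q⟩ : Nonempty (Sylow 2 C) := inferInstance
  have hQ : Nat.card (Q : Subgroup C) = 8 := by
    rw [Sylow.card_eq_multiplicity, Nat.card_congr e.toEquiv, Nat.card_eq_fintype_card, card_model,
      show (120 : ℕ) = 2 ^ 3 * 15 by norm_num,
      Nat.factorization_mul (by norm_num) (by norm_num), Finsupp.add_apply,
      Nat.Prime.factorization_pow Nat.prime_two, Finsupp.single_eq_same,
      Nat.factorization_eq_zero_of_not_dvd (by norm_num)]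
    norm_num
  let tC : C := ⟨t, Subgroup.mem_centralizer_singleton_iff.2 rfl⟩
  have hcen : ∀ x : C, x * tC = tC * x := fun x =>
    Subtype.ext (Subgroup.mem_centralizer_singleton_iff.1 x.2)
  have htQ : tC ∈ (Q : Subgroup C) := by
    have hn : (Subgroup.zpowers tC).Normal := ⟨fun a ha x => by
      obtain ⟨k, rfl⟩ := Subgroup.mem_zpowers_iff.1 ha
      rw [(Commute.zpow_right (hcen x) k).eq, mul_inv_cancel_right]
      exact ha⟩
    have hp : IsPGroup 2 (Subgroup.zpowers tC) := IsPGroup.of_card (n := 1) (by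
      rw [Nat.card_zpowers, ← Subgroup.orderOf_coe, ht, pow_one])
    obtain ⟨P, hP⟩ := hp.exists_le_sylow
    obtain ⟨x, hx⟩ := MulAction.exists_smul_eq C P Q
    rw [← hx, Sylow.coe_subgroup_smul, Subgroup.mem_pointwise_smul_iff_inv_smul_mem]
    have : x⁻¹ * tC * x = tC := by rw [mul_assoc, ← hcen x, inv_mul_cancel_left]
    simpa [MulAut.conj_apply, this] using hP (Subgroup.mem_zpowers tC)
  have hf : (175560 : ℕ).factorization 2 = 3 := by
    rw [show (175560 : ℕ) = 2 ^ 3 * 21945 by norm_num,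
      Nat.factorization_mul (by norm_num) (by norm_num), Finsupp.add_apply,
      Nat.Prime.factorization_pow Nat.prime_two, Finsupp.single_eq_same,
      Nat.factorization_eq_zero_of_not_dvd (by norm_num), add_zero]
  refine ⟨Sylow.ofCard ((Q : Subgroup C).map C.subtype)
    (by rw [Subgroup.card_subtype, hQ, hcard, hf]; norm_num), ?_, ?_⟩
  · exact ⟨tC, htQ, rfl⟩
  · rintro x ⟨y, -, rfl⟩
    exact congrArg Subtype.val (hcen y)

end Cfsg.Agent.J1U
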