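import Cfsg.Agent.Lib.Invol.J1.OrdCentral
import Cfsg.Agent.Lib.Invol.J1.Main
import Cfsg.Agent.Lib.Fus.SmallSimple

/-! An involution centralizer in a simple group of order 175560 is `2 × A₅`. -/

set_option autoImplicit false
set_option linter.unusedSectionVars false
set_option linter.style.haveILetI false

namespace Cfsg.Agent.J1U.Ord

open Cfsg Cfsg.Agent.Block
open Cfsg.Agent.Char.JankoOne (Model)
open scoped commutatorElement

universe u

/-- A quotient of order four is commutative. -/
theorem commutator_le_of_index_four {C : Type u} [Group C] [Finite C] (M : Subgroup C) [M.Normal]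
    (h : M.index = 4) : commutator C ≤ M := by
  haveI : Fact (Nat.Prime 2) := ⟨Nat.prime_two⟩
  have hc : IsMulCommutative (C ⧸ M) :=
    IsPGroup.isMulCommutative_of_card_eq_prime_sq (p := 2) (by rw [← Subgroup.index_eq_card, h]; norm_num)
  rw [commutator_def, Subgroup.commutator_le]
  intro x _ y _
  rw [← QuotientGroup.eq_one_iff, commutatorElement_def]
  show ((x * y * x⁻¹ * y⁻¹ : C) : C ⧸ M) = 1
  simp only [QuotientGroup.mk_mul, QuotientGroup.mk_inv]
  rw [hc.is_comm.comm (x : C ⧸ M) (y : C ⧸ M)]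
  group

variable {G : Type u} [Group G] [Finite G] [IsSimpleGroup G] (h : Nat.card G = 175560)
include h

variable {S : Sylow 2 G} {t a : G}

omit h in
/-- The central involution inside its centralizer. -/
def tC (t : G) : Cen t := ⟨t, Subgroup.mem_centralizer_singleton_iff.2 rfl⟩

omit h in
theorem tC_comm (x : Cen t) : x * tC t = tC t * x :=
  Subtype.ext (Subgroup.mem_centralizer_singleton_iff.1 x.2)

/-- A normal subgroup avoiding `t` is trivial or of order 60 or of order 30. -/
theorem normal_cases (c : Ctx S t a) (M : Subgroup (Cen t)) [hM : M.Normal] (htM : tC t ∉ M) :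
    M = ⊥ ∨ Nat.card M = 60 ∨ (Nat.card M = 30 ∧ M.index = 4) := by
  classical
  haveI : Fact (Nat.Prime 2) := ⟨Nat.prime_two⟩
  haveI : Fact (Nat.Prime 5) := ⟨by norm_num⟩
  have hC := card_cen_eq h S c.ht c.ht1
  have hMC : Nat.card M * M.index = 120 := by rw [Subgroup.card_mul_index, hC]
  have h8 : ¬ 8 ∣ Nat.card M := by
    intro h8
    obtain ⟨Q, hQ⟩ := Sylow.exists_subgroup_card_pow_prime (G := M) 2 (n := 3) (by norm_num; exact h8)
    set R := Q.map M.subtype with hR
    have hRc : Nat.card R = 8 := by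
      rw [hR, Subgroup.card_map_of_injective M.subtype_injective, hQ]; norm_num
    let T : Sylow 2 (Cen t) := Sylow.ofCard R (by
      rw [hRc, hC, show (120 : ℕ) = 2 ^ 3 * 15 by norm_num,
        Nat.factorization_mul (by norm_num) (by norm_num), Finsupp.add_apply,
        Nat.Prime.factorization_pow Nat.prime_two, Finsupp.single_eq_same,
        Nat.factorization_eq_zero_of_not_dvd (by norm_num)]
      norm_num)
    have hz : IsPGroup 2 (Subgroup.zpowers (tC t)) := IsPGroup.of_card (n := 1) (by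
      rw [Nat.card_zpowers, tC, Subgroup.orderOf_mk, sylow_inv h S c.ht c.ht1, pow_one])
    have hle : (T : Subgroup (Cen t)) ≤ Subgroup.normalizer ((Subgroup.zpowers (tC t) : Subgroup (Cen t)) : Set (Cen t)) :=
      fun x _ => cen_le_nor _ (Subgroup.mem_centralizer_singleton_iff.2 (tC_comm x))
    have e := T.3 (IsPGroup.to_sup_of_normal_left' hz T.isPGroup' hle) le_sup_right
    have hmem : tC t ∈ (T : Subgroup (Cen t)) := e ▸
      (le_sup_left : _ ≤ Subgroup.zpowers (tC t) ⊔ (T : Subgroup (Cen t))) (Subgroup.mem_zpowers _)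
    exact htM ((Subgroup.map_subtype_le Q) hmem)
  obtain ⟨x, hx⟩ := exists_prime_orderOf_dvd_card' (G := Cen t) 5 (by rw [hC]; norm_num)
  obtain ⟨h1, h2, h3, h4, h2p, hex⟩ := sylow_data h c (k := 1) (by norm_num : Nat.Prime 5) (by norm_num)
    (by rw [hC]) hx
  rw [(idx_cases h4 h1 h3).2.2.2.2.2.2 rfl rfl] at h2
  have hN : Nat.card (Nor x) = 20 := by omega
  have hMd : Nat.card M ∣ 120 := Dvd.intro _ hMC
  by_cases h5 : 5 ∣ Nat.card M
  · right
    obtain ⟨⟨x', hx'M⟩, hx'⟩ := exists_prime_orderOf_dvd_card' (G := M) 5 h5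
    rw [Subgroup.orderOf_mk] at hx'
    obtain ⟨h1', h2', h3', h4', -, -⟩ := sylow_data h c (k := 1) (by norm_num : Nat.Prime 5) (by norm_num)
      (by rw [hC]) hx'
    rw [(idx_cases h4' h1' h3').2.2.2.2.2.2 rfl rfl] at h2'
    -- Frattini
    let P : Sylow 5 M := Sylow.ofCard (Subgroup.zpowers (⟨x', hx'M⟩ : M)) (by
      rw [Nat.card_zpowers, Subgroup.orderOf_mk, hx']
      have h1 : 1 ≤ (Nat.card M).factorization 5 :=
        ((by norm_num : Nat.Prime 5).dvd_iff_one_le_factorization Nat.card_pos.ne').1 h5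
      have h2 : (Nat.card M).factorization 5 < 2 := by
        by_contra hge
        push Not at hge
        have h25 := (((by norm_num : Nat.Prime 5).pow_dvd_iff_le_factorization Nat.card_pos.ne').2 hge).trans hMd
        norm_num at h25
      rw [show (Nat.card M).factorization 5 = 1 by omega, pow_one])
    have hfr := Sylow.normalizer_sup_eq_top P
    rw [show (P : Subgroup M).map M.subtype = Subgroup.zpowers x' from by
      show (Subgroup.zpowers (⟨x', hx'M⟩ : M)).map M.subtype = _
      rw [MonoidHom.map_zpowers]; rfl] at hfr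
    have e1 : M.relIndex (Nor x') = M.index := by
      rw [← Subgroup.relIndex_sup_right, hfr, Subgroup.relIndex_top_right]
    have h5' : 5 ∣ Nat.card ↥(M ⊓ Nor x') := by
      rw [← hx']
      exact Subgroup.orderOf_dvd_natCard _ ⟨hx'M, Subgroup.le_normalizer (Subgroup.mem_zpowers x')⟩
    have e2 : Nat.card ↥(M ⊓ Nor x') * M.index = Nat.card (Nor x') := by
      rw [← e1, Subgroup.relIndex, ← Nat.card_congr (Subgroup.subgroupOfEquivOfLe
        (inf_le_right : M ⊓ Nor x' ≤ Nor x')).toEquiv, Subgroup.inf_subgroupOf_right,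
        Subgroup.card_mul_index]
    obtain ⟨j, hj⟩ := h5'
    rw [hj, show Nat.card (Nor x') = 20 by omega] at e2
    have hi4 : M.index ∣ 4 := ⟨j, by
      refine Nat.eq_of_mul_eq_mul_left (show 0 < 5 by norm_num) ?_
      rw [show (5 : ℕ) * 4 = 20 by norm_num, ← e2]; ring⟩
    obtain ⟨i, hi, e⟩ := (Nat.dvd_prime_pow Nat.prime_two).1 (show M.index ∣ 2 ^ 2 from hi4)
    rw [e] at hMC ⊢
    interval_cases i
    · exfalso; exact h8 ⟨15, by omega⟩
    · left; omega
    · right; omega
  left
  rw [← Subgroup.card_eq_one]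
  by_contra hne1
  obtain ⟨V⟩ : Nonempty (Sylow 2 M) := inferInstance
  set V' := (V : Subgroup M).map M.subtype with hV'
  have hVc : Nat.card V' = Nat.card (V : Subgroup M) :=
    Subgroup.card_map_of_injective M.subtype_injective
  obtain ⟨i, hi⟩ := IsPGroup.iff_card.1 V.isPGroup'
  have hi2 : i ≤ 2 := by
    by_contra hi3
    refine h8 (dvd_trans ?_ (hi ▸ (V : Subgroup M).card_subgroup_dvd_card))
    exact (show (8 : ℕ) = 2 ^ 3 by norm_num) ▸ pow_dvd_pow 2 (by omega : 3 ≤ i)
  have h5i : 5 ∣ M.index := ((by norm_num : Nat.Prime 5).dvd_mul.1 (hMC ▸ (by norm_num : 5 ∣ 120))).resolve_left h5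
  have hfr : Subgroup.normalizer (V' : Set (Cen t)) ⊔ M = ⊤ := Sylow.normalizer_sup_eq_top V
  have h5N : 5 ∣ Nat.card (Subgroup.normalizer (V' : Set (Cen t))) := by
    refine h5i.trans ?_
    rw [← Subgroup.relIndex_top_right (H := M), ← hfr, Subgroup.relIndex_sup_right]
    exact Subgroup.relIndex_dvd_card M _
  obtain ⟨⟨y, hyN⟩, hy⟩ := exists_prime_orderOf_dvd_card' 5 h5N
  rw [Subgroup.orderOf_mk] at hy
  rcases (by omega : i = 0 ∨ i = 1 ∨ i = 2) with rfl | rfl | rfl
  · -- odd order
    have h2M : ¬ 2 ∣ Nat.card M := by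
      intro hd
      have h1 := V.card_eq_multiplicity
      rw [hi] at h1
      have h2 : 1 ≤ (Nat.card M).factorization 2 :=
        (Nat.prime_two.dvd_iff_one_le_factorization Nat.card_pos.ne').1 hd
      have := Nat.pow_right_injective (le_refl 2) h1
      omega
    have h3M : Nat.card M ∣ 3 := by
      refine Nat.Coprime.dvd_of_dvd_mul_left (?_ : Nat.Coprime (Nat.card M) 40) (show Nat.card M ∣ 40 * 3 from hMd)
      rw [show (40 : ℕ) = 2 ^ 3 * 5 by norm_num]
      exact Nat.Coprime.mul_right ((Nat.prime_two.coprime_iff_not_dvd.2 h2M).symm.pow_right 3)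
        ((Nat.Prime.coprime_iff_not_dvd (by norm_num : Nat.Prime 5)).2 h5).symm
    have h3' := ((Nat.dvd_prime Nat.prime_three).1 h3M).resolve_left hne1
    haveI : Fact (Nat.Prime 3) := ⟨Nat.prime_three⟩
    obtain ⟨⟨z, hzM⟩, hz⟩ := exists_prime_orderOf_dvd_card' (G := M) 3 (by rw [h3'])
    rw [Subgroup.orderOf_mk] at hz
    have he : Subgroup.zpowers z = M :=
      Subgroup.eq_of_le_of_card_ge (Subgroup.zpowers_le.2 hzM) (by rw [Nat.card_zpowers, hz, h3'])
    refine no_prime h c Nat.prime_three (by norm_num) hz ?_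
    rw [Nor, he]
    exact Subgroup.normalizer_eq_top_iff.2 hM
  · -- an involution centralized by `y`
    obtain ⟨v, hvu⟩ : ∃ v : V', v ≠ 1 ∧ ∀ w : V', w ≠ 1 → w = v := by
      obtain ⟨v, h1, h2⟩ := Nat.card_eq_two_iff' (1 : V') |>.1 (by rw [hVc, hi]; norm_num)
      exact ⟨v, h1, h2⟩
    have hvy : y * (v : Cen t) * y⁻¹ = v := by
      have hmem := (Subgroup.mem_normalizer_iff.1 hyN (v : Cen t)).1 v.2
      refine congrArg Subtype.val (hvu.2 ⟨_, hmem⟩ fun e => hvu.1 ?_)
      have e' := congrArg Subtype.val e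
      simp only [OneMemClass.coe_one, conj_eq_one_iff] at e'
      exact Subtype.ext e'
    have hvM : (v : Cen t) ∈ M := Subgroup.map_subtype_le _ v.2
    have hv2 : orderOf (v : Cen t) = 2 := by
      rw [Subgroup.orderOf_coe]
      have hd := orderOf_dvd_natCard v
      rw [hVc, hi, pow_one] at hd
      exact ((Nat.dvd_prime Nat.prime_two).1 hd).resolve_left fun e => hvu.1 (orderOf_eq_one_iff.1 e)
    obtain ⟨-, hy2, hy3, hy4, hy2p, hyex⟩ := sylow_data h c (k := 1) (by norm_num : Nat.Prime 5) (by norm_num)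
      (by rw [hC]) hy
    have hidx : (Nor y).index = 6 :=
      (idx_cases hy4 (nor_count (by norm_num : Nat.Prime 5) hy hyex).1 hy3).2.2.2.2.2.2 rfl rfl
    rw [hidx] at hy2
    refine no_self h c (by norm_num : Nat.Prime 5) (by norm_num) hy hyex ?_
    rw [show Nat.card (Nor y) = 20 by omega]
    -- a four-group in the centralizer of `y`
    have hcyv : Commute y (v : Cen t) := mul_inv_eq_iff_eq_mul.1 hvy
    have h4 : 4 ∣ Nat.card (Cen y) := by
      cases nonempty_fintype (Cen t)
      by_contra h4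
      -- the two involutions generate commuting subgroups of order two
      set A := Subgroup.zpowers (tC t) with hA
      set B := Subgroup.zpowers (v : Cen t) with hB
      have hAB : A ⊔ B ≤ Cen y := sup_le
        (Subgroup.zpowers_le.2 (Subgroup.mem_centralizer_singleton_iff.2 (tC_comm y).symm))
        (Subgroup.zpowers_le.2 (Subgroup.mem_centralizer_singleton_iff.2 hcyv.symm.eq))
      have hAn : B ≤ Subgroup.normalizer (A : Set (Cen t)) :=
        fun w _ => cen_le_nor _ (Subgroup.mem_centralizer_singleton_iff.2 (tC_comm w))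
      have hto : orderOf (tC t) = 2 := by
        rw [tC, Subgroup.orderOf_mk]; exact sylow_inv h S c.ht c.ht1
      have hp := IsPGroup.to_sup_of_normal_left'
        (IsPGroup.of_card (n := 1) (by rw [Nat.card_zpowers, hto, pow_one]) : IsPGroup 2 A)
        (IsPGroup.of_card (n := 1) (by rw [Nat.card_zpowers, hv2, pow_one]) : IsPGroup 2 B) hAn
      obtain ⟨r, hr⟩ := IsPGroup.iff_card.1 hp
      refine h4 (dvd_trans ?_ (Subgroup.card_dvd_of_le hAB))
      rw [hr]
      rw [show (4 : ℕ) = 2 ^ 2 by norm_num]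
      refine pow_dvd_pow 2 ?_
      by_contra hlt
      have hAe : A = A ⊔ B := Subgroup.eq_of_le_of_card_ge le_sup_left (by
        rw [hr, Nat.card_zpowers, hto]
        calc 2 ^ r ≤ 2 ^ 1 := Nat.pow_le_pow_right (by norm_num) (by omega)
          _ = 2 := pow_one 2)
      have hBA : B = A := Subgroup.eq_of_le_of_card_ge (hAe.symm ▸ le_sup_right)
        (by rw [Nat.card_zpowers, Nat.card_zpowers, hto, hv2])
      refine htM ?_
      have : tC t ∈ B := hBA.symm ▸ Subgroup.mem_zpowers _
      exact (Subgroup.zpowers_le.2 hvM) this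
    exact Nat.Coprime.mul_dvd_of_dvd_of_dvd (m := 4) (n := 5) (by norm_num) h4 ((dvd_mul_left 5 2).trans hy2p)
  · -- `V' ⊔ ⟨t⟩` is a Sylow subgroup normalized by `y`
    set A := Subgroup.zpowers (tC t) with hA
    have hto : orderOf (tC t) = 2 := by
      rw [tC, Subgroup.orderOf_mk]; exact sylow_inv h S c.ht c.ht1
    have hAn : V' ≤ Subgroup.normalizer (A : Set (Cen t)) :=
      fun w _ => cen_le_nor _ (Subgroup.mem_centralizer_singleton_iff.2 (tC_comm w))
    have hVp : IsPGroup 2 V' := IsPGroup.of_card (n := 2) (hVc.trans hi)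
    have hp := IsPGroup.to_sup_of_normal_left'
      (IsPGroup.of_card (n := 1) (by rw [Nat.card_zpowers, hto, pow_one]) : IsPGroup 2 A) hVp hAn
    obtain ⟨T, hT⟩ := hp.exists_le_sylow
    have hT8 : Nat.card (T : Subgroup (Cen t)) = 8 := by
      rw [T.card_eq_multiplicity, hC, show (120 : ℕ) = 2 ^ 3 * 15 by norm_num,
        Nat.factorization_mul (by norm_num) (by norm_num), Finsupp.add_apply,
        Nat.Prime.factorization_pow Nat.prime_two, Finsupp.single_eq_same,
        Nat.factorization_eq_zero_of_not_dvd (by norm_num)]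
      norm_num
    have hlt : ¬ Nat.card ↥(A ⊔ V') ≤ 4 := by
      intro hle
      have hVe : V' = A ⊔ V' := Subgroup.eq_of_le_of_card_ge le_sup_right (by rw [hVc, hi]; omega)
      refine htM (Subgroup.map_subtype_le (V : Subgroup M) ?_)
      show tC t ∈ V'
      rw [hVe]
      exact (le_sup_left : A ≤ A ⊔ V') (Subgroup.mem_zpowers _)
    obtain ⟨r, hr⟩ := IsPGroup.iff_card.1 hp
    have hTe : A ⊔ V' = (T : Subgroup (Cen t)) := Subgroup.eq_of_le_of_card_ge hT (by
      rw [hT8]
      rcases Nat.lt_or_ge r 3 with hr3 | hr3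
      · exfalso
        refine hlt (hr ▸ ?_)
        calc 2 ^ r ≤ 2 ^ 2 := Nat.pow_le_pow_right (by norm_num) (by omega)
          _ = 4 := by norm_num
      · rw [hr]
        calc 8 = 2 ^ 3 := by norm_num
          _ ≤ 2 ^ r := Nat.pow_le_pow_right (by norm_num) hr3)
    have hyT : y ∈ Subgroup.normalizer ((T : Subgroup (Cen t)) : Set (Cen t)) := by
      rw [← hTe]
      have hmap : ∀ H : Subgroup (Cen t), y ∈ Subgroup.normalizer (H : Set (Cen t)) →
          H.map (MulAut.conj y).toMonoidHom = H := by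
        intro H hH
        refine Subgroup.eq_of_le_of_card_ge ?_ (le_of_eq (Subgroup.card_map_of_injective (MulAut.conj y).injective).symm)
        rintro _ ⟨w, hw, rfl⟩
        exact (Subgroup.mem_normalizer_iff.1 hH w).1 hw
      have hAy : y ∈ Subgroup.normalizer (A : Set (Cen t)) :=
        cen_le_nor _ (Subgroup.mem_centralizer_singleton_iff.2 (tC_comm y))
      have e : (A ⊔ V').map (MulAut.conj y).toMonoidHom = A ⊔ V' := by
        rw [Subgroup.map_sup, hmap A hAy, hmap V' hyN]
      refine Subgroup.mem_normalizer_iff.2 fun w => ⟨fun hw => e ▸ ⟨w, hw, rfl⟩, fun hw => ?_⟩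
      rw [← e] at hw
      obtain ⟨u, hu, eu⟩ := hw
      exact (MulAut.conj y).injective eu ▸ hu
    have h1 := Subgroup.orderOf_dvd_natCard _ hyT
    rw [hy, card_normalizer_two h c T] at h1
    norm_num at h1

theorem comm_facts (c : Ctx S t a) :
    Nat.card (commutator (Cen t)) = 60 := by
  classical
  haveI : Fact (Nat.Prime 2) := ⟨Nat.prime_two⟩
  have hC := card_cen_eq h S c.ht c.ht1
  have haC : a ∈ Cen t := Subgroup.mem_centralizer_singleton_iff.2 c.hat
  have hSC := sylow_le_cen h S c.ht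
  have hV : ∀ s ∈ (S : Subgroup G), a * s * a⁻¹ * s⁻¹ ∈ (commutator (Cen t)).map (Cen t).subtype :=
    fun s hs => ⟨⁅(⟨a, haC⟩ : Cen t), ⟨s, hSC hs⟩⁆,
      Subgroup.commutator_mem_commutator (Subgroup.mem_top _) (Subgroup.mem_top _),
      by simp [commutatorElement_def]⟩
  have hnt : tC t ∉ commutator (Cen t) := not_comm_t h c
  set K := ((commutator (Cen t)).map (Cen t).subtype) ⊓ (S : Subgroup G) with hK
  have hsub := eq_sylow h c (K ⊔ Subgroup.zpowers t)
    (sup_le inf_le_right (Subgroup.zpowers_le.2 c.ht))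
    ((le_sup_right : _ ≤ K ⊔ Subgroup.zpowers t) (Subgroup.mem_zpowers t))
    (fun s hs => (le_sup_left : K ≤ K ⊔ Subgroup.zpowers t) ⟨hV s hs, comm_mem h c hs⟩)
  have h4 : 4 ∣ Nat.card K := by
    have h1 : Nat.card ↥(K ⊔ Subgroup.zpowers t) ∣ Nat.card K * Nat.card (Subgroup.zpowers t) := by
      set K' := K.subgroupOf (S : Subgroup G)
      set Z' := (Subgroup.zpowers t).subgroupOf (S : Subgroup G)
      haveI : K'.Normal := ⟨fun w hw g => by
        rw [show g * w * g⁻¹ = w from mul_inv_eq_iff_eq_mul.2 (Subtype.ext (sylow_comm h S g.2 w.2))]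
        exact hw⟩
      have hK : K ≤ (S : Subgroup G) := inf_le_right
      have hZ : Subgroup.zpowers t ≤ (S : Subgroup G) := Subgroup.zpowers_le.2 c.ht
      have etop : Z' ⊔ K' = ⊤ := by
        rw [← Subgroup.subgroupOf_sup hZ hK, sup_comm, hsub, Subgroup.subgroupOf_self]
      have h2 : K'.index ∣ Nat.card Z' := by
        rw [← Subgroup.relIndex_top_right (H := K'), ← etop, Subgroup.relIndex_sup_right]
        exact Subgroup.relIndex_dvd_card K' Z'
      have h3 := K'.card_mul_index
      rw [Nat.card_congr (Subgroup.subgroupOfEquivOfLe hK).toEquiv] at h3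
      rw [hsub, ← h3]
      refine Nat.mul_dvd_mul_left _ (h2.trans (dvd_of_eq ?_))
      exact Nat.card_congr (Subgroup.subgroupOfEquivOfLe hZ).toEquiv
    rw [hsub, sylow_card h S, Nat.card_zpowers, sylow_inv h S c.ht c.ht1] at h1
    exact Nat.dvd_of_mul_dvd_mul_right (show 0 < 2 by norm_num) (show 4 * 2 ∣ Nat.card K * 2 from h1)
  have h4' : 4 ∣ Nat.card (commutator (Cen t)) := by
    refine h4.trans ((Subgroup.card_dvd_of_le (inf_le_left : K ≤ _)).trans (dvd_of_eq ?_))
    rw [Subgroup.card_map_of_injective (Cen t).subtype_injective]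
  rcases normal_cases h c (commutator (Cen t)) hnt with e | e | ⟨e, -⟩
  · rw [e, Subgroup.card_bot] at h4'; norm_num at h4'
  · exact e
  · rw [e] at h4'; norm_num at h4'

/-- The centralizer of an involution is `2 × A₅`. -/
theorem exists_model : ∃ t : G, orderOf t = 2 ∧ Nonempty (Cen t ≃* Model) := by
  classical
  haveI : Fact (Nat.Prime 2) := ⟨Nat.prime_two⟩
  obtain ⟨t, ht⟩ := exists_prime_orderOf_dvd_card' (G := G) 2 (by rw [h]; norm_num)
  obtain ⟨S, hS⟩ := (IsPGroup.of_card (n := 1) (by rw [Nat.card_zpowers, ht, pow_one]) :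
    IsPGroup 2 (Subgroup.zpowers t)).exists_le_sylow
  have htS : t ∈ (S : Subgroup G) := hS (Subgroup.mem_zpowers t)
  have ht1 : t ≠ 1 := fun e => by rw [e, orderOf_one] at ht; norm_num at ht
  obtain ⟨a, c⟩ := exists_ctx h S htS ht1
  refine ⟨t, ht, ?_⟩
  have hC := card_cen_eq h S htS ht1
  set D := commutator (Cen t) with hD
  have hD60 : Nat.card D = 60 := comm_facts h c
  have hnt : tC t ∉ D := not_comm_t h c
  have hto : orderOf (tC t) = 2 := by rw [tC, Subgroup.orderOf_mk, ht]
  let Z := Subgroup.zpowers (tC t)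
  let ψ : D × Z →* Cen t := MonoidHom.noncommCoprod D.subtype Z.subtype (fun x z => by
    obtain ⟨i, hi⟩ := Subgroup.mem_zpowers_iff.1 z.2
    show (x : Cen t) * (z : Cen t) = (z : Cen t) * x
    rw [← hi]
    exact (Commute.zpow_right (tC_comm (x : Cen t)) i).eq)
  have hz2 : ∀ z : Z, (z : Cen t) = 1 ∨ (z : Cen t) = tC t := by
    intro z
    obtain ⟨i, hi⟩ := Subgroup.mem_zpowers_iff.1 z.2
    rw [← hi]
    rcases Int.emod_two_eq i with e | e
    · left; rw [← zpow_mod_orderOf, hto]; simp [e]
    · right; rw [← zpow_mod_orderOf, hto]; simp [e]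
  have hψ : Function.Injective ψ := by
    rw [injective_iff_map_eq_one]
    rintro ⟨x, z⟩ e
    have e' : (x : Cen t) * (z : Cen t) = 1 := e
    rcases hz2 z with hz | hz
    · rw [hz, mul_one] at e'
      exact Prod.ext (Subtype.ext e') (Subtype.ext hz)
    · exfalso
      refine hnt ?_
      have := D.inv_mem x.2
      rwa [inv_eq_of_mul_eq_one_right e', hz] at this
  have hbij : Function.Bijective ψ := by
    rw [Nat.bijective_iff_injective_and_card]
    refine ⟨hψ, ?_⟩
    rw [Nat.card_prod, hD60, hC, Nat.card_zpowers, hto]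
  haveI : Nontrivial D := Finite.one_lt_card_iff_nontrivial.1 (by rw [hD60]; norm_num)
  haveI : IsSimpleGroup D := by
    refine ⟨fun N hN => ?_⟩
    have hN' : (N.map D.subtype).Normal := by
      refine ⟨fun w hw g => ?_⟩
      obtain ⟨w, hw, rfl⟩ := hw
      obtain ⟨⟨x, z⟩, rfl⟩ := hbij.2 g
      refine ⟨x * w * x⁻¹, hN.conj_mem w hw x, ?_⟩
      have e : (z : Cen t) * (w : Cen t) * (z : Cen t)⁻¹ = w := by
        rcases hz2 z with hz | hz <;> rw [hz]
        · simp
        · rw [← tC_comm (w : Cen t), mul_inv_cancel_right]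
      show (x : Cen t) * w * (x : Cen t)⁻¹ = (x : Cen t) * z * w * ((x : Cen t) * z)⁻¹
      conv_lhs => rw [← e]
      group
    haveI := hN'
    rcases normal_cases h c (N.map D.subtype) (fun hm => hnt (Subgroup.map_subtype_le N hm)) with e | e | ⟨-, e⟩
    · exact Or.inl ((Subgroup.map_eq_bot_iff_of_injective N D.subtype_injective).1 e)
    · refine Or.inr (Subgroup.eq_top_of_le_card N (le_of_eq ?_))
      rw [hD60, ← e, Subgroup.card_map_of_injective D.subtype_injective]
    · exfalso
      have hle := Subgroup.card_dvd_of_le (commutator_le_of_index_four (N.map D.subtype) e)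
      have h30 := (N.map D.subtype).card_mul_index
      rw [e, hC] at h30
      rw [← hD, hD60] at hle
      have := Nat.le_of_dvd Nat.card_pos hle
      omega
  obtain ⟨φ⟩ := Fus.alternating_five_of_card hD60
  have hZ : Nat.card Z = 2 := by rw [Nat.card_zpowers, hto]
  let ε : Z ≃* Multiplicative (ZMod 2) := mulEquivOfPrimeCardEq hZ (by simp)
  exact ⟨((MulEquiv.ofBijective ψ hbij).symm.trans MulEquiv.prodComm).trans (MulEquiv.prodCongr ε φ)⟩

end Cfsg.Agent.J1U.Ord
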