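import Cfsg.Agent.Lib.Invol.J1.Model
import Cfsg.Agent.Lib.Char.JankoOne.Local

/-! Frames at involutions and the orientation of commuting pairs of involutions in a group with
centralizer `2 × A₅` of an involution, all involutions conjugate. -/

set_option autoImplicit false
set_option linter.unusedSectionVars false

namespace Cfsg.Agent.J1U

open Cfsg Cfsg.Agent.Char.JankoOne
open scoped commutatorElement

universe u

variable {G : Type u} [Group G]

/-- An involution as a proposition. -/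
def Inv2 (x : G) : Prop := x * x = 1 ∧ x ≠ 1

theorem Inv2.inv {x : G} (h : Inv2 x) : x⁻¹ = x := inv_eq_of_mul_eq_one_right h.1

theorem Inv2.conj {x : G} (h : Inv2 x) (g : G) : Inv2 (g * x * g⁻¹) := by
  refine ⟨?_, fun e => h.2 ?_⟩
  · calc g * x * g⁻¹ * (g * x * g⁻¹) = g * (x * x) * g⁻¹ := by group
      _ = 1 := by rw [h.1]; group
  · calc x = g⁻¹ * (g * x * g⁻¹) * g := by group
      _ = 1 := by rw [e]; group

theorem Inv2.mul {x y : G} (hx : Inv2 x) (hy : Inv2 y) (hne : x ≠ y) (hc : x * y = y * x) :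
    Inv2 (x * y) := by
  refine ⟨?_, fun e => hne ?_⟩
  · calc x * y * (x * y) = x * (y * x) * y := by group
      _ = (x * x) * (y * y) := by rw [← hc]; group
      _ = 1 := by rw [hx.1, hy.1, one_mul]
  · rw [mul_eq_one_iff_eq_inv, hy.inv] at e
    exact e

/-- A frame at an involution: an identification of its centralizer with the model. -/
structure Frame (p : G) where
  φ : Model →* G
  inj : Function.Injective φ
  tt_eq : φ tt = p
  surj : ∀ x : G, x * p = p * x → ∃ a, φ a = x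

theorem Frame.comm {p : G} (F : Frame p) (a : Model) : F.φ a * p = p * F.φ a := by
  simpa [F.tt_eq] using congrArg F.φ (tt_central a)

theorem Frame.comm_iff {p : G} (F : Frame p) (a b : Model) : F.φ a * F.φ b = F.φ b * F.φ a ↔ a * b = b * a := by
  rw [← map_mul, ← map_mul, F.inj.eq_iff]

/-- Moving a frame by conjugation. -/
def Frame.conj {p : G} (F : Frame p) (g : G) : Frame (g * p * g⁻¹) where
  φ := (MulAut.conj g).toMonoidHom.comp F.φ
  inj := (MulAut.conj g).injective.comp F.inj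
  tt_eq := by simp [F.tt_eq, MulAut.conj_apply]
  surj x hx := by
    obtain ⟨a, ha⟩ := F.surj (g⁻¹ * x * g) (by
      calc g⁻¹ * x * g * p = g⁻¹ * (x * (g * p * g⁻¹)) * g := by group
        _ = g⁻¹ * (g * p * g⁻¹ * x) * g := by rw [hx]
        _ = p * (g⁻¹ * x * g) := by group)
    exact ⟨a, by simp [ha, MulAut.conj_apply, mul_assoc]⟩

/-- Changing a frame by an inner automorphism of the model. -/
def Frame.twist {p : G} (F : Frame p) (a : Model) : Frame p where
  φ := F.φ.comp (MulAut.conj a).toMonoidHom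
  inj := F.inj.comp (MulAut.conj a).injective
  tt_eq := by
    show F.φ (a * tt * a⁻¹) = p
    rw [tt_central a, mul_inv_cancel_right, F.tt_eq]
  surj x hx := by
    obtain ⟨b, hb⟩ := F.surj x hx
    exact ⟨a⁻¹ * b * a, by simp [hb, MulAut.conj_apply, mul_assoc]⟩

theorem Frame.twist_apply {p : G} (F : Frame p) (a b : Model) :
    (F.twist a).φ b = F.φ (a * b * a⁻¹) := rfl

/-- `q` lies in the simple factor of the centralizer of `p`, for involutions `q` commuting with `p`. -/
def E (p q : G) : Prop := ∃ x y : G, x * p = p * x ∧ y * p = p * y ∧ q = ⁅x, y⁆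

theorem E.conj {p q : G} (h : E p q) (g : G) : E (g * p * g⁻¹) (g * q * g⁻¹) := by
  obtain ⟨x, y, hx, hy, rfl⟩ := h
  refine ⟨g * x * g⁻¹, g * y * g⁻¹, ?_, ?_, ?_⟩
  · calc g * x * g⁻¹ * (g * p * g⁻¹) = g * (x * p) * g⁻¹ := by group
      _ = g * (p * x) * g⁻¹ := by rw [hx]
      _ = g * p * g⁻¹ * (g * x * g⁻¹) := by group
  · calc g * y * g⁻¹ * (g * p * g⁻¹) = g * (y * p) * g⁻¹ := by group
      _ = g * (p * y) * g⁻¹ := by rw [hy]
      _ = g * p * g⁻¹ * (g * y * g⁻¹) := by group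
  · simp only [commutatorElement_def]; group

theorem E.conj_iff {p q : G} (g : G) : E (g * p * g⁻¹) (g * q * g⁻¹) ↔ E p q := by
  refine ⟨fun h => ?_, fun h => h.conj g⟩
  have := h.conj g⁻¹
  simpa [mul_assoc] using this

theorem Frame.e_iff {p : G} (F : Frame p) {a : Model} (ha : a * a = 1) (h1 : a ≠ 1) :
    E p (F.φ a) ↔ a.1 = 1 := by
  constructor
  · rintro ⟨x, y, hx, hy, he⟩
    obtain ⟨b, rfl⟩ := F.surj x hx
    obtain ⟨c, rfl⟩ := F.surj y hy
    rw [← map_commutatorElement, F.inj.eq_iff] at he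
    rw [he, commutatorElement_def]
    simp only [Prod.fst_mul, Prod.fst_inv]
    rw [mul_comm b.1 c.1, mul_inv_cancel_right, mul_inv_cancel]
  · intro h
    obtain ⟨z, b⟩ := a
    obtain rfl : z = 1 := h
    obtain ⟨x, y, hxy⟩ := uu_comm
    obtain ⟨g, hg⟩ := invol_conj b (congrArg Prod.snd ha) (fun e => h1 (by rw [e]; rfl))
    refine ⟨F.φ (1, g * x * g⁻¹), F.φ (1, g * y * g⁻¹), F.comm _, F.comm _, ?_⟩
    rw [← map_commutatorElement, F.inj.eq_iff]
    ext1
    · simp [commutatorElement_def]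
    · show b = _
      rw [← hg, hxy]
      simp only [commutatorElement_def, Prod.snd_mul, Prod.snd_inv]
      group

/-- The hypotheses on the group. -/
structure Hyp (G : Type u) [Group G] : Prop where
  frame : ∀ p : G, Inv2 p → Nonempty (Frame p)
  card : Nat.card G = 175560
  isConj : ∀ p q : G, Inv2 p → Inv2 q → IsConj p q

theorem not_E_self (H : Hyp G) {p : G} (hp : Inv2 p) : ¬ E p p := by
  obtain ⟨F⟩ := H.frame p hp
  intro h
  rw [← F.tt_eq] at h
  have h' : E p (F.φ tt) := by rwa [F.tt_eq] at h ⊢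
  exact absurd ((F.e_iff tt_sq tt_ne).1 h') (by decide +kernel)

theorem frame_pair (H : Hyp G) {p q : G} (hp : Inv2 p) (hq : Inv2 q) (hne : p ≠ q)
    (hc : p * q = q * p) : ∃ (F : Frame p) (z : Multiplicative (ZMod 2)), F.φ (z, uu) = q := by
  obtain ⟨F⟩ := H.frame p hp
  obtain ⟨a, ha⟩ := F.surj q hc.symm
  have ha2 : a * a = 1 := F.inj (by rw [map_mul, ha, hq.1, map_one])
  have ha1 : a ≠ 1 := fun e => hq.2 (by rw [← ha, e, map_one])
  have hb1 : a.2 ≠ 1 := by
    intro e
    rcases zmod_cases a.1 with h | h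
    · exact ha1 (Prod.ext h e)
    · exact hne (F.tt_eq.symm.trans ((congrArg F.φ (Prod.ext h.symm e.symm)).trans ha))
  obtain ⟨g, hg⟩ := invol_conj a.2 (congrArg Prod.snd ha2) hb1
  refine ⟨F.twist (1, g), a.1, ?_⟩
  rw [Frame.twist_apply, ← ha]
  refine congrArg F.φ (Prod.ext ?_ ?_)
  · simp
  · exact hg

section Orient

variable [Finite G]

/-- The involutions centralizing two given ones. -/
noncomputable def Xs (p q : G) : Finset G :=
  (Set.toFinite {x : G | (x * p = p * x ∧ x * q = q * x) ∧ x ≠ 1}).toFinset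

theorem mem_Xs {p q x : G} : x ∈ Xs p q ↔ (x * p = p * x ∧ x * q = q * x) ∧ x ≠ 1 := by
  simp [Xs]

theorem Xs_image {p q : G} (F : Frame p) {z : Multiplicative (ZMod 2)} (hz : F.φ (z, uu) = q) {x : G} :
    x ∈ Xs p q ↔ ∃ a : Model, (a * (z, uu) = (z, uu) * a ∧ a ≠ 1) ∧ F.φ a = x := by
  rw [mem_Xs]
  constructor
  · rintro ⟨⟨h1, h2⟩, h3⟩
    obtain ⟨a, rfl⟩ := F.surj x h1
    rw [← hz, F.comm_iff] at h2
    exact ⟨a, ⟨h2, fun e => h3 (by rw [e, map_one])⟩, rfl⟩
  · rintro ⟨a, ⟨h1, h2⟩, rfl⟩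
    exact ⟨⟨F.comm a, by rw [← hz, F.comm_iff]; exact h1⟩, fun e => h2 (F.inj (e.trans (map_one _).symm))⟩

theorem Xs_basic (H : Hyp G) {p q : G} (hp : Inv2 p) (hq : Inv2 q) (hne : p ≠ q) (hc : p * q = q * p) :
    (Xs p q).card = 7 ∧ (∀ x ∈ Xs p q, Inv2 x) ∧ (∀ x ∈ Xs p q, ∀ y ∈ Xs p q, x * y = y * x) := by
  classical
  obtain ⟨F, z, hz⟩ := frame_pair H hp hq hne hc
  have him : Xs p q = (Finset.univ.filter fun a : Model => a * (z, uu) = (z, uu) * a ∧ a ≠ 1).image F.φ := by
    ext x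
    simp [Xs_image F hz]
  refine ⟨?_, fun x hx => ?_, fun x hx y hy => ?_⟩
  · rw [him, Finset.card_image_of_injective _ F.inj]
    have h := (cent_uu z).1
    have e : (Finset.univ.filter fun a : Model => a * (z, uu) = (z, uu) * a ∧ a ≠ 1) =
        (Finset.univ.filter fun a : Model => a * (z, uu) = (z, uu) * a).erase 1 := by
      ext a; simp [and_comm]
    rw [e, Finset.card_erase_of_mem (by simp), h]
  · obtain ⟨a, ⟨h1, h2⟩, rfl⟩ := (Xs_image F hz).1 hx
    exact ⟨by rw [← map_mul, (cent_uu z).2 a h1, map_one], fun e => h2 (F.inj (e.trans (map_one _).symm))⟩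
  · obtain ⟨a, ⟨h1, h2⟩, rfl⟩ := (Xs_image F hz).1 hx
    obtain ⟨b, ⟨h3, h4⟩, rfl⟩ := (Xs_image F hz).1 hy
    exact (F.comm_iff a b).2 (cent_comm z a b h1 h3)

theorem self_mem_Xs {p q : G} (hp : Inv2 p) (hq : Inv2 q) (hc : p * q = q * p) :
    p ∈ Xs p q ∧ q ∈ Xs p q :=
  ⟨mem_Xs.2 ⟨⟨rfl, hc⟩, hp.2⟩, mem_Xs.2 ⟨⟨hc.symm, rfl⟩, hq.2⟩⟩

theorem Xs_change (H : Hyp G) {p q r s : G} (hp : Inv2 p) (hq : Inv2 q) (hne : p ≠ q)
    (hc : p * q = q * p) (hr : r ∈ Xs p q) (hs : s ∈ Xs p q) (hrs : r ≠ s) : Xs r s = Xs p q := by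
  obtain ⟨h7, hinv, hcomm⟩ := Xs_basic H hp hq hne hc
  have hsub : Xs p q ⊆ Xs r s := fun x hx =>
    mem_Xs.2 ⟨⟨hcomm x hx r hr, hcomm x hx s hs⟩, (mem_Xs.1 hx).2⟩
  refine (Finset.eq_of_subset_of_card_le hsub ?_).symm
  rw [h7, (Xs_basic H (hinv r hr) (hinv s hs) hrs (hcomm r hr s hs)).1]

/-- What a frame gives at a member of the set. -/
theorem local_row (H : Hyp G) {p q : G} (hp : Inv2 p) (hq : Inv2 q) (hne : p ≠ q) (hc : p * q = q * p)
    [DecidableRel (E (G := G))] {r : G} (hr : r ∈ Xs p q) :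
    ((Xs p q).filter fun x => E r x).card = 3 ∧
      ∀ x ∈ Xs p q, ∀ y ∈ Xs p q, E r x → E r y → E x r → E y r := by
  classical
  obtain ⟨h7, hinv, hcomm⟩ := Xs_basic H hp hq hne hc
  obtain ⟨s, hs, hsr⟩ := Finset.exists_mem_ne (by omega : 1 < (Xs p q).card) r
  obtain ⟨F, z, hz⟩ := frame_pair H (hinv r hr) (hinv s hs) hsr.symm (hcomm r hr s hs)
  rw [← Xs_change H hp hq hne hc hr hs hsr.symm]
  have hsq : ∀ a : Model, a * (z, uu) = (z, uu) * a → a * a = 1 := fun a h => (cent_uu z).2 a h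
  constructor
  · have him : ((Xs r s).filter fun x => E r x) =
        (Finset.univ.filter fun a : Model => (a * (z, uu) = (z, uu) * a ∧ a ≠ 1) ∧ a.1 = 1).image F.φ := by
      ext x
      simp only [Finset.mem_filter, Xs_image F hz, Finset.mem_image, Finset.mem_univ, true_and]
      constructor
      · rintro ⟨⟨a, ha, rfl⟩, he⟩
        exact ⟨a, ⟨ha, (F.e_iff (hsq a ha.1) ha.2).1 he⟩, rfl⟩
      · rintro ⟨a, ⟨ha, he⟩, rfl⟩
        exact ⟨⟨a, ha, rfl⟩, (F.e_iff (hsq a ha.1) ha.2).2 he⟩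
    rw [him, Finset.card_image_of_injective _ F.inj]
    exact cent_even z
  · intro x hx y hy ex ey exr
    obtain ⟨a, ha, rfl⟩ := (Xs_image F hz).1 hx
    obtain ⟨b, hb, rfl⟩ := (Xs_image F hz).1 hy
    have hm : ∀ w : G, E w r → E (F.φ m3 * w * (F.φ m3)⁻¹) r := fun w hw => by
      have e : F.φ m3 * r * (F.φ m3)⁻¹ = r := by rw [F.comm m3, mul_inv_cancel_right]
      have := hw.conj (F.φ m3)
      rwa [e] at this
    rcases m3_orbit z a b ha.1 hb.1 ha.2 hb.2 ((F.e_iff (hsq a ha.1) ha.2).1 ex)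
      ((F.e_iff (hsq b hb.1) hb.2).1 ey) with e | e | e
    · rw [e]; exact exr
    · rw [e, map_mul, map_mul, map_inv]; exact hm _ exr
    · rw [e, map_mul, map_mul, map_inv, map_mul, map_mul, map_inv]; exact hm _ (hm _ exr)

/-- The members of the set are permuted transitively by elements stabilizing it. -/
theorem exists_move (H : Hyp G) {p q : G} (hp : Inv2 p) (hq : Inv2 q) (hne : p ≠ q) (hc : p * q = q * p)
    {r r' : G} (hr : r ∈ Xs p q) (hr' : r' ∈ Xs p q) :
    ∃ n : G, n * r * n⁻¹ = r' ∧ ∀ x, x ∈ Xs p q ↔ n * x * n⁻¹ ∈ Xs p q := by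
  classical
  obtain ⟨h7, hinv, hcomm⟩ := Xs_basic H hp hq hne hc
  let V : Subgroup G := Subgroup.centralizer ({p} : Set G) ⊓ Subgroup.centralizer ({q} : Set G)
  have hV : ∀ x, x ∈ V ↔ x * p = p * x ∧ x * q = q * x := fun x => by
    simp only [V, Subgroup.mem_inf, Subgroup.mem_centralizer_singleton_iff]
  have hVX : ∀ x, x ∈ V ↔ x = 1 ∨ x ∈ Xs p q := fun x => by
    rw [hV, mem_Xs]
    constructor
    · intro h; by_cases e : x = 1
      · exact Or.inl e
      · exact Or.inr ⟨h, e⟩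
    · rintro (rfl | h)
      · simp
      · exact h.1
  have h8 : Nat.card V = 8 := by
    have e : (V : Set G) = ↑(insert (1 : G) (Xs p q)) := by
      ext x; simp [hVX]
    rw [← SetLike.coe_sort_coe, Nat.card_coe_set_eq, e, Set.ncard_coe_finset,
      Finset.card_insert_of_notMem (fun h => (mem_Xs.1 h).2 rfl), h7]
  haveI : Fact (Nat.Prime 2) := ⟨Nat.prime_two⟩
  have hf : (175560 : ℕ).factorization 2 = 3 := by
    rw [show (175560 : ℕ) = 2 ^ 3 * 21945 by norm_num,
      Nat.factorization_mul (by norm_num) (by norm_num), Finsupp.add_apply,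
      Nat.Prime.factorization_pow Nat.prime_two, Finsupp.single_eq_same,
      Nat.factorization_eq_zero_of_not_dvd (by norm_num), add_zero]
  let P : Sylow 2 G := Sylow.ofCard V (by rw [h8, H.card, hf]; norm_num)
  have hPV : (P : Subgroup G) = V := by simp [P]
  have hab : IsMulCommutative (P : Subgroup G) := by
    rw [hPV]
    refine ⟨⟨fun a b => Subtype.ext ?_⟩⟩
    rcases (hVX _).1 a.2 with ea | ea
    · simp [ea]
    rcases (hVX _).1 b.2 with eb | eb
    · simp [eb]
    exact hcomm _ ea _ eb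
  have hrr' : IsConj r r' := H.isConj r r' (hinv r hr) (hinv r' hr')
  obtain ⟨g, hg⟩ := isConj_iff.1 hrr'
  have hrV : r ∈ (P : Subgroup G) := hPV ▸ (hVX r).2 (Or.inr hr)
  have hr'V : r' ∈ (P : Subgroup G) := hPV ▸ (hVX r').2 (Or.inr hr')
  obtain ⟨n, hn, hn'⟩ := Sylow.conj_eq_normalizer_conj_of_mem P r g⁻¹ hrV
    (by rw [inv_inv, hg]; exact hr'V)
  refine ⟨n⁻¹, ?_, fun x => ?_⟩
  · rw [inv_inv]
    rw [inv_inv, hg] at hn'
    exact hn'.symm
  · have h1 := Subgroup.mem_normalizer_iff.1 (inv_mem hn) x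
    rw [hPV, hVX, hVX] at h1
    constructor
    · intro hx
      rcases h1.1 (Or.inr hx) with e | e
      · exact absurd e ((hinv x hx).conj _).2
      · exact e
    · intro hx
      rcases h1.2 (Or.inr hx) with e | e
      · exact absurd (by rw [e]; group) (mem_Xs.1 hx).2
      · exact e

theorem orient_all (H : Hyp G) {p q : G} (hp : Inv2 p) (hq : Inv2 q) (hne : p ≠ q)
    (hc : p * q = q * p) : ∀ r ∈ Xs p q, ∀ s ∈ Xs p q, r ≠ s → (E r s ↔ ¬ E s r) := by
  classical
  obtain ⟨h7, hinv, hcomm⟩ := Xs_basic H hp hq hne hc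
  set X := Xs p q with hX
  have hrow : ∀ r ∈ X, (X.filter fun x => E r x).card = 3 ∧
      ∀ x ∈ X, ∀ y ∈ X, E r x → E r y → E x r → E y r := fun r hr => local_row H hp hq hne hc hr
  -- equal in-degrees
  have hmove : ∀ r ∈ X, ∀ r' ∈ X, ∃ n : G, n * r * n⁻¹ = r' ∧ (∀ x, x ∈ X ↔ n * x * n⁻¹ ∈ X) :=
    fun r hr r' hr' => exists_move H hp hq hne hc hr hr'
  have hin : ∀ r ∈ X, ∀ r' ∈ X, (X.filter fun x => E x r).card = (X.filter fun x => E x r').card := by
    intro r hr r' hr'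
    obtain ⟨n, hn, hnX⟩ := hmove r hr r' hr'
    refine Finset.card_bij' (fun x _ => n * x * n⁻¹) (fun y _ => n⁻¹ * y * n) ?_ ?_ ?_ ?_
    · intro x hx
      rw [Finset.mem_filter] at hx ⊢
      exact ⟨(hnX x).1 hx.1, hn ▸ hx.2.conj n⟩
    · intro y hy
      rw [Finset.mem_filter] at hy ⊢
      have e : n * (n⁻¹ * y * n) * n⁻¹ = y := by group
      refine ⟨(hnX _).2 (by rw [e]; exact hy.1), (E.conj_iff n).1 ?_⟩
      rw [e, hn]; exact hy.2
    · intro x _; group
    · intro y _; group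
  have hin3 : ∀ r ∈ X, (X.filter fun x => E x r).card = 3 := by
    intro r hr
    have h1 : ∑ a ∈ X, (X.filter fun x => E x a).card = ∑ a ∈ X, (X.filter fun x => E a x).card := by
      simp only [Finset.card_filter]
      exact Finset.sum_comm
    rw [Finset.sum_congr rfl (fun a ha => (hin a ha r hr)),
      Finset.sum_congr rfl (fun a ha => (hrow a ha).1), Finset.sum_const, Finset.sum_const, h7,
      smul_eq_mul, smul_eq_mul] at h1
    omega
  have hsymm : ∀ r ∈ X, (∃ x ∈ X, E r x ∧ E x r) → ∀ x ∈ X, E r x ↔ E x r := by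
    intro r hr ⟨x0, hx0, e1, e2⟩
    have hsub : (X.filter fun x => E r x) ⊆ X.filter fun x => E x r := fun y hy => by
      rw [Finset.mem_filter] at hy ⊢
      exact ⟨hy.1, (hrow r hr).2 x0 hx0 y hy.1 e1 hy.2 e2⟩
    have he := Finset.eq_of_subset_of_card_le hsub (by rw [(hrow r hr).1, hin3 r hr])
    intro x hx
    have := Finset.ext_iff.1 he x
    simp only [Finset.mem_filter, hx, true_and] at this
    exact this
  have hno : ∀ r ∈ X, ∀ s ∈ X, E r s → ¬ E s r := by
    intro r hr s hs h1 h2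
    have hall : ∀ a ∈ X, ∀ b ∈ X, E a b ↔ E b a := by
      intro a ha
      refine hsymm a ha ?_
      obtain ⟨n, hn, hnX⟩ := hmove r hr a ha
      exact ⟨n * s * n⁻¹, (hnX s).1 hs, hn ▸ h1.conj n, hn ▸ h2.conj n⟩
    let T : Finset (G × G) := (X ×ˢ X).filter fun u => E u.1 u.2
    have hT : T.card = 21 := by
      have e : T.card = ∑ a ∈ X, (X.filter fun x => E a x).card := by
        simp only [T, Finset.card_filter]
        exact Finset.sum_product ..
      rw [e, Finset.sum_congr rfl (fun a ha => (hrow a ha).1), Finset.sum_const, h7, smul_eq_mul]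
    have h0 : ∑ _u ∈ T, (1 : ZMod 2) = 0 := by
      refine Finset.sum_involution (fun u _ => (u.2, u.1)) (fun u _ => by decide) ?_ ?_ (fun u _ => rfl)
      · intro u hu _ he
        simp only [T, Finset.mem_filter, Finset.mem_product] at hu
        have e : u.2 = u.1 := congrArg Prod.fst he
        rw [e] at hu
        exact not_E_self H (hinv _ hu.1.1) hu.2
      · intro u hu
        simp only [T, Finset.mem_filter, Finset.mem_product] at hu ⊢
        exact ⟨⟨hu.1.2, hu.1.1⟩, (hall _ hu.1.1 _ hu.1.2).1 hu.2⟩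
    rw [Finset.sum_const, hT] at h0
    exact absurd h0 (by decide)
  intro r hr s hs hrs
  refine ⟨hno r hr s hs, fun hns => ?_⟩
  by_contra hn
  have hd : Disjoint (X.filter fun x => E r x) (X.filter fun x => E x r) := by
    rw [Finset.disjoint_filter]
    exact fun x hx h => hno r hr x hx h
  have hsub : (X.filter fun x => E r x) ∪ (X.filter fun x => E x r) ⊆ (X.erase r).erase s := by
    intro x hx
    rw [Finset.mem_union, Finset.mem_filter, Finset.mem_filter] at hx
    rw [Finset.mem_erase, Finset.mem_erase]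
    refine ⟨?_, ?_, by tauto⟩
    · rintro rfl; tauto
    · rintro rfl; exact not_E_self H (hinv x hr) (by tauto)
  have := Finset.card_le_card hsub
  rw [Finset.card_union_of_disjoint hd, (hrow r hr).1, hin3 r hr,
    Finset.card_erase_of_mem (Finset.mem_erase.2 ⟨hrs.symm, hs⟩), Finset.card_erase_of_mem hr, h7] at this
  omega

/-- Of two commuting involutions exactly one lies in the simple factor of the other's centralizer. -/
theorem orient (H : Hyp G) {p q : G} (hp : Inv2 p) (hq : Inv2 q) (hne : p ≠ q) (hc : p * q = q * p) :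
    E p q ↔ ¬ E q p :=
  orient_all H hp hq hne hc p (self_mem_Xs hp hq hc).1 q (self_mem_Xs hp hq hc).2 hne

end Orient

end Cfsg.Agent.J1U
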