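import Cfsg.Agent.Lib.Invol.J1.DataA
import Cfsg.Agent.Lib.Invol.J1.DataN

/-! Kernel checks of the tables. -/

set_option autoImplicit false
set_option maxRecDepth 100000

namespace Cfsg.Agent.J1U

theorem cA_check : cA.check = true := by decide +kernel

theorem cA_act : actChk cA = true := by decide +kernel

theorem cA_sep : ((List.range cA.N).all fun b => sepRow cA cASep b) = true := by decide +kernel

theorem cH_check : cH.check = true := by decide +kernel

theorem cH_act : actChk cH = true := by decide +kernel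

theorem nD_check : ((List.range 1075).all fun k => nD.edgeChk k) = true := by decide +kernel

theorem nD_last : ((nD.edge 1074).1, (nD.edge 1074).2.1, (nD.edge 1074).2.2.1) = (0, 0, 0) := by decide +kernel

theorem cH_central :
    run cH 0 [0,1,2,0,1,2,0,1,2,0,1,2,0,1,2,0,1,2,0,1,2,0,1,2,0,1,2,0,1,2] = 0 ∧
    ∀ s < 3, run cH 0 ([0,1,2,0,1,2,0,1,2,0,1,2,0,1,2] ++ [s]) =
      run cH 0 (s :: [0,1,2,0,1,2,0,1,2,0,1,2,0,1,2]) := by decide +kernel

end Cfsg.Agent.J1U
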