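import Cfsg.Agent.Lib.Invol.J1.Base

/-! The centralizer of an element of order five contains an element of order three. -/

set_option autoImplicit false
set_option linter.unusedSectionVars false

namespace Cfsg.Agent.J1U

open Cfsg Cfsg.Agent.Char.JankoOne

universe u

variable {G : Type u} [Group G] [Finite G]

theorem A5_invert : ∀ Z Y : A5, Z * Z = 1 → Z ≠ 1 → Y ^ 3 = 1 → Y ≠ 1 →
    (Z * Y) ^ 2 = 1 ∨ ((Z * Y) ^ 5 = 1 ∧ Z * Y ≠ 1) ∨ (Y * Z * Y⁻¹) * Z = Z * (Y * Z * Y⁻¹) := by
  decide +kernel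

theorem rf_sq {a : A5} (h : a * a = 1) : rf a * rf a = 1 := by
  simp [rf, h]
  decide +kernel

/-- Two commuting elements of the same prime order `p` with `p²` not dividing the group order. -/
theorem mem_zpowers_of_commute {p : ℕ} (hp : p.Prime) (hd : ¬ p * p ∣ Nat.card G) {x c : G}
    (hx : x ^ p = 1) (hc : c ^ p = 1) (hc1 : c ≠ 1) (h : x * c = c * x) : x ∈ Subgroup.zpowers c := by
  by_contra hne
  apply hd
  haveI : Fact p.Prime := ⟨hp⟩
  have hx1 : x ≠ 1 := fun e => hne (by rw [e]; exact Subgroup.one_mem _)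
  have ox : orderOf x = p := orderOf_eq_prime hx hx1
  have oc : orderOf c = p := orderOf_eq_prime hc hc1
  let f : Subgroup.zpowers x × Subgroup.zpowers c →* G :=
    (Subgroup.zpowers x).subtype.noncommCoprod (Subgroup.zpowers c).subtype fun a b => by
      obtain ⟨i, hi⟩ := Subgroup.mem_zpowers_iff.1 a.2
      obtain ⟨k, hk⟩ := Subgroup.mem_zpowers_iff.1 b.2
      show Commute (a : G) (b : G)
      rw [← hi, ← hk]
      exact (Commute.zpow_zpow h i k)
  have hf : Function.Injective f := by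
    rw [injective_iff_map_eq_one]
    rintro ⟨a, b⟩ hab
    have hab' : (a : G) * (b : G) = 1 := by simpa [f] using hab
    have ha : (a : G) ∈ Subgroup.zpowers c := by
      rw [mul_eq_one_iff_eq_inv.1 hab']; exact inv_mem b.2
    have ha1 : (a : G) = 1 := by
      by_contra ha1
      have oa : orderOf (a : G) = p := by
        rcases (Nat.dvd_prime hp).1 (ox ▸ orderOf_dvd_of_mem_zpowers a.2) with e | e
        · exact absurd (orderOf_eq_one_iff.1 e) ha1
        · exact e
      have e1 : Subgroup.zpowers (a : G) = Subgroup.zpowers x :=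
        Subgroup.eq_of_le_of_card_ge (Subgroup.zpowers_le.2 a.2) (by rw [Nat.card_zpowers, Nat.card_zpowers, oa, ox])
      have e2 : Subgroup.zpowers (a : G) ≤ Subgroup.zpowers c := Subgroup.zpowers_le.2 ha
      exact hne (e2 (by rw [e1]; exact Subgroup.mem_zpowers x))
    rw [ha1, one_mul] at hab'
    exact Prod.ext (Subtype.ext ha1) (Subtype.ext hab')
  have := Subgroup.card_dvd_of_injective f hf
  rwa [Nat.card_prod, Nat.card_zpowers, Nat.card_zpowers, ox, oc] at this

/-- The data of an element of order five in a frame. -/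
theorem five_data {z : G} (F : Frame z) {T : Trip} (hT : T.Good) :
    (F.φ (1, T.f)) ^ 5 = 1 ∧ F.φ (1, T.f) ≠ 1 ∧
    (∀ x : G, x * z = z * x → x * F.φ (1, T.f) = F.φ (1, T.f) * x →
      ∃ (e : Multiplicative (ZMod 2)) (i : Fin 5), x = F.φ (e, T.f ^ (i : ℕ))) := by
  refine ⟨?_, ?_, fun x hx hxc => ?_⟩
  · rw [← map_pow, ← map_one F.φ]
    exact congrArg F.φ (Prod.ext (by simp) (by simpa [Trip.f] using hT.o23))
  · intro e
    exact hT.n23 (congrArg Prod.snd (F.inj (e.trans (map_one F.φ).symm)))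
  · obtain ⟨a, rfl⟩ := F.surj x hx
    obtain ⟨e, i, rfl⟩ := hT.centf a ((F.comm_iff _ _).1 hxc)
    exact ⟨e, i, rfl⟩

/-- The only involution centralizing `z` and the element of order five is `z`. -/
theorem invol_unique {z : G} (F : Frame z) {T : Trip} (hT : T.Good) {x : G} (hx : Inv2 x)
    (h1 : x * z = z * x) (h2 : x * F.φ (1, T.f) = F.φ (1, T.f) * x) : x = z := by
  obtain ⟨e, i, rfl⟩ := (five_data F hT).2.2 x h1 h2
  have h : ((e, T.f ^ (i : ℕ)) : Model) * (e, T.f ^ (i : ℕ)) = 1 := F.inj (by rw [map_mul, hx.1, map_one])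
  have h5 : T.f ^ 5 = 1 := hT.o23
  have hi : T.f ^ (i : ℕ) = 1 := by
    have e2 : T.f ^ (i : ℕ) * T.f ^ (i : ℕ) = 1 := congrArg Prod.snd h
    rw [← pow_add, ← two_mul, pow_mul'] at e2
    have e5 : (T.f ^ (i : ℕ)) ^ 5 = 1 := by rw [← pow_mul, mul_comm, pow_mul, h5, one_pow]
    simpa using pow_gcd_eq_one.2 ⟨e2, e5⟩
  rw [hi] at hx ⊢
  rcases zmod_cases e with rfl | rfl
  · exact absurd (map_one F.φ) hx.2
  · exact F.tt_eq

theorem no_three {z : G} (F : Frame z) {T : Trip} (hT : T.Good) {y : G} (h3 : y ^ 3 = 1) (h1 : y ≠ 1)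
    (hz : y * z = z * y) (hc : y * F.φ (1, T.f) = F.φ (1, T.f) * y) : False := by
  obtain ⟨e, i, rfl⟩ := (five_data F hT).2.2 y hz hc
  have h10 : ((e, T.f ^ (i : ℕ)) : Model) ^ 10 = 1 := by
    refine Prod.ext ?_ ?_
    · rcases zmod_cases e with rfl | rfl
      · simp
      · simp only [Prod.pow_fst, Prod.fst_one]; decide +kernel
    · show (T.f ^ (i : ℕ)) ^ 10 = 1
      rw [← pow_mul, show (i : ℕ) * 10 = 5 * (2 * i) by ring, pow_mul, show T.f ^ 5 = 1 from hT.o23, one_pow]
  have h10' : F.φ (e, T.f ^ (i : ℕ)) ^ 10 = 1 := by rw [← map_pow, h10, map_one]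
  exact h1 (by simpa using pow_gcd_eq_one.2 ⟨h3, h10'⟩)

/-- A Sylow 5-subgroup forces more than `10` elements centralizing an element of order five. -/
theorem cent_five_big (H : Hyp G) {z : G} (F : Frame z) {T : Trip} (hT : T.Good)
    (hall : ∀ x : G, x * F.φ (1, T.f) = F.φ (1, T.f) * x → x * z = z * x) : False := by
  classical
  set c := F.φ (1, T.f) with hcdef
  obtain ⟨hc5, hc1, -⟩ := five_data F hT
  haveI : Fact (Nat.Prime 5) := ⟨by norm_num⟩
  have hoc : orderOf c = 5 := orderOf_eq_prime hc5 hc1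
  have hf : (175560 : ℕ).factorization 5 = 1 := by
    rw [show (175560 : ℕ) = 5 ^ 1 * 35112 by norm_num,
      Nat.factorization_mul (by norm_num) (by norm_num), Finsupp.add_apply,
      Nat.Prime.factorization_pow (by norm_num), Finsupp.single_eq_same,
      Nat.factorization_eq_zero_of_not_dvd (by norm_num), add_zero]
  let P : Sylow 5 G := Sylow.ofCard (Subgroup.zpowers c)
    (by rw [Nat.card_zpowers, hoc, H.card, hf, pow_one])
  have hPc : (P : Subgroup G) = Subgroup.zpowers c := by simp [P]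
  have hN : Nat.card (Subgroup.normalizer ((P : Subgroup G) : Set G)) = 20 := by
    have e : ((Subgroup.normalizer ((P : Subgroup G) : Set G)) : Set G) = ↑((Finset.univ.filter fun x : Model =>
        ∃ i : Fin 5, x * (1, T.f) * x⁻¹ = ((1, T.f) : Model) ^ (i : ℕ)).image F.φ) := by
      ext g
      simp only [Finset.coe_image, Finset.coe_filter, Finset.mem_univ, true_and, Set.mem_image,
        Set.mem_setOf_eq, SetLike.mem_coe]
      constructor
      · intro hg
        have hg' := (Subgroup.mem_normalizer_iff.1 hg c).1 (hPc ▸ Subgroup.mem_zpowers c)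
        rw [hPc] at hg'
        have hzc : z * c = c * z := (F.comm (1, T.f)).symm
        have hgz : g * z * g⁻¹ = z := by
          have hcg : g⁻¹ * c * g ∈ Subgroup.zpowers c := by
            have := (Subgroup.mem_normalizer_iff.1 (inv_mem hg) c).1 (hPc ▸ Subgroup.mem_zpowers c)
            rw [hPc, inv_inv] at this
            exact this
          obtain ⟨k, hk⟩ := Subgroup.mem_zpowers_iff.1 hcg
          have hzk : z * (g⁻¹ * c * g) = g⁻¹ * c * g * z := by
            rw [← hk]; exact (Commute.zpow_right hzc k)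
          have h2 : g * z * g⁻¹ * c = c * (g * z * g⁻¹) := by
            calc g * z * g⁻¹ * c = g * (z * (g⁻¹ * c * g)) * g⁻¹ := by group
              _ = g * (g⁻¹ * c * g * z) * g⁻¹ := by rw [hzk]
              _ = c * (g * z * g⁻¹) := by group
          refine invol_unique F hT ?_ (hall _ h2) h2
          refine Inv2.conj ⟨?_, ?_⟩ g
          · rw [← F.tt_eq, ← map_mul, tt_sq, map_one]
          · exact fun e => tt_ne (F.inj (F.tt_eq.trans (e.trans (map_one F.φ).symm)))
        obtain ⟨a, ha⟩ := F.surj g (mul_inv_eq_iff_eq_mul.1 hgz)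
        obtain ⟨i, hi, hi'⟩ : ∃ i, i < 5 ∧ g * c * g⁻¹ = c ^ i := by
          obtain ⟨i, hi, e⟩ := (Finset.mem_image.1 ((mem_zpowers_iff_mem_range_orderOf).1 hg'))
          exact ⟨i, hoc ▸ Finset.mem_range.1 hi, e.symm⟩
        refine ⟨a, ⟨⟨i, hi⟩, F.inj ?_⟩, ha⟩
        rw [map_mul, map_mul, map_inv, map_pow, ha]
        exact hi'
      · rintro ⟨a, ⟨i, hi⟩, rfl⟩
        rw [Subgroup.mem_normalizer_iff_map_conj_eq, hPc, MonoidHom.map_zpowers]
        have e : F.φ a * c * (F.φ a)⁻¹ = c ^ (i : ℕ) := by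
          rw [hcdef, ← map_inv, ← map_mul, ← map_mul, hi, map_pow]
        refine Subgroup.eq_of_le_of_card_ge (Subgroup.zpowers_le.2 ?_) (le_of_eq ?_)
        · show F.φ a * c * (F.φ a)⁻¹ ∈ _
          rw [e]; exact pow_mem (Subgroup.mem_zpowers c) _
        · rw [Nat.card_zpowers, Nat.card_zpowers]; exact (MulEquiv.orderOf_eq (MulAut.conj (F.φ a)) c).symm
    rw [← SetLike.coe_sort_coe, Nat.card_coe_set_eq, e, Set.ncard_coe_finset,
      Finset.card_image_of_injective _ F.inj, hT.norm_card]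
  have h1 := P.card_eq_index_normalizer
  have h2 := (Subgroup.normalizer ((P : Subgroup G) : Set G)).card_mul_index
  rw [hN, H.card] at h2
  have h3 := card_sylow_modEq_one 5 G
  rw [h1] at h3
  have h4 : (Subgroup.normalizer ((P : Subgroup G) : Set G)).index = 8778 := by omega
  have h4' : (Subgroup.normalizer (P : Set G)).index = 8778 := h4
  rw [h4'] at h3
  exact absurd h3 (by decide)

/-- Elements of odd order centralizing an element of order five form a subgroup. -/
theorem odd_part (H : Hyp G) {z : G} (hz : Inv2 z) (F : Frame z) {T : Trip} (hT : T.Good) :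
    ∃ N : Subgroup G, (∀ x, x ∈ N ↔ x * F.φ (1, T.f) = F.φ (1, T.f) * x ∧ Odd (orderOf x)) ∧
      ∀ x, x * F.φ (1, T.f) = F.φ (1, T.f) * x → x ∈ N ∨ z * x ∈ N := by
  classical
  set c := F.φ (1, T.f) with hcdef
  set C := Subgroup.centralizer ({c} : Set G) with hC
  haveI : Fact (Nat.Prime 2) := ⟨Nat.prime_two⟩
  have hmemC : ∀ x, x ∈ C ↔ x * c = c * x := fun x => Subgroup.mem_centralizer_singleton_iff
  let zC : C := ⟨z, (hmemC z).2 (F.comm (1, T.f)).symm⟩
  have hz' : zC * zC = 1 := Subtype.ext hz.1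
  have hz1 : zC ≠ 1 := fun e => hz.2 (congrArg Subtype.val e)
  obtain ⟨P, hP⟩ := IsPGroup.exists_le_sylow (p := 2)
    (IsPGroup.of_card (n := 1) (by rw [Nat.card_zpowers, orderOf_eq_prime (by rw [pow_two, hz']) hz1, pow_one]) :
      IsPGroup 2 (Subgroup.zpowers zC))
  have hzP : zC ∈ (P : Subgroup C) := hP (Subgroup.mem_zpowers zC)
  have hcentP : ∀ x : C, x ∈ (P : Subgroup C) → x * zC = zC * x → x = 1 ∨ x = zC := by
    intro x hx hxz
    obtain ⟨k, hk⟩ := P.isPGroup' ⟨x, hx⟩
    have hk' : (x : G) ^ 2 ^ k = 1 := by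
      have := congrArg (fun w : (P : Subgroup C) => ((w : C) : G)) hk
      simpa using this
    obtain ⟨e, i, he⟩ := (five_data F hT).2.2 (x : G) (congrArg Subtype.val hxz) ((hmemC _).1 x.2)
    have hi : T.f ^ (i : ℕ) = 1 := by
      have h1 : (T.f ^ (i : ℕ)) ^ 2 ^ k = 1 := by
        have h2 : F.φ ((e, T.f ^ (i : ℕ)) ^ 2 ^ k) = F.φ 1 := by rw [map_pow, map_one, ← he, hk']
        exact congrArg Prod.snd (F.inj h2)
      have h5 : (T.f ^ (i : ℕ)) ^ 5 = 1 := by rw [← pow_mul, mul_comm, pow_mul, show T.f ^ 5 = 1 from hT.o23, one_pow]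
      have hg : Nat.gcd (2 ^ k) 5 = 1 := (Nat.coprime_primes Nat.prime_two (by norm_num)).2 (by norm_num) |>.pow_left k
      simpa [hg] using pow_gcd_eq_one.2 ⟨h1, h5⟩
    rw [hi] at he
    rcases zmod_cases e with rfl | rfl
    · exact Or.inl (Subtype.ext (he.trans (map_one F.φ)))
    · exact Or.inr (Subtype.ext (he.trans F.tt_eq))
  have hPz : ∀ x : C, x ∈ (P : Subgroup C) → x = 1 ∨ x = zC := by
    haveI : Nontrivial (P : Subgroup C) := ⟨⟨⟨zC, hzP⟩, 1, fun e => hz1 (congrArg Subtype.val e)⟩⟩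
    haveI := P.isPGroup'.center_nontrivial
    obtain ⟨⟨w, hw⟩, hw1⟩ := exists_ne (1 : Subgroup.center (P : Subgroup C))
    have hwc := Subgroup.mem_center_iff.1 hw
    have hwz : (w : C) = zC := by
      rcases hcentP w w.2 (congrArg Subtype.val (hwc ⟨zC, hzP⟩)).symm with e | e
      · exact absurd (Subtype.ext (Subtype.ext e)) hw1
      · exact e
    intro x hx
    exact hcentP x hx (by rw [← hwz]; exact congrArg Subtype.val (hwc ⟨x, hx⟩))
  have hNC : Subgroup.normalizer ((P : Subgroup C) : Set C) ≤ Subgroup.centralizer ((P : Subgroup C) : Set C) := by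
    intro n hn
    rw [Subgroup.mem_centralizer_iff]
    intro x hx
    rcases hPz x hx with rfl | rfl
    · simp
    · rcases hPz _ ((Subgroup.mem_normalizer_iff.1 hn zC).1 hzP) with e | e
      · exact absurd (by simpa using e) hz1
      · exact (mul_inv_eq_iff_eq_mul.1 e).symm
  set ψ := MonoidHom.transferSylow P hNC with hψ
  have hdvd : ∀ x : C, x ∈ ψ.ker → Odd (orderOf (x : G)) := by
    intro x hx
    rw [Subgroup.orderOf_coe, ← Nat.not_even_iff_odd, even_iff_two_dvd]
    intro h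
    exact MonoidHom.not_dvd_card_ker_transferSylow P hNC (h.trans (by
      rw [show orderOf x = orderOf (⟨x, hx⟩ : ψ.ker) from (Subgroup.orderOf_mk x hx).symm]
      exact orderOf_dvd_natCard _))
  have himg : ∀ x : C, ψ x * ψ x = 1 := fun x => by
    rcases hPz _ (ψ x).2 with e | e
    · exact Subtype.ext (by rw [Subgroup.coe_mul, e, one_mul]; rfl)
    · exact Subtype.ext (by rw [Subgroup.coe_mul, e, hz']; rfl)
  have hker : ∀ x : C, Odd (orderOf (x : G)) → x ∈ ψ.ker := by
    intro x hx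
    rw [MonoidHom.mem_ker]
    have h1 : ψ x ^ orderOf (x : G) = 1 := by
      rw [← map_pow, Subgroup.orderOf_coe, pow_orderOf_eq_one, map_one]
    obtain ⟨k, hk⟩ := hx
    rw [hk, pow_succ, pow_mul, pow_two, himg, one_pow, one_mul] at h1
    exact h1
  refine ⟨ψ.ker.map C.subtype, fun x => ?_, fun x hx => ?_⟩
  · constructor
    · rintro ⟨y, hy, rfl⟩
      exact ⟨(hmemC _).1 y.2, hdvd y hy⟩
    · rintro ⟨h1, h2⟩
      exact ⟨⟨x, (hmemC x).2 h1⟩, hker _ h2, rfl⟩
  · have hzk : zC ∉ ψ.ker := fun h => by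
      have h2 := hdvd zC h
      rw [orderOf_eq_prime (by rw [pow_two]; exact hz.1) hz.2] at h2
      exact absurd h2 (by decide)
    by_cases h : (⟨x, (hmemC x).2 hx⟩ : C) ∈ ψ.ker
    · exact Or.inl ⟨_, h, rfl⟩
    · refine Or.inr ⟨zC * ⟨x, (hmemC x).2 hx⟩, ?_, rfl⟩
      rw [MonoidHom.mem_ker] at h hzk
      rw [SetLike.mem_coe, MonoidHom.mem_ker, map_mul]
      have two : ∀ a b : (P : Subgroup C), a ≠ 1 → b ≠ 1 → a * b = 1 := fun a b ha hb => by
        rcases hPz _ a.2 with e | e
        · exact absurd (Subtype.ext e) ha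
        rcases hPz _ b.2 with e' | e'
        · exact absurd (Subtype.ext e') hb
        exact Subtype.ext (by rw [Subgroup.coe_mul, e, e', hz']; rfl)
      exact two _ _ hzk h

/-- The element of order three. -/
theorem exists_three (H : Hyp G) {z : G} (hz : Inv2 z) (F : Frame z) {T : Trip} (hT : T.Good) :
    ∃ y : G, y ^ 3 = 1 ∧ y ≠ 1 ∧ y * F.φ (1, T.f) = F.φ (1, T.f) * y ∧ z * y * z = y⁻¹ ∧
      (y * F.φ (rf T.a3) = F.φ (rf T.a3) * y ∨ y * F.φ (1, T.a3) = F.φ (1, T.a3) * y) := by
  classical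
  set c := F.φ (1, T.f) with hcdef
  obtain ⟨hc5, hc1, -⟩ := five_data F hT
  obtain ⟨N, hN, hNcover⟩ := odd_part H hz F hT
  have hinvf : T.a3 * T.f * T.a3⁻¹ = T.f⁻¹ := by
    rw [inv_eq_of_mul_eq_one_right hT.i3, Trip.f, mul_inv_rev, inv_eq_of_mul_eq_one_right hT.i2,
      inv_eq_of_mul_eq_one_right hT.i3, mul_assoc, mul_assoc, hT.i3, mul_one]
  -- the two candidates
  have hcand : ∀ e : Multiplicative (ZMod 2), Inv2 (F.φ (e, T.a3)) ∧
      F.φ (e, T.a3) * c * F.φ (e, T.a3) = c⁻¹ ∧ F.φ (e, T.a3) * z = z * F.φ (e, T.a3) := by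
    intro e
    have hsq : ((e, T.a3) : Model) * (e, T.a3) = 1 :=
      Prod.ext ((show ∀ k : Multiplicative (ZMod 2), k * k = 1 by decide +kernel) e) hT.i3
    refine ⟨⟨by rw [← map_mul, hsq, map_one], fun h => hT.n3 (congrArg Prod.snd (F.inj (h.trans (map_one _).symm)))⟩, ?_, F.comm _⟩
    rw [hcdef, ← map_mul, ← map_mul, ← map_inv]
    refine congrArg F.φ (Prod.ext ?_ ?_)
    · simpa using congrArg Prod.fst hsq
    · show T.a3 * T.f * T.a3 = T.f⁻¹
      have := hinvf
      rwa [inv_eq_of_mul_eq_one_right hT.i3] at this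
  -- a fixed point
  have hfix : ∃ e : Multiplicative (ZMod 2), ∃ x ∈ N, x ≠ 1 ∧ x * F.φ (e, T.a3) = F.φ (e, T.a3) * x := by
    by_contra hno
    push Not at hno
    have hcN : c ∈ N := (hN c).2 ⟨rfl, by rw [orderOf_eq_prime (hp := ⟨by norm_num⟩) hc5 hc1]; decide⟩
    have hinv : ∀ e : Multiplicative (ZMod 2), ∀ x ∈ N, F.φ (e, T.a3) * x * F.φ (e, T.a3) = x⁻¹ := by
      intro e
      obtain ⟨hw, hwc, -⟩ := hcand e
      set w := F.φ (e, T.a3) with hwdef
      have hwN : ∀ x ∈ N, w * x * w ∈ N := by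
        intro x hx
        obtain ⟨h1, h2⟩ := (hN x).1 hx
        refine (hN _).2 ⟨?_, ?_⟩
        · have hxc : x * c⁻¹ = c⁻¹ * x := (Commute.inv_right h1)
          have e1 : w * c = c⁻¹ * w := by
            rw [← hwc, mul_assoc, hw.1, mul_one]
          have e2 : c * w = w * c⁻¹ := by
            rw [← hwc]; simp [← mul_assoc, hw.1]
          calc w * x * w * c = w * x * (w * c) := by group
            _ = w * (x * c⁻¹) * w := by rw [e1]; group
            _ = w * c⁻¹ * (x * w) := by rw [hxc]; group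
            _ = c * (w * x * w) := by rw [← e2]; group
        · have e1 : w * x * w = w * x * w⁻¹ := by rw [hw.inv]
          rw [e1, ← MulAut.conj_apply, MulEquiv.orderOf_eq]
          exact h2
      let ψ : N →* N := ((MulAut.conj w).toMonoidHom.comp N.subtype).codRestrict N fun x => by
        show w * x * w⁻¹ ∈ N
        rw [hw.inv]; exact hwN x x.2
      have hψ : ∀ x : N, (ψ x : G) = w * x * w := fun x => by
        show w * (x : G) * w⁻¹ = _
        rw [hw.inv]
      have hfp : MonoidHom.FixedPointFree ψ := fun x hx => by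
        by_contra hx1
        have h := congrArg Subtype.val hx
        rw [hψ] at h
        refine hno e x x.2 (fun e' => hx1 (Subtype.ext e')) ?_
        show (x : G) * w = w * x
        calc (x : G) * w = w * x * w * w := by rw [h]
          _ = w * x := by rw [mul_assoc, hw.1, mul_one]
      have hinvol : Function.Involutive ψ := fun x => Subtype.ext (by
        rw [hψ, hψ]
        calc w * (w * x * w) * w = (w * w) * x * (w * w) := by group
          _ = x := by rw [hw.1, one_mul, mul_one])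
      intro x hx
      have := congrFun (hfp.coe_eq_inv_of_involutive hinvol) ⟨x, hx⟩
      rw [← hψ ⟨x, hx⟩, this]
      rfl
    refine cent_five_big H F hT fun x hx => ?_
    have hcomm : ∀ u ∈ N, u * z = z * u := by
      intro u hu
      have h0 := hinv 1 u hu
      have h1 := hinv (Multiplicative.ofAdd 1) u hu
      have hzz : z = F.φ (Multiplicative.ofAdd 1, T.a3) * F.φ (1, T.a3) := by
        rw [← map_mul]
        exact F.tt_eq.symm.trans (congrArg F.φ (Prod.ext (by simp [tt]) hT.i3.symm))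
      have hzinv : z⁻¹ = z := hz.inv
      have hw0 := (hcand 1).1.inv
      have hw1 := (hcand (Multiplicative.ofAdd 1)).1.inv
      have : z * u * z⁻¹ = u := by
        rw [hzz, mul_inv_rev, hw0, hw1]
        set w0 := F.φ (1, T.a3)
        set w1 := F.φ (Multiplicative.ofAdd 1, T.a3)
        calc w1 * w0 * u * (w0 * w1) = w1 * (w0 * u * w0) * w1 := by group
          _ = w1 * u⁻¹ * w1 := by rw [h0]
          _ = (w1⁻¹ * u * w1⁻¹)⁻¹ := by group
          _ = u := by rw [hw1, h1, inv_inv]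
      exact (mul_inv_eq_iff_eq_mul.1 this).symm
    rcases hNcover x hx with h | h
    · exact hcomm x h
    · have := hcomm _ h
      calc x * z = z⁻¹ * (z * x * z) := by group
        _ = z⁻¹ * (z * (z * x)) := by rw [this]
        _ = z * x := by group
  obtain ⟨e, y, hyN, hy1, hyw⟩ := hfix
  obtain ⟨hw, hwc, hwz⟩ := hcand e
  obtain ⟨hyc, hyodd⟩ := (hN y).1 hyN
  set w := F.φ (e, T.a3) with hwdef
  have h25 : ¬ 5 * 5 ∣ Nat.card G := by rw [H.card]; norm_num
  have hw_not : ¬ w * c = c * w := fun h => by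
    have hcc : c * c = 1 := by
      rw [h, mul_assoc, hw.1, mul_one] at hwc
      calc c * c = c * c⁻¹ := by rw [← hwc]
        _ = 1 := mul_inv_cancel c
    exact hc1 (by simpa using pow_gcd_eq_one.2 ⟨(pow_two c).trans hcc, hc5⟩)
  have hno5 : ∀ x : G, x * w = w * x → x * c = c * x → x ^ 5 = 1 → x = 1 := by
    intro x hxw hxc hx5
    by_contra hx1
    have hm := mem_zpowers_of_commute (by norm_num : Nat.Prime 5) h25 hc5 hx5 hx1 hxc.symm
    obtain ⟨k, hk⟩ := Subgroup.mem_zpowers_iff.1 hm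
    exact hw_not (by rw [hcdef, ← hk]; exact Commute.zpow_right hxw.symm k)
  obtain ⟨Fw⟩ := H.frame w hw
  have hinj : ∀ x : G, x * w = w * x → x * c = c * x → ∀ a, Fw.φ a = x → a.2 = 1 → x = 1 := by
    intro x _ hxc a ha ha2
    rcases zmod_cases a.1 with h | h
    · rw [← ha, show a = 1 from Prod.ext h ha2, map_one]
    · exact absurd (by rw [← Fw.tt_eq, show tt = a from Prod.ext h.symm ha2.symm, ha]; exact hxc) hw_not
  obtain ⟨a, ha⟩ := Fw.surj y hyw
  have ha15 : a ^ 15 = 1 := by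
    refine Fw.inj ?_
    rw [map_pow, ha, map_one]
    have h30 : y ^ 30 = 1 := by rw [← ha, ← map_pow, m_pow, map_one]
    have hd : orderOf y ∣ 2 * 15 := orderOf_dvd_of_pow_eq_one h30
    exact orderOf_dvd_iff_pow_eq_one.1 ((Nat.Coprime.dvd_of_dvd_mul_left (Nat.coprime_two_right.2 hyodd) hd))
  have hy3 : y ^ 3 = 1 := by
    rcases (odd_no_fifteen a ha15).2 with h | h
    · rw [← ha, ← map_pow, h, map_one]
    · exact absurd (hno5 y hyw hyc (by rw [← ha, ← map_pow, h, map_one])) hy1
  have hA1 : a.2 ≠ 1 := fun h => hy1 (hinj y hyw hyc a ha h)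
  have hA3 : a.2 ^ 3 = 1 := by
    have : a ^ 3 = 1 := Fw.inj (by rw [map_pow, ha, hy3, map_one])
    exact congrArg Prod.snd this
  obtain ⟨b, hb⟩ := Fw.surj z hwz.symm
  have hzc : z * c = c * z := (F.comm (1, T.f)).symm
  have hB1 : b.2 ≠ 1 := fun h => hz.2 (hinj z hwz.symm hzc b hb h)
  have hB2 : b.2 * b.2 = 1 := by
    have : b * b = 1 := Fw.inj (by rw [map_mul, hb, hz.1, map_one])
    exact congrArg Prod.snd this
  refine ⟨y, hy3, hy1, hyc, ?_, ?_⟩
  · have hzy_w : (z * y) * w = w * (z * y) := Commute.mul_left hwz.symm hyw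
    have hzy_c : (z * y) * c = c * (z * y) := Commute.mul_left hzc hyc
    rcases A5_invert b.2 a.2 hB2 hB1 hA3 hA1 with h | ⟨h, hne⟩ | h
    · have : (z * y) ^ 2 = 1 := hinj _ (Commute.pow_left hzy_w 2) (Commute.pow_left hzy_c 2) ((b * a) ^ 2)
        (by rw [map_pow, map_mul, ha, hb]) h
      rw [pow_two] at this
      have e1 := eq_inv_of_mul_eq_one_left this
      calc z * y * z = (z * y) * z := rfl
        _ = (z * y)⁻¹ * z := by rw [← e1]
        _ = y⁻¹ := by rw [mul_inv_rev, mul_assoc, inv_mul_cancel, mul_one]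
    · exfalso
      refine hne ?_
      have h5 : (z * y) ^ 5 = 1 := hinj _ (Commute.pow_left hzy_w 5) (Commute.pow_left hzy_c 5) ((b * a) ^ 5)
        (by rw [map_pow, map_mul, ha, hb]) h
      have h1 := hno5 _ hzy_w hzy_c h5
      have : b * a = 1 := Fw.inj (by rw [map_mul, hb, ha, h1, map_one])
      exact congrArg Prod.snd this
    · exfalso
      have hu : Inv2 (y * z * y⁻¹) := hz.conj y
      have huw : (y * z * y⁻¹) * w = w * (y * z * y⁻¹) :=
        Commute.mul_left (Commute.mul_left hyw hwz.symm) (Commute.inv_left hyw)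
      have huc : (y * z * y⁻¹) * c = c * (y * z * y⁻¹) :=
        Commute.mul_left (Commute.mul_left hyc hzc) (Commute.inv_left hyc)
      have hk : (y * z * y⁻¹) * z * (z * (y * z * y⁻¹))⁻¹ = 1 := by
        refine hinj _ (Commute.mul_left (Commute.mul_left huw hwz.symm) (Commute.inv_left (Commute.mul_left hwz.symm huw)))
          (Commute.mul_left (Commute.mul_left huc hzc) (Commute.inv_left (Commute.mul_left hzc huc)))
          ((a * b * a⁻¹) * b * (b * (a * b * a⁻¹))⁻¹) (by simp only [map_mul, map_inv, ha, hb]) ?_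
        show (a.2 * b.2 * a.2⁻¹) * b.2 * (b.2 * (a.2 * b.2 * a.2⁻¹))⁻¹ = 1
        rw [h, mul_inv_cancel]
      have hcomm := mul_inv_eq_one.1 hk
      have he := invol_unique F hT hu hcomm huc
      exact no_three F hT hy3 hy1 (mul_inv_eq_iff_eq_mul.1 he) hyc
  · rcases zmod_cases e with rfl | rfl
    · exact Or.inr hyw
    · exact Or.inl hyw

end Cfsg.Agent.J1U
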