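import Cfsg.Agent.Lib.Char.JankoOne.Model
import Cfsg.Agent.Lib.Spor.Coset

/-! Facts about the model `2 × A₅` used for the uniqueness of Janko's first group. -/

set_option autoImplicit false
set_option maxRecDepth 100000
set_option maxHeartbeats 4000000
set_option linter.style.longLine false
set_option synthInstance.maxHeartbeats 1000000
set_option synthInstance.maxSize 4096

namespace Cfsg.Agent.J1U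

open Cfsg.Agent.Char.JankoOne
open Cfsg.Agent.Spor.Coset (ev)
open scoped commutatorElement

/-- The permutation, in the alternating group, exchanging two pairs. -/
def dt (a b c d : Fin 5) (h : Equiv.Perm.sign (Equiv.swap a b * Equiv.swap c d) = 1 := by decide +kernel) :
    A5 := ⟨Equiv.swap a b * Equiv.swap c d, Equiv.Perm.mem_alternatingGroup.2 h⟩

/-- Data of three involutions. -/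
structure Trip where
  a1 : A5
  a2 : A5
  a3 : A5
  words : List (List ℕ)

/-- The reflection of an involution of the simple factor. -/
def rf (a : A5) : Model := (Multiplicative.ofAdd 1, a)

/-- The generators of the model given by a triple. -/
def Trip.gens (T : Trip) (s : ℕ) : Model :=
  if s = 1 then rf T.a1 else if s = 2 then rf T.a2 else if s = 3 then rf T.a3 else 1

/-- The element of order five of a triple. -/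
def Trip.f (T : Trip) : A5 := T.a2 * T.a3

/-- The properties of a triple. -/
structure Trip.Good (T : Trip) : Prop where
  i1 : T.a1 * T.a1 = 1
  i2 : T.a2 * T.a2 = 1
  i3 : T.a3 * T.a3 = 1
  n1 : T.a1 ≠ 1
  n2 : T.a2 ≠ 1
  n3 : T.a3 ≠ 1
  n13 : T.a1 ≠ T.a3
  c13 : T.a1 * T.a3 = T.a3 * T.a1
  o12 : (T.a1 * T.a2) ^ 3 = 1
  n12 : T.a1 * T.a2 ≠ T.a2 * T.a1
  o23 : (T.a2 * T.a3) ^ 5 = 1
  n23 : T.a2 * T.a3 ≠ 1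
  o123 : ev T.gens [1, 2, 3, 1, 2, 3, 1, 2, 3, 1, 2, 3, 1, 2, 3] = tt
  cover : ∀ x : Model, ∃ w ∈ T.words, ev T.gens w = x
  wlt : ∀ w ∈ T.words, ∀ s ∈ w, s = 1 ∨ s = 2 ∨ s = 3
  cent12 : ∀ x : Model, x * rf T.a1 = rf T.a1 * x → x * rf T.a2 = rf T.a2 * x → x = 1 ∨ x = tt
  centf : ∀ x : Model, x * (1, T.f) = (1, T.f) * x →
    ∃ (z : Multiplicative (ZMod 2)) (i : Fin 5), x = (z, T.f ^ (i : ℕ))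
  norm_card : (Finset.univ.filter fun x : Model =>
    ∃ i : Fin 5, x * (1, T.f) * x⁻¹ = ((1, T.f) : Model) ^ (i : ℕ)).card = 20
  to_a3 : ∀ a : A5, a * a = 1 → a ≠ 1 → ∃ g : A5, g * T.a3 * g⁻¹ = a
  to_f : ∀ d : A5, d ^ 5 = 1 → d ≠ 1 → T.a3 * d * T.a3 = d⁻¹ →
    ∃ (g : A5) (i : Fin 5), g * T.a3 = T.a3 * g ∧ g * d * g⁻¹ = T.f ^ (i : ℕ)

/-- The first triple. -/
def T1 : Trip where
  a1 := dt 0 1 2 3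
  a2 := dt 0 1 3 4
  a3 := dt 0 2 1 3
  words := [[], [1], [2], [3], [1,2], [1,3], [2,1], [2,3], [3,2], [1,2,1], [1,2,3], [1,3,2], [2,1,3], [2,3,2], [3,2,1], [3,2,3], [1,2,1,3], [1,2,3,2], [1,3,2,1], [1,3,2,3], [2,1,3,2], [2,3,2,1], [2,3,2,3], [3,2,1,3], [3,2,3,2], [1,2,1,3,2], [1,2,3,2,1], [1,2,3,2,3], [1,3,2,1,3], [1,3,2,3,2], [2,1,3,2,1], [2,1,3,2,3], [2,3,2,1,3], [2,3,2,3,2], [3,2,1,3,2], [3,2,3,2,1], [1,2,1,3,2,1], [1,2,1,3,2,3], [1,2,3,2,1,3], [1,2,3,2,3,2], [1,3,2,1,3,2], [1,3,2,3,2,1], [2,1,3,2,1,3], [2,1,3,2,3,2], [2,3,2,1,3,2], [2,3,2,3,2,1], [3,2,1,3,2,1], [3,2,1,3,2,3], [1,2,1,3,2,1,3], [1,2,1,3,2,3,2], [1,2,3,2,1,3,2], [1,2,3,2,3,2,1], [1,3,2,1,3,2,1], [1,3,2,1,3,2,3], [2,1,3,2,1,3,2], [2,1,3,2,3,2,1], [2,3,2,1,3,2,1], [2,3,2,1,3,2,3], [3,2,1,3,2,1,3], [3,2,1,3,2,3,2],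 [1,2,1,3,2,1,3,2], [1,2,1,3,2,3,2,1], [1,2,3,2,1,3,2,1], [1,2,3,2,1,3,2,3], [1,3,2,1,3,2,1,3], [1,3,2,1,3,2,3,2], [2,1,3,2,1,3,2,1], [2,1,3,2,1,3,2,3], [2,3,2,1,3,2,1,3], [2,3,2,1,3,2,3,2], [3,2,1,3,2,1,3,2], [3,2,1,3,2,3,2,1], [1,2,1,3,2,1,3,2,1], [1,2,1,3,2,1,3,2,3], [1,2,3,2,1,3,2,1,3], [1,2,3,2,1,3,2,3,2], [1,3,2,1,3,2,1,3,2], [1,3,2,1,3,2,3,2,1], [2,1,3,2,1,3,2,1,3], [2,1,3,2,1,3,2,3,2], [2,3,2,1,3,2,1,3,2], [2,3,2,1,3,2,3,2,1], [3,2,1,3,2,1,3,2,1], [3,2,1,3,2,1,3,2,3], [1,2,1,3,2,1,3,2,1,3], [1,2,1,3,2,1,3,2,3,2], [1,2,3,2,1,3,2,1,3,2], [1,2,3,2,1,3,2,3,2,1], [1,3,2,1,3,2,1,3,2,1], [1,3,2,1,3,2,1,3,2,3], [2,1,3,2,1,3,2,1,3,2], [2,1,3,2,1,3,2,3,2,1], [2,3,2,1,3,2,1,3,2,1], [2,3,2,1,3,2,1,3,2,3], [3,2,1,3,2,1,3,2,1,3], [1,2,1,3,2,1,3,2,1,3,2], [1,2,1,3,2,1,3,2,3,2,1],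 [1,2,3,2,1,3,2,1,3,2,1], [1,2,3,2,1,3,2,1,3,2,3], [1,3,2,1,3,2,1,3,2,1,3], [2,1,3,2,1,3,2,1,3,2,1], [2,1,3,2,1,3,2,1,3,2,3], [2,3,2,1,3,2,1,3,2,1,3], [3,2,1,3,2,1,3,2,1,3,2], [1,2,1,3,2,1,3,2,1,3,2,1], [1,2,1,3,2,1,3,2,1,3,2,3], [1,2,3,2,1,3,2,1,3,2,1,3], [1,3,2,1,3,2,1,3,2,1,3,2], [2,1,3,2,1,3,2,1,3,2,1,3], [2,3,2,1,3,2,1,3,2,1,3,2], [3,2,1,3,2,1,3,2,1,3,2,3], [1,2,1,3,2,1,3,2,1,3,2,1,3], [1,2,3,2,1,3,2,1,3,2,1,3,2], [1,3,2,1,3,2,1,3,2,1,3,2,3], [2,1,3,2,1,3,2,1,3,2,1,3,2], [2,3,2,1,3,2,1,3,2,1,3,2,3], [1,2,1,3,2,1,3,2,1,3,2,1,3,2], [1,2,3,2,1,3,2,1,3,2,1,3,2,3], [2,1,3,2,1,3,2,1,3,2,1,3,2,3], [1,2,1,3,2,1,3,2,1,3,2,1,3,2,3]]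

/-- The second triple. -/
def T2 : Trip where
  a1 := dt 0 2 1 3
  a2 := dt 1 3 2 4
  a3 := dt 0 1 2 3
  words := [[], [1], [2], [3], [1,2], [1,3], [2,1], [2,3], [3,2], [1,2,1], [1,2,3], [1,3,2], [2,1,3], [2,3,2], [3,2,1], [3,2,3], [1,2,1,3], [1,2,3,2], [1,3,2,1], [1,3,2,3], [2,1,3,2], [2,3,2,1], [2,3,2,3], [3,2,1,3], [3,2,3,2], [1,2,1,3,2], [1,2,3,2,1], [1,2,3,2,3], [1,3,2,1,3], [1,3,2,3,2], [2,1,3,2,1], [2,1,3,2,3], [2,3,2,1,3], [2,3,2,3,2], [3,2,1,3,2], [3,2,3,2,1], [1,2,1,3,2,1], [1,2,1,3,2,3], [1,2,3,2,1,3], [1,2,3,2,3,2], [1,3,2,1,3,2], [1,3,2,3,2,1], [2,1,3,2,1,3], [2,1,3,2,3,2], [2,3,2,1,3,2], [2,3,2,3,2,1], [3,2,1,3,2,1], [3,2,1,3,2,3], [1,2,1,3,2,1,3], [1,2,1,3,2,3,2], [1,2,3,2,1,3,2], [1,2,3,2,3,2,1], [1,3,2,1,3,2,1], [1,3,2,1,3,2,3], [2,1,3,2,1,3,2], [2,1,3,2,3,2,1],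 [2,3,2,1,3,2,1], [2,3,2,1,3,2,3], [3,2,1,3,2,1,3], [3,2,1,3,2,3,2], [1,2,1,3,2,1,3,2], [1,2,1,3,2,3,2,1], [1,2,3,2,1,3,2,1], [1,2,3,2,1,3,2,3], [1,3,2,1,3,2,1,3], [1,3,2,1,3,2,3,2], [2,1,3,2,1,3,2,1], [2,1,3,2,1,3,2,3], [2,3,2,1,3,2,1,3], [2,3,2,1,3,2,3,2], [3,2,1,3,2,1,3,2], [3,2,1,3,2,3,2,1], [1,2,1,3,2,1,3,2,1], [1,2,1,3,2,1,3,2,3], [1,2,3,2,1,3,2,1,3], [1,2,3,2,1,3,2,3,2], [1,3,2,1,3,2,1,3,2], [1,3,2,1,3,2,3,2,1], [2,1,3,2,1,3,2,1,3], [2,1,3,2,1,3,2,3,2], [2,3,2,1,3,2,1,3,2], [2,3,2,1,3,2,3,2,1], [3,2,1,3,2,1,3,2,1], [3,2,1,3,2,1,3,2,3], [1,2,1,3,2,1,3,2,1,3], [1,2,1,3,2,1,3,2,3,2], [1,2,3,2,1,3,2,1,3,2], [1,2,3,2,1,3,2,3,2,1], [1,3,2,1,3,2,1,3,2,1], [1,3,2,1,3,2,1,3,2,3], [2,1,3,2,1,3,2,1,3,2], [2,1,3,2,1,3,2,3,2,1], [2,3,2,1,3,2,1,3,2,1], [2,3,2,1,3,2,1,3,2,3], [3,2,1,3,2,1,3,2,1,3],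 [1,2,1,3,2,1,3,2,1,3,2], [1,2,1,3,2,1,3,2,3,2,1], [1,2,3,2,1,3,2,1,3,2,1], [1,2,3,2,1,3,2,1,3,2,3], [1,3,2,1,3,2,1,3,2,1,3], [2,1,3,2,1,3,2,1,3,2,1], [2,1,3,2,1,3,2,1,3,2,3], [2,3,2,1,3,2,1,3,2,1,3], [3,2,1,3,2,1,3,2,1,3,2], [1,2,1,3,2,1,3,2,1,3,2,1], [1,2,1,3,2,1,3,2,1,3,2,3], [1,2,3,2,1,3,2,1,3,2,1,3], [1,3,2,1,3,2,1,3,2,1,3,2], [2,1,3,2,1,3,2,1,3,2,1,3], [2,3,2,1,3,2,1,3,2,1,3,2], [3,2,1,3,2,1,3,2,1,3,2,3], [1,2,1,3,2,1,3,2,1,3,2,1,3], [1,2,3,2,1,3,2,1,3,2,1,3,2], [1,3,2,1,3,2,1,3,2,1,3,2,3], [2,1,3,2,1,3,2,1,3,2,1,3,2], [2,3,2,1,3,2,1,3,2,1,3,2,3], [1,2,1,3,2,1,3,2,1,3,2,1,3,2], [1,2,3,2,1,3,2,1,3,2,1,3,2,3], [2,1,3,2,1,3,2,1,3,2,1,3,2,3], [1,2,1,3,2,1,3,2,1,3,2,1,3,2,3]]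

theorem T1_good : T1.Good := by
  constructor <;> decide +kernel

theorem T2_good : T2.Good := by
  constructor <;> decide +kernel

theorem T2_a1 : T2.a1 = T1.a3 := rfl

theorem T2_a3 : T2.a3 = T1.a1 := rfl

theorem tt_fst : tt.1 = Multiplicative.ofAdd 1 := rfl

theorem zmod_cases : ∀ z : Multiplicative (ZMod 2), z = 1 ∨ z = Multiplicative.ofAdd 1 := by
  decide +kernel

theorem uu_comm : ∃ x y : A5, uu = ⁅x, y⁆ := by decide +kernel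

theorem invol_conj : ∀ a : A5, a * a = 1 → a ≠ 1 → ∃ g : A5, g * uu * g⁻¹ = a := by decide +kernel

theorem m_pow : ∀ a : Model, a ^ 30 = 1 := pow_thirty

/-- The element of order three acting on the four group of `uu`. -/
def m3 : Model := (1, ⟨Equiv.swap 0 1 * Equiv.swap 1 2, by rw [Equiv.Perm.mem_alternatingGroup]; decide +kernel⟩)

theorem m3_norm : ∀ z : Multiplicative (ZMod 2), ∀ x : Model, x * (z, uu) = (z, uu) * x →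
    m3 * x * m3⁻¹ * (z, uu) = (z, uu) * (m3 * x * m3⁻¹) := by decide +kernel

theorem m3_orbit : ∀ z : Multiplicative (ZMod 2), ∀ x y : Model, x * (z, uu) = (z, uu) * x →
    y * (z, uu) = (z, uu) * y → x ≠ 1 → y ≠ 1 → x.1 = 1 → y.1 = 1 →
    y = x ∨ y = m3 * x * m3⁻¹ ∨ y = m3 * (m3 * x * m3⁻¹) * m3⁻¹ := by decide +kernel

theorem cent_even : ∀ z : Multiplicative (ZMod 2), (Finset.univ.filter fun x : Model =>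
    (x * (z, uu) = (z, uu) * x ∧ x ≠ 1) ∧ x.1 = 1).card = 3 := by decide +kernel

theorem cent_comm : ∀ z : Multiplicative (ZMod 2), ∀ x y : Model, x * (z, uu) = (z, uu) * x →
    y * (z, uu) = (z, uu) * y → x * y = y * x := by decide +kernel

theorem triple_orders_aux : ∀ Z A : A5, (Z * Z = 1 ∧ Z ≠ 1 ∧ A * A = 1 ∧ A ≠ 1 ∧ Z ≠ A ∧ Z * A = A * Z) →
    ∀ J : A5, (J * J = 1 ∧ J ≠ 1 ∧ J ≠ Z ∧ (J * Z) ^ 3 = 1) → (J * A) ^ 5 = 1 ∧ (J * Z * A) ^ 5 = 1 := by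
  decide +kernel

theorem triple_orders {Z A J : A5} (hZ : Z * Z = 1) (hZ1 : Z ≠ 1) (hA : A * A = 1) (hA1 : A ≠ 1)
    (hZA : Z ≠ A) (hc : Z * A = A * Z) (hJ : J * J = 1) (hJ1 : J ≠ 1) (hJZ : J ≠ Z)
    (h3 : (J * Z) ^ 3 = 1) : (J * A) ^ 5 = 1 ∧ (J * Z * A) ^ 5 = 1 :=
  triple_orders_aux Z A ⟨hZ, hZ1, hA, hA1, hZA, hc⟩ J ⟨hJ, hJ1, hJZ, h3⟩

theorem odd_no_fifteen : ∀ a : Model, a ^ 15 = 1 → a.1 = 1 ∧ (a ^ 3 = 1 ∨ a ^ 5 = 1) := by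
  decide +kernel

theorem three_cyclic : ∀ x y : A5, x ^ 3 = 1 → x ≠ 1 → y ^ 3 = 1 → (x * y) ^ 3 = 1 → (x * y⁻¹) ^ 3 = 1 →
    y = 1 ∨ y = x ∨ y = x⁻¹ := by
  decide +kernel

theorem invol_prod : ∀ x y : A5, x * x = 1 → y * y = 1 →
    (x * y = y * x) ∨ ((x * y) ^ 3 = 1 ∧ x * y ≠ 1) ∨ ((x * y) ^ 5 = 1 ∧ x * y ≠ 1) := by
  decide +kernel

theorem order_split : ∀ a : A5, a * a = 1 ∨ a ^ 15 = 1 := by decide +kernel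

end Cfsg.Agent.J1U
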