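import Cfsg.Agent.Lib.Invol.J1.Five
import Cfsg.Agent.Lib.Invol.J1.Check

/-! The element of order three centralizes no involution of the simple factor inverting the element
of order five. -/

set_option autoImplicit false
set_option linter.unusedSectionVars false

namespace Cfsg.Agent.J1U

open Cfsg Cfsg.Agent.Char.JankoOne
open Cfsg.Agent.Spor.Coset (ev ev_append ev_map)
open Cfsg.Agent.Spor

universe u

variable {G : Type u} [Group G]

/-- The generators in the group: a new one and three from a frame. -/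
def genF {z : G} (F : Frame z) (T : Trip) (j : G) (s : ℕ) : G := if s = 0 then j else F.φ (T.gens s)

theorem gens_sq {T : Trip} (hT : T.Good) (s : ℕ) : T.gens s * T.gens s = 1 := by
  unfold Trip.gens
  split_ifs
  · exact rf_sq hT.i1
  · exact rf_sq hT.i2
  · exact rf_sq hT.i3
  · exact one_mul 1

theorem genF_sq {z : G} (F : Frame z) {T : Trip} (hT : T.Good) {j : G} (hj : j * j = 1) (s : ℕ) :
    genF F T j s * genF F T j s = 1 := by
  unfold genF
  split_ifs
  · exact hj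
  · rw [← map_mul, gens_sq hT, map_one]

theorem ev_genF {z : G} (F : Frame z) (T : Trip) (j : G) :
    ∀ w : List ℕ, (∀ s ∈ w, s ≠ 0) → ev (genF F T j) w = F.φ (ev T.gens w)
  | [], _ => by simp [Coset.ev]
  | s :: w, h => by
    simp only [Coset.ev, map_mul]
    rw [ev_genF F T j w fun t ht => h t (List.mem_cons_of_mem _ ht), genF,
      if_neg (h s List.mem_cons_self)]

/-- The word of the central involution. -/
def zW : List ℕ := [1, 2, 3, 1, 2, 3, 1, 2, 3, 1, 2, 3, 1, 2, 3]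

theorem ev_zW {z : G} (F : Frame z) {T : Trip} (hT : T.Good) (j : G) : ev (genF F T j) zW = z := by
  rw [ev_genF F T j zW (by decide), show ev T.gens zW = tt from hT.o123, F.tt_eq]

theorem frame_rf {z : G} (F : Frame z) (a : A5) : F.φ (rf a) = z * F.φ (1, a) := by
  have e : rf a = tt * (1, a) := by simp [rf, tt]
  rw [e, map_mul, F.tt_eq]

theorem fst_pow_three : ∀ a : Model, (a ^ 3).1 = a.1 := by decide +kernel

theorem fst_pow_five : ∀ a : Model, (a ^ 5).1 = a.1 := by decide +kernel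

theorem fst_pow_fifteen : ∀ a : Model, (a ^ 15).1 = a.1 := by decide +kernel

theorem invol_frame {p : G} (F : Frame p) {x : G} {a : Model} (hx : Inv2 x) (ha : F.φ a = x) :
    a * a = 1 ∧ a ≠ 1 ∧ (x ≠ p → a.2 * a.2 = 1 ∧ a.2 ≠ 1) := by
  have h1 : a * a = 1 := F.inj (by rw [map_mul, ha, hx.1, map_one])
  have h2 : a ≠ 1 := fun e => hx.2 (by rw [← ha, e, map_one])
  refine ⟨h1, h2, fun hne => ⟨congrArg Prod.snd h1, fun e => ?_⟩⟩
  rcases zmod_cases a.1 with h | h
  · exact h2 (Prod.ext h e)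
  · exact hne (ha.symm.trans ((congrArg F.φ (show a = tt from Prod.ext h e)).trans F.tt_eq))

theorem exists_trip [Finite G] (H : Hyp G) {z : G} (F : Frame z) :
    ∃ T : Trip, T.Good ∧ E (F.φ (1, T.a1)) (F.φ (1, T.a3)) := by
  have hne : F.φ ((1, T1.a1) : Model) ≠ F.φ (1, T1.a3) := fun e => T1_good.n13 (congrArg Prod.snd (F.inj e))
  have hi : ∀ a : A5, a * a = 1 → a ≠ 1 → Inv2 (F.φ (1, a)) := fun a h h' =>
    ⟨by rw [← map_mul, show ((1, a) : Model) * (1, a) = 1 from Prod.ext (one_mul 1) h, map_one],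
      fun e => h' (congrArg Prod.snd (F.inj (e.trans (map_one _).symm)))⟩
  have hc : F.φ ((1, T1.a1) : Model) * F.φ (1, T1.a3) = F.φ (1, T1.a3) * F.φ (1, T1.a1) :=
    (F.comm_iff _ _).2 (Prod.ext rfl T1_good.c13)
  by_cases h : E (F.φ (1, T1.a1)) (F.φ (1, T1.a3))
  · exact ⟨T1, T1_good, h⟩
  · refine ⟨T2, T2_good, ?_⟩
    rw [T2_a1, T2_a3]
    by_contra h'
    exact h ((orient H (hi _ T1_good.i1 T1_good.n1) (hi _ T1_good.i3 T1_good.n3) hne hc).2 h')

/-- In a Coxeter configuration of type `H₃` the longest product is a central involution or trivial. -/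
theorem h3_central {x0 x1 x2 : G} (h0 : x0 * x0 = 1) (h1 : x1 * x1 = 1) (h2 : x2 * x2 = 1)
    (h02 : x0 * x2 = x2 * x0) (h12 : (x1 * x2) ^ 3 = 1) (h01 : (x0 * x1) ^ 5 = 1) :
    (x0 * x1 * x2) ^ 5 * (x0 * x1 * x2) ^ 5 = 1 ∧
    (x0 * x1 * x2) ^ 5 * x0 = x0 * (x0 * x1 * x2) ^ 5 ∧
    (x0 * x1 * x2) ^ 5 * x1 = x1 * (x0 * x1 * x2) ^ 5 ∧
    (x0 * x1 * x2) ^ 5 * x2 = x2 * (x0 * x1 * x2) ^ 5 := by
  let g : ℕ → G := fun s => if s = 0 then x0 else if s = 1 then x1 else if s = 2 then x2 else 1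
  have hinv : ∀ s < cH.n, g s * g s = 1 := by
    intro s _
    simp only [g]
    split_ifs <;> first | assumption | exact one_mul 1
  have h02' : x0 * x2 * (x0 * x2) = 1 := by
    calc x0 * x2 * (x0 * x2) = x0 * (x2 * x0) * x2 := by group
      _ = (x0 * x0) * (x2 * x2) := by rw [← h02]; group
      _ = 1 := by rw [h0, h2, one_mul]
  have hrels : ∀ w ∈ cH.rels, ev g w = 1 := by
    intro w hw
    simp only [cH, List.mem_cons, List.not_mem_nil, or_false] at hw
    rcases hw with rfl | rfl | rfl | rfl | rfl | rfl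
    · simpa [Coset.ev, g] using h0
    · simpa [Coset.ev, g] using h1
    · simpa [Coset.ev, g] using h2
    · simpa [Coset.ev, g, mul_assoc] using h02'
    · simpa [Coset.ev, g, pow_succ, mul_assoc] using h12
    · simpa [Coset.ev, g, pow_succ, mul_assoc] using h01
  have hall := cH.holds_all g cH_check (H := (⊥ : Subgroup G)) hinv hrels (by simp [cH])
  have key : ∀ w : List ℕ, (∀ s ∈ w, s < cH.n) → ev g w = cH.rep g (run cH 0 w) := by
    intro w hw
    have := run_holds cH_act hall w 0 (by decide) hw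
    rw [Subgroup.mem_bot, mul_inv_eq_one] at this
    simpa [Coset.Cert.rep, Coset.Cert.repAux] using this
  have eu : ev g [0,1,2,0,1,2,0,1,2,0,1,2,0,1,2] = (x0 * x1 * x2) ^ 5 := by
    simp [Coset.ev, g, pow_succ, mul_assoc]
  obtain ⟨c1, c2⟩ := cH_central
  have hz : cH.rep g 0 = 1 := by simp [Coset.Cert.rep, Coset.Cert.repAux]
  refine ⟨?_, ?_, ?_, ?_⟩
  · rw [← eu, ← ev_append]
    simp only [List.cons_append, List.nil_append]
    rw [key _ (by decide), c1, hz]
  all_goals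
    rw [← eu]
  · have e := (key _ (by decide)).trans ((congrArg (cH.rep g) (c2 0 (by decide))).trans (key _ (by decide)).symm)
    rw [ev_append] at e
    simpa [Coset.ev, g] using e
  · have e := (key _ (by decide)).trans ((congrArg (cH.rep g) (c2 1 (by decide))).trans (key _ (by decide)).symm)
    rw [ev_append] at e
    simpa [Coset.ev, g] using e
  · have e := (key _ (by decide)).trans ((congrArg (cH.rep g) (c2 2 (by decide))).trans (key _ (by decide)).symm)
    rw [ev_append] at e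
    simpa [Coset.ev, g] using e

/-- What a frame at the central involution of such a configuration says. -/
theorem h3_frame {u x0 x1 x2 : G} (F : Frame u) (i0 : Inv2 x0) (i2 : Inv2 x2)
    (c0 : x0 * u = u * x0) (c1 : x1 * u = u * x1) (c2 : x2 * u = u * x2)
    (h12 : (x1 * x2) ^ 3 = 1) (h01 : (x0 * x1) ^ 5 = 1) (hu : (x0 * x1 * x2) ^ 5 = u) :
    ¬ E u x0 ∧ ¬ E u x2 := by
  obtain ⟨a0, rfl⟩ := F.surj x0 c0
  obtain ⟨a1, rfl⟩ := F.surj x1 c1
  obtain ⟨a2, rfl⟩ := F.surj x2 c2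
  have e12 : (a1 * a2) ^ 3 = 1 := F.inj (by rw [map_pow, map_mul, h12, map_one])
  have e01 : (a0 * a1) ^ 5 = 1 := F.inj (by rw [map_pow, map_mul, h01, map_one])
  have eu : (a0 * a1 * a2) ^ 5 = tt := F.inj (by rw [map_pow, map_mul, map_mul, hu, F.tt_eq])
  have f12 : (a1 * a2).1 = 1 := by
    have := congrArg Prod.fst e12
    rwa [fst_pow_three, Prod.fst_one] at this
  have f01 : (a0 * a1).1 = 1 := by
    have := congrArg Prod.fst e01
    rwa [fst_pow_five, Prod.fst_one] at this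
  have fu : (a0 * a1 * a2).1 = Multiplicative.ofAdd 1 := by
    have := congrArg Prod.fst eu
    rwa [fst_pow_five, tt_fst] at this
  simp only [Prod.fst_mul] at f12 f01 fu
  obtain ⟨s0, n0, -⟩ := invol_frame F i0 rfl
  obtain ⟨s2, n2, -⟩ := invol_frame F i2 rfl
  have hnum : ∀ p q r : Multiplicative (ZMod 2), q * r = 1 → p * q = 1 →
      p * q * r = Multiplicative.ofAdd 1 → p ≠ 1 ∧ r ≠ 1 := by decide +kernel
  obtain ⟨g0, g2⟩ := hnum _ _ _ f12 f01 fu
  exact ⟨fun h => g0 ((F.e_iff s0 n0).1 h), fun h => g2 ((F.e_iff s2 n2).1 h)⟩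

theorem no_B [Finite G] (H : Hyp G) {z : G} (hz : Inv2 z) (F : Frame z) {T : Trip} (hT : T.Good)
    (hor : E (F.φ (1, T.a1)) (F.φ (1, T.a3))) {y : G} (hy3 : y ^ 3 = 1) (hy1 : y ≠ 1)
    (hyc : y * F.φ (1, T.f) = F.φ (1, T.f) * y) (hyz : z * y * z = y⁻¹)
    (hyq : y * F.φ (1, T.a3) = F.φ (1, T.a3) * y) : False := by
  classical
  have hi : ∀ a : A5, a * a = 1 → a ≠ 1 → Inv2 (F.φ (1, a)) := fun a h h' =>
    ⟨by rw [← map_mul, show ((1, a) : Model) * (1, a) = 1 from Prod.ext (one_mul 1) h, map_one],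
      fun e => h' (congrArg Prod.snd (F.inj (e.trans (map_one _).symm)))⟩
  have hEz : ∀ a : A5, a * a = 1 → a ≠ 1 → E z (F.φ (1, a)) := fun a h h' =>
    (F.e_iff (Prod.ext (one_mul 1) h) (fun e => h' (congrArg Prod.snd e))).2 rfl
  have hne : ∀ a : A5, z ≠ F.φ (1, a) := fun a e => by
    have := congrArg Prod.fst (F.inj (F.tt_eq.trans e))
    rw [tt_fst] at this
    exact absurd this (show (Multiplicative.ofAdd 1 : Multiplicative (ZMod 2)) ≠ 1 by decide +kernel)
  set q := F.φ (1, T.a3) with hq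
  set c := F.φ (1, T.f) with hcdef
  set x1 := F.φ (1, T.a1) with hx1
  set x2 := F.φ (1, T.a2) with hx2
  have iq : Inv2 q := hi _ hT.i3 hT.n3
  have i1 : Inv2 x1 := hi _ hT.i1 hT.n1
  have i2 : Inv2 x2 := hi _ hT.i2 hT.n2
  have hzq : z * q = q * z := (F.comm _).symm
  set j := y * z * y⁻¹ with hjdef
  have ij : Inv2 j := hz.conj y
  have hjy : j * z = y⁻¹ := by
    have e1 : y * z = z * y⁻¹ := by
      rw [← hyz, ← mul_assoc, ← mul_assoc, hz.1, one_mul]
    have e2 : y⁻¹ * y⁻¹ = y := by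
      rw [← mul_inv_rev]
      exact inv_eq_of_mul_eq_one_right (by rw [← pow_two, ← pow_succ]; exact hy3)
    calc j * z = y * z * y⁻¹ * z := rfl
      _ = z * (y⁻¹ * y⁻¹) * z := by rw [e1]; group
      _ = y⁻¹ := by rw [e2, hyz]
  have hjz3 : (j * z) ^ 3 = 1 := by rw [hjy, inv_pow, hy3, inv_one]
  have hjne : j ≠ z := fun e => hy1 (by rw [← inv_inv y, ← hjy, e, hz.1, inv_one])
  have hcz : c * z = z * c := F.comm _
  have hjc : j * c = c * j :=
    Commute.mul_left (Commute.mul_left hyc hcz.symm) (Commute.inv_left hyc)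
  have hjq : j * q = q * j :=
    Commute.mul_left (Commute.mul_left hyq hzq) (Commute.inv_left hyq)
  have h1q : x1 * q = q * x1 := (F.comm_iff _ _).2 (Prod.ext rfl hT.c13)
  have h13 : x1 ≠ q := fun e => hT.n13 (congrArg Prod.snd (F.inj e))
  -- the centralizer of `q`
  obtain ⟨Fq⟩ := H.frame q iq
  obtain ⟨bz, hbz⟩ := Fq.surj z hzq
  obtain ⟨bj, hbj⟩ := Fq.surj j hjq
  obtain ⟨b1, hb1⟩ := Fq.surj x1 h1q
  have hjneq : j ≠ q := fun e => by
    have : z = q := by
      calc z = y⁻¹ * j * y := by rw [hjdef]; group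
        _ = y⁻¹ * (q * y) := by rw [e]; group
        _ = q := by rw [← hyq]; group
    exact hne T.a3 this
  have nEz : ¬ E q z := (orient H hz iq (hne _) hzq).1 (hEz _ hT.i3 hT.n3)
  have nEj : ¬ E q j := fun h => by
    refine nEz ((E.conj_iff y).1 ?_)
    have e : y * q * y⁻¹ = q := by rw [hyq, mul_inv_cancel_right]
    rw [e]; exact h
  have nE1 : ¬ E q x1 := (orient H i1 iq h13 h1q).1 hor
  obtain ⟨sz, nz, pz⟩ := invol_frame Fq hz hbz
  obtain ⟨sj, nj, pj⟩ := invol_frame Fq ij hbj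
  obtain ⟨s1, n1, p1⟩ := invol_frame Fq i1 hb1
  obtain ⟨Z2, Zn⟩ := pz (hne _)
  obtain ⟨J2, Jn⟩ := pj hjneq
  obtain ⟨A2, An⟩ := p1 h13
  have fz : bz.1 = Multiplicative.ofAdd 1 := (zmod_cases bz.1).resolve_left fun h =>
    nEz (hbz ▸ (Fq.e_iff sz nz).2 h)
  have fj : bj.1 = Multiplicative.ofAdd 1 := (zmod_cases bj.1).resolve_left fun h =>
    nEj (hbj ▸ (Fq.e_iff sj nj).2 h)
  have f1 : b1.1 = Multiplicative.ofAdd 1 := (zmod_cases b1.1).resolve_left fun h =>
    nE1 (hb1 ▸ (Fq.e_iff s1 n1).2 h)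
  have hZA : bz.2 ≠ b1.2 := fun e =>
    hne T.a1 (hbz.symm.trans ((congrArg Fq.φ (Prod.ext (fz.trans f1.symm) e)).trans hb1))
  have hJZ : bj.2 ≠ bz.2 := fun e =>
    hjne (hbj.symm.trans ((congrArg Fq.φ (Prod.ext (fj.trans fz.symm) e)).trans hbz))
  have hZAc : bz.2 * b1.2 = b1.2 * bz.2 :=
    congrArg Prod.snd ((Fq.comm_iff bz b1).1 (by rw [hbz, hb1]; exact (F.comm _).symm))
  have hJZ3 : (bj.2 * bz.2) ^ 3 = 1 := by
    have e : (bj * bz) ^ 3 = 1 := Fq.inj (by rw [map_pow, map_mul, hbj, hbz, hjz3, map_one])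
    exact congrArg Prod.snd e
  obtain ⟨oJA, oJZA⟩ := triple_orders Z2 Zn A2 An hZA hZAc J2 Jn hJZ hJZ3
  have htt : tt.2 = 1 := rfl
  have hsq2 : ∀ k : Multiplicative (ZMod 2), k * k = 1 := by decide +kernel
  have hJA : (j * q * (x1 * q)) ^ 5 = 1 := by
    have e : (bj * tt * (b1 * tt)) ^ 5 = 1 := by
      refine Prod.ext ?_ ?_
      · simp [fj, f1, tt_fst, hsq2]
      · simpa [htt] using oJA
    have e' := congrArg Fq.φ e
    simp only [map_pow, map_mul, map_one, hbj, hb1, Fq.tt_eq] at e'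
    exact e'
  have hJZA : (j * q * (z * q) * (x1 * q)) ^ 5 = 1 := by
    have e : (bj * tt * (bz * tt) * (b1 * tt)) ^ 5 = 1 := by
      refine Prod.ext ?_ ?_
      · simp [fj, fz, f1, tt_fst, hsq2]
      · simpa [htt] using oJZA
    have e' := congrArg Fq.φ e
    simp only [map_pow, map_mul, map_one, hbj, hbz, hb1, Fq.tt_eq] at e'
    exact e'
  -- the configuration of type H₃
  have h01 : (j * x1) ^ 5 = 1 := by
    have e : j * q * (x1 * q) = j * x1 := by
      calc j * q * (x1 * q) = j * q * (q * x1) := by rw [h1q]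
        _ = j * ((q * q) * x1) := by group
        _ = j * x1 := by rw [iq.1, one_mul]
    rwa [e] at hJA
  have h12 : (x1 * x2) ^ 3 = 1 := by
    rw [hx1, hx2, ← map_mul, ← map_pow, ← map_one F.φ]
    exact congrArg F.φ (Prod.ext (by simp) hT.o12)
  have hx2c : x2 = c * q := by
    rw [hx2, hcdef, hq, ← map_mul]
    exact congrArg F.φ (Prod.ext (by simp) (by simp [Trip.f, mul_assoc, hT.i3]))
  have h02 : j * x2 = x2 * j := by rw [hx2c]; exact Commute.mul_right hjc hjq
  obtain ⟨hu2, hu0, hu1, hu2'⟩ := h3_central ij.1 i1.1 i2.1 h02 h12 h01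
  have hw5 : (j * x1 * x2) ^ 5 = 1 := by
    by_contra hne1
    set u := (j * x1 * x2) ^ 5 with hu
    have iu : Inv2 u := ⟨hu2, hne1⟩
    obtain ⟨Fu⟩ := H.frame u iu
    obtain ⟨-, nu2⟩ := h3_frame Fu ij i2 hu0.symm hu1.symm hu2'.symm h12 h01 hu.symm
    have hu_ne : u ≠ x2 := fun e => by
      rw [e] at hu1
      exact hT.n12 (congrArg Prod.snd ((F.comm_iff _ _).1 hu1)).symm
    have hEu : E x2 u := (orient H i2 iu hu_ne.symm hu2'.symm).2 nu2
    have nEz2 : ¬ E x2 z := (orient H hz i2 (hne _) (F.comm _).symm).1 (hEz _ hT.i2 hT.n2)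
    obtain ⟨F2⟩ := H.frame x2 i2
    obtain ⟨cu, hcu⟩ := F2.surj u hu2'
    obtain ⟨cz, hcz'⟩ := F2.surj z (F.comm _).symm
    obtain ⟨su, nu, -⟩ := invol_frame F2 iu hcu
    obtain ⟨szz, nzz, -⟩ := invol_frame F2 hz hcz'
    have gu : cu.1 = 1 := (F2.e_iff su nu).1 (hcu ▸ hEu)
    have gz : cz.1 = Multiplicative.ofAdd 1 := (zmod_cases cz.1).resolve_left fun h =>
      nEz2 (hcz' ▸ (F2.e_iff szz nzz).2 h)
    rcases order_split (cu * cz).2 with hh | hh
    · have hcomm : cu * cz = cz * cu := by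
        refine Prod.ext (mul_comm _ _) ?_
        have a2 : cu.2 * cu.2 = 1 := congrArg Prod.snd su
        have b2 : cz.2 * cz.2 = 1 := congrArg Prod.snd szz
        simp only [Prod.snd_mul] at hh ⊢
        rw [← inv_eq_of_mul_eq_one_right hh, mul_inv_rev, inv_eq_of_mul_eq_one_right a2,
          inv_eq_of_mul_eq_one_right b2]
      have huz : u * z = z * u := by rw [← hcu, ← hcz']; exact (F2.comm_iff _ _).2 hcomm
      obtain ⟨m, hm⟩ := F.surj u huz
      have key : ∀ a : A5, u * F.φ (1, a) = F.φ (1, a) * u → m * rf a = rf a * m := fun a h => by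
        refine (F.comm_iff m (rf a)).1 ?_
        rw [hm, frame_rf]
        exact Commute.mul_right huz h
      rcases hT.cent12 m (key _ hu1) (key _ hu2') with e | e
      · exact hne1 (by rw [← hm, e, map_one])
      · exact nEz2 (by rwa [← hm, e, F.tt_eq] at hEu)
    · have e15 : (cu * cz) ^ 15 = tt := by
        refine Prod.ext ?_ hh
        rw [fst_pow_fifteen]
        simp [gu, gz, tt_fst]
      have : (u * z) ^ 15 = x2 := by rw [← hcu, ← hcz', ← map_mul, ← map_pow, e15, F2.tt_eq]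
      have hc1 : Commute (u * z) x1 := Commute.mul_left hu1 (F.comm _).symm
      have := (hc1.pow_left 15).eq
      rw [‹(u * z) ^ 15 = x2›] at this
      exact hT.n12 (congrArg Prod.snd ((F.comm_iff _ _).1 this)).symm
  -- the certificate
  set g := genF F T j with hg
  have hsq : ∀ s, g s * g s = 1 := genF_sq F hT ij.1
  have ez : ev g zW = z := ev_zW F hT j
  have g0 : g 0 = j := rfl
  have g1 : g 1 = z * x1 := by
    show genF F T j 1 = _
    rw [genF, if_neg (by norm_num), hx1, ← frame_rf]; rfl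
  have g2 : g 2 = z * x2 := by
    show genF F T j 2 = _
    rw [genF, if_neg (by norm_num), hx2, ← frame_rf]; rfl
  have g3 : g 3 = z * q := by
    show genF F T j 3 = _
    rw [genF, if_neg (by norm_num), hq, ← frame_rf]; rfl
  have g4 : g 4 = 1 := by
    show genF F T j 4 = _
    rw [genF, if_neg (by norm_num), show T.gens 4 = 1 by simp [Trip.gens], map_one]
  have cz1 : z * x1 = x1 * z := (F.comm _).symm
  have cz2 : z * x2 = x2 * z := (F.comm _).symm
  have mC : ∀ w : List ℕ, (∀ s ∈ w, s ≠ 0) → ev g w * z = z * ev g w := fun w hw => by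
    rw [hg, ev_genF F T j w hw]; exact F.comm _
  have ecomm : ∀ s, s = 1 ∨ s = 2 ∨ s = 3 → z * g s = g s * z := fun s hs => by
    have := mC [s] (by simp; omega)
    simpa [Coset.ev] using this.symm
  have eq1 : ev g (zW ++ [3]) = q := by
    rw [ev_append, ez]; simp [Coset.ev, g3, ← mul_assoc, hz.1]
  have ea1 : ev g (zW ++ [1]) = x1 := by
    rw [ev_append, ez]; simp [Coset.ev, g1, ← mul_assoc, hz.1]
  have ea2 : ev g (zW ++ [2]) = x2 := by
    rw [ev_append, ez]; simp [Coset.ev, g2, ← mul_assoc, hz.1]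
  have eq1r : ev g (zW ++ [3]).reverse = q := by rw [ev_reverse hsq, eq1, iq.inv]
  have ezr : ev g zW.reverse = z := by rw [ev_reverse hsq, ez, hz.inv]
  have ejp : ev g ([0] ++ (zW ++ [3])) = j * q := by
    rw [ev_append, eq1]; simp [Coset.ev, g0]
  have eap : ev g ((zW ++ [1]) ++ (zW ++ [3])) = x1 * q := by rw [ev_append, ea1, eq1]
  have erep : ∀ (w : List ℕ) (n : ℕ), ev g (List.replicate n w).flatten = ev g w ^ n := by
    intro w n
    induction n with
    | zero => simp [Coset.ev]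
    | succ n ih => rw [List.replicate_succ, List.flatten_cons, ev_append, ih, pow_succ']
  have hmodel : ∀ w : List ℕ, (∀ s ∈ w, s ≠ 0) → ev T.gens w = 1 → ev g w = 1 := fun w hw he => by
    rw [hg, ev_genF F T j w hw, he, map_one]
  have hrels : ∀ w ∈ nD.rels, ev g w = 1 := by
    have e : nD.rels = [[1, 1], [2, 2], [3, 3], [0, 0], (List.replicate 2 [1, 3]).flatten,
        (List.replicate 3 [1, 2]).flatten, (List.replicate 5 [2, 3]).flatten,
        (List.replicate 10 [1, 2, 3]).flatten, (List.replicate 3 ([0] ++ zW)).flatten,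
        zW.reverse ++ [1] ++ zW ++ [1], zW.reverse ++ [2] ++ zW ++ [2], zW.reverse ++ [3] ++ zW ++ [3],
        [0, 2, 3, 0, 3, 2], [0] ++ (zW ++ [3]) ++ [0] ++ (zW ++ [3]).reverse,
        (List.replicate 5 (([0] ++ (zW ++ [3])) ++ ((zW ++ [1]) ++ (zW ++ [3])))).flatten,
        (List.replicate 5 (([0] ++ (zW ++ [3])) ++ zW ++ (zW ++ [3]) ++ ((zW ++ [1]) ++ (zW ++ [3])))).flatten,
        (List.replicate 5 ([0] ++ (zW ++ [1]) ++ (zW ++ [2]))).flatten] := by decide +kernel
    rw [e]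
    intro w hw
    simp only [List.mem_cons, List.not_mem_nil, or_false] at hw
    have m13 : ev T.gens [1, 3] * ev T.gens [1, 3] = 1 := by
      simp only [Coset.ev, Trip.gens, mul_one, if_true, if_false,
        show ¬ (3 : ℕ) = 1 by norm_num, show ¬ (3 : ℕ) = 2 by norm_num]
      refine Prod.ext (by rw [Prod.fst_mul]; exact hsq2 _) ?_
      simp only [Prod.snd_mul, rf, Prod.snd_one]
      rw [← mul_assoc, hT.c13, mul_assoc T.a3, hT.i1, mul_one, hT.i3]
    rcases hw with rfl | rfl | rfl | rfl | rfl | rfl | rfl | rfl | rfl | rfl | rfl | rfl | rfl | rfl |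
      rfl | rfl | rfl
    · simpa [Coset.ev] using hsq 1
    · simpa [Coset.ev] using hsq 2
    · simpa [Coset.ev] using hsq 3
    · simpa [Coset.ev] using hsq 0
    · rw [erep, pow_two, hg, ev_genF F T j _ (by decide), ← map_mul, m13, map_one]
    · rw [erep, show ev g [1, 2] = x1 * x2 by
        simp only [Coset.ev, mul_one, g1, g2]
        calc z * x1 * (z * x2) = z * (x1 * z) * x2 := by group
          _ = (z * z) * (x1 * x2) := by rw [← cz1]; group
          _ = x1 * x2 := by rw [hz.1, one_mul]]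
      exact h12
    · rw [erep, hg, ev_genF F T j _ (by decide), ← map_pow, ← map_one F.φ]
      refine congrArg F.φ (Prod.ext ?_ ?_)
      · simp [Coset.ev, Trip.gens, rf, Prod.pow_fst, hsq2]
      · simpa [Coset.ev, Trip.gens, rf, Prod.pow_snd] using hT.o23
    · have h5 : ev g [1, 2, 3] ^ 5 = z := by
        rw [← erep, ← ez]; rfl
      rw [erep, show (10 : ℕ) = 5 * 2 from rfl, pow_mul, h5, pow_two, hz.1]
    · rw [erep, ev_append, ez]; simpa [Coset.ev, g0] using hjz3
    · simp only [ev_append, ezr, ez]; simp only [Coset.ev, mul_one]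
      rw [ecomm 1 (Or.inl rfl), mul_assoc (g 1) z z, hz.1, mul_one, hsq]
    · simp only [ev_append, ezr, ez]; simp only [Coset.ev, mul_one]
      rw [ecomm 2 (Or.inr (Or.inl rfl)), mul_assoc (g 2) z z, hz.1, mul_one, hsq]
    · simp only [ev_append, ezr, ez]; simp only [Coset.ev, mul_one]
      rw [ecomm 3 (Or.inr (Or.inr rfl)), mul_assoc (g 3) z z, hz.1, mul_one, hsq]
    · have ec : g 2 * g 3 = c := by
        rw [hg, hcdef]
        have := ev_genF F T j [2, 3] (by decide)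
        simp [Coset.ev] at this
        rw [this, ← map_mul]
        exact congrArg F.φ (Prod.ext (by simp [Trip.gens, rf, hsq2]) (by simp [Trip.gens, rf, Trip.f]))
      have ec' : g 3 * g 2 = c⁻¹ := by
        rw [← ec, mul_inv_rev, inv_eq_of_mul_eq_one_right (hsq 3), inv_eq_of_mul_eq_one_right (hsq 2)]
      simp only [Coset.ev, mul_one]
      calc g 0 * (g 2 * (g 3 * (g 0 * (g 3 * g 2)))) = g 0 * (g 2 * g 3) * g 0 * (g 3 * g 2) := by
            simp [mul_assoc]
        _ = j * c * j * c⁻¹ := by rw [ec, ec', g0]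
        _ = 1 := by rw [hjc, mul_assoc c j j, ij.1, mul_one, mul_inv_cancel]
    · rw [ev_append, ev_append, ev_append, eq1r, eq1]
      simp only [Coset.ev, mul_one, g0]
      rw [hjq, mul_assoc q j j, ij.1, mul_one, iq.1]
    · rw [erep, ev_append, ejp, eap]; exact hJA
    · rw [erep, ev_append, ev_append, ev_append, ejp, eap, ez, eq1]
      simpa only [mul_assoc] using hJZA
    · rw [erep, ev_append, ev_append, ea1, ea2]; simpa only [Coset.ev, mul_one, g0] using hw5
  have hsubs : ∀ s ∈ nD.subs, g s ∈ Subgroup.centralizer ({z} : Set G) := by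
    intro s hs
    rw [Subgroup.mem_centralizer_singleton_iff]
    exact (ecomm s (by rw [show nD.subs = [1, 2, 3] from rfl] at hs; simpa using hs)).symm
  have hD := nD.sound hsq g4 hrels hsubs (n := 1075)
    (fun k hk => List.all_eq_true.1 nD_check k (List.mem_range.2 hk)) 1074 (by norm_num)
  have hlast := nD_last
  simp only [Prod.mk.injEq] at hlast
  unfold Deriv.Holds at hD
  rw [hlast.1, hlast.2.1, hlast.2.2] at hD
  have hcomm : j * z = z * j := by
    simpa [Deriv.rep, Deriv.repAux, g0, Subgroup.mem_centralizer_singleton_iff] using hD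
  have e2 : (j * z) ^ 2 = 1 := by
    rw [pow_two]
    calc j * z * (j * z) = j * (z * j) * z := by group
      _ = (j * j) * (z * z) := by rw [← hcomm]; group
      _ = 1 := by rw [ij.1, hz.1, one_mul]
  have e1 : j * z = 1 := by simpa using pow_gcd_eq_one.2 ⟨e2, hjz3⟩
  exact hy1 (by rw [← inv_inv y, ← hjy, e1, inv_one])

/-- The same in invariant form. -/
theorem no_B' [Finite G] (H : Hyp G) {z q d x : G} (hz : Inv2 z) (hq : Inv2 q) (hzq : q * z = z * q)
    (hne : z ≠ q) (hE : E z q) (hd5 : d ^ 5 = 1) (hd1 : d ≠ 1) (hdz : d * z = z * d)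
    (hinv : q * d * q = d⁻¹) (hx3 : x ^ 3 = 1) (hx1 : x ≠ 1) (hxd : x * d = d * x) (hxq : x * q = q * x)
    (hxz : z * x * z = x⁻¹) : False := by
  obtain ⟨F⟩ := H.frame z hz
  obtain ⟨T, hT, hor⟩ := exists_trip H F
  obtain ⟨a, rfl⟩ := F.surj q hzq
  obtain ⟨b, rfl⟩ := F.surj d hdz
  obtain ⟨sa, na, pa⟩ := invol_frame F hq rfl
  obtain ⟨a2, an⟩ := pa hne.symm
  have fa : a.1 = 1 := (F.e_iff sa na).1 hE
  have hb5 : b ^ 5 = 1 := F.inj (by rw [map_pow, hd5, map_one])
  have fb : b.1 = 1 := by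
    have := congrArg Prod.fst hb5
    rwa [fst_pow_five] at this
  have bn : b.2 ≠ 1 := fun e => hd1 (by rw [show b = 1 from Prod.ext fb e, map_one])
  have binv : a.2 * b.2 * a.2 = b.2⁻¹ := by
    have e : a * b * a = b⁻¹ := F.inj (by simpa using hinv)
    exact congrArg Prod.snd e
  obtain ⟨g, hg⟩ := hT.to_a3 a.2 a2 an
  have hg' : g⁻¹ * a.2 * g = T.a3 := by rw [← hg]; group
  obtain ⟨g2, i, hg2, hi⟩ := hT.to_f (g⁻¹ * b.2 * g)
    (by
      have : (g⁻¹ * b.2 * g) ^ 5 = g⁻¹ * b.2 ^ 5 * g := by simpa using conj_pow (a := g⁻¹) (b := b.2) (i := 5)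
      rw [this, show b.2 ^ 5 = 1 from congrArg Prod.snd hb5]; group)
    (fun e => bn (by
      calc b.2 = g * (g⁻¹ * b.2 * g) * g⁻¹ := by group
        _ = 1 := by rw [e]; group))
    (by
      rw [← hg']
      calc g⁻¹ * a.2 * g * (g⁻¹ * b.2 * g) * (g⁻¹ * a.2 * g) = g⁻¹ * (a.2 * b.2 * a.2) * g := by group
        _ = g⁻¹ * b.2⁻¹ * g := by rw [binv]
        _ = (g⁻¹ * b.2 * g)⁻¹ := by group)
  let h : A5 := g * g2⁻¹
  let F2 := F.twist (1, h)
  have hF : ∀ k : A5, F2.φ (1, k) = F.φ (1, h * k * h⁻¹) := fun k => by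
    rw [Frame.twist_apply]
    exact congrArg F.φ (Prod.ext (by simp) rfl)
  have hqq : F2.φ (1, T.a3) = F.φ a := by
    rw [hF]
    refine congrArg F.φ (Prod.ext fa.symm ?_)
    show h * T.a3 * h⁻¹ = a.2
    calc g * g2⁻¹ * T.a3 * (g * g2⁻¹)⁻¹ = g * (g2⁻¹ * (T.a3 * g2)) * g⁻¹ := by group
      _ = g * (g2⁻¹ * (g2 * T.a3)) * g⁻¹ := by rw [hg2]
      _ = g * T.a3 * g⁻¹ := by group
      _ = a.2 := hg
  have hdd : (F2.φ (1, T.f)) ^ (i : ℕ) = F.φ b := by
    rw [← map_pow, show ((1, T.f) : Model) ^ (i : ℕ) = (1, T.f ^ (i : ℕ)) from Prod.ext (by simp) rfl, hF, ← hi]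
    refine congrArg F.φ (Prod.ext fb.symm ?_)
    show g * g2⁻¹ * (g2 * (g⁻¹ * b.2 * g) * g2⁻¹) * (g * g2⁻¹)⁻¹ = b.2
    group
  have hor2 : E (F2.φ (1, T.a1)) (F2.φ (1, T.a3)) := by
    have := hor.conj (F.φ (1, h))
    rw [hF, hF]
    have e : ∀ k : A5, F.φ (1, h * k * h⁻¹) = F.φ (1, h) * F.φ (1, k) * (F.φ (1, h))⁻¹ := fun k => by
      rw [← map_inv, ← map_mul, ← map_mul]
      exact congrArg F.φ (Prod.ext (by simp) rfl)
    rw [e, e]
    exact this
  have hi0 : (i : ℕ) ≠ 0 := fun e => hd1 (by rw [← hdd, e, pow_zero])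
  obtain ⟨k, hk⟩ : ∃ k : Fin 5, (i : ℕ) * (k : ℕ) % 5 = 1 := by
    have : ∀ i : Fin 5, (i : ℕ) ≠ 0 → ∃ k : Fin 5, (i : ℕ) * (k : ℕ) % 5 = 1 := by decide
    exact this i hi0
  have hf : F.φ b ^ (k : ℕ) = F2.φ (1, T.f) := by
    rw [← hdd, ← pow_mul, pow_eq_pow_mod _ (five_data F2 hT).1, hk, pow_one]
  exact no_B H hz F2 hT hor2 hx3 hx1 (hf ▸ (Commute.pow_right hxd k)) hxz (by rw [hqq]; exact hxq)

end Cfsg.Agent.J1U
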