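import Mathlib

/-! The arithmetic of the dihedral case for the order 175560. -/

set_option autoImplicit false

namespace Cfsg.Agent.J1U.Ord

/-- The products of sublists. -/
def prods : List ℕ → List ℕ
  | [] => [1]
  | p :: ps => prods ps ++ (prods ps).map (p * ·)

theorem mem_prods : ∀ (ps : List ℕ), (∀ p ∈ ps, p.Prime) → ∀ d, d ∣ ps.prod → d ∈ prods ps := by
  intro ps
  induction ps with
  | nil =>
    intro _ d hd
    simp only [List.prod_nil, Nat.dvd_one] at hd
    simp [prods, hd]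
  | cons p ps ih =>
    intro hp d hd
    rw [List.prod_cons] at hd
    obtain ⟨a, b, ha, hb, rfl⟩ := Nat.dvd_mul.1 hd
    have hb' := ih (fun q hq => hp q (List.mem_cons_of_mem _ hq)) b hb
    simp only [prods, List.mem_append, List.mem_map]
    rcases (Nat.dvd_prime (hp p List.mem_cons_self)).1 ha with rfl | rfl
    · exact Or.inl (by rwa [one_mul])
    · exact Or.inr ⟨b, hb', rfl⟩

theorem mem_prods_odd {d : ℕ} (hd : d ∣ 21945) : d ∈ prods [3, 5, 7, 11, 19] :=
  mem_prods _ (fun p hp => by fin_cases hp <;> norm_num) d (by norm_num; exact hd)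

theorem mem_prods_all {d : ℕ} (hd : d ∣ 175560) : d ∈ prods [2, 2, 2, 3, 5, 7, 11, 19] :=
  mem_prods _ (fun p hp => by fin_cases hp <;> norm_num) d (by norm_num; exact hd)

/-- The check. -/
def d8Check : Bool :=
  (prods [3, 5, 7, 11, 19]).all fun l => (prods [3, 5, 7, 11, 19]).all fun a =>
    l % a != 0 || (prods [3, 5, 7, 11, 19]).all fun b =>
      l % b != 0 || (decide (128 * l ^ 3 * (a + b) ^ 2 > 9 * 175560 * a ^ 2 * b ^ 2)) ||
        (decide (175560 * a ^ 2 * b ^ 2 > 384 * l ^ 3 * (a + b) ^ 2)) ||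
        (a == l && b == l && l == 1045) ||
        (prods [2, 2, 2, 3, 5, 7, 11, 19]).all fun f => decide (420 < f) || decide (f < 2) ||
          ((175560 * (f - 1) ^ 2 * a ^ 2 * b ^ 2 != 64 * f * (f + 1) * l ^ 3 * (a + b) ^ 2) &&
            (175560 * (f + 1) ^ 2 * a ^ 2 * b ^ 2 != 64 * f * (f - 1) * l ^ 3 * (a + b) ^ 2))

theorem d8Check_ok : d8Check = true := by decide +kernel

theorem d8_arith {f l a b : ℕ} (hl : l ∣ 21945) (ha : a ∣ l) (hb : b ∣ l) (hf : f ∣ 175560)
    (hf1 : 1 ≤ f) (hf2 : f * f < 175560)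
    (he : (175560 * (f - 1) ^ 2 * a ^ 2 * b ^ 2 = 64 * f * (f + 1) * l ^ 3 * (a + b) ^ 2 ∧ f ≠ 1) ∨
      175560 * (f + 1) ^ 2 * a ^ 2 * b ^ 2 = 64 * f * (f - 1) * l ^ 3 * (a + b) ^ 2) :
    a = l ∧ b = l ∧ l = 1045 := by
  have hl0 : 0 < l := Nat.pos_of_ne_zero fun e => by simp [e] at hl
  have ha0 : 0 < a := Nat.pos_of_dvd_of_pos ha hl0
  have hb0 : 0 < b := Nat.pos_of_dvd_of_pos hb hl0
  have hP : 0 < a ^ 2 * b ^ 2 := by positivity
  have hf2' : 2 ≤ f := by
    by_contra hlt
    obtain rfl : f = 1 := by omega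
    rcases he with ⟨-, e⟩ | e
    · exact e rfl
    · norm_num at e
      omega
  obtain ⟨g, rfl⟩ : ∃ g, f = g + 2 := ⟨f - 2, by omega⟩
  have hk := d8Check_ok
  simp only [d8Check, List.all_eq_true, Bool.or_eq_true, Bool.and_eq_true, bne_iff_ne, ne_eq,
    decide_eq_true_iff, beq_iff_eq] at hk
  have hd : ∀ {x : ℕ}, x ∣ l → x ∈ prods [3, 5, 7, 11, 19] := fun hx => mem_prods_odd (hx.trans hl)
  rcases (hk l (hd dvd_rfl) a (hd ha)).resolve_left (fun e => e (Nat.mod_eq_zero_of_dvd ha)) b (hd hb) with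
    (((hh | hh) | hh) | hh) | hh
  · exact absurd (Nat.mod_eq_zero_of_dvd hb) hh
  · exfalso
    set P := a ^ 2 * b ^ 2 with hPdef
    set Q := l ^ 3 * (a + b) ^ 2 with hQdef
    have hh' : 9 * 175560 * P < 128 * Q := by rw [hPdef, hQdef]; linarith
    rcases he with ⟨e, -⟩ | e
    · have e' : 175560 * (g + 1) ^ 2 * P = 64 * (g + 2) * (g + 3) * Q := by
        rw [hPdef, hQdef]
        simp only [show g + 2 - 1 = g + 1 from rfl, show g + 2 + 1 = g + 3 from rfl] at e
        linarith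
      have h1 := Nat.mul_lt_mul_of_pos_right hh' (show 0 < (g + 1) ^ 2 by positivity)
      nlinarith [Nat.zero_le (Q * g), Nat.zero_le (Q * g * g)]
    · have e' : 175560 * (g + 3) ^ 2 * P = 64 * (g + 2) * (g + 1) * Q := by
        rw [hPdef, hQdef]
        simp only [show g + 2 - 1 = g + 1 from rfl, show g + 2 + 1 = g + 3 from rfl] at e
        linarith
      have h1 := Nat.mul_lt_mul_of_pos_right hh' (show 0 < (g + 3) ^ 2 by positivity)
      nlinarith [Nat.zero_le (Q * g), Nat.zero_le (Q * g * g)]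
  · exfalso
    set P := a ^ 2 * b ^ 2 with hPdef
    set Q := l ^ 3 * (a + b) ^ 2 with hQdef
    have hh' : 384 * Q < 175560 * P := by rw [hPdef, hQdef]; linarith
    rcases he with ⟨e, -⟩ | e
    · have e' : 175560 * (g + 1) ^ 2 * P = 64 * (g + 2) * (g + 3) * Q := by
        rw [hPdef, hQdef]
        simp only [show g + 2 - 1 = g + 1 from rfl, show g + 2 + 1 = g + 3 from rfl] at e
        linarith
      have h1 := Nat.mul_lt_mul_of_pos_right hh' (show 0 < (g + 1) ^ 2 by positivity)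
      nlinarith [Nat.zero_le (Q * g), Nat.zero_le (Q * g * g)]
    · have e' : 175560 * (g + 3) ^ 2 * P = 64 * (g + 2) * (g + 1) * Q := by
        rw [hPdef, hQdef]
        simp only [show g + 2 - 1 = g + 1 from rfl, show g + 2 + 1 = g + 3 from rfl] at e
        linarith
      have h1 := Nat.mul_lt_mul_of_pos_right hh' (show 0 < (g + 3) ^ 2 by positivity)
      nlinarith [Nat.zero_le (Q * g), Nat.zero_le (Q * g * g)]
  · exact ⟨hh.1.1, hh.1.2, hh.2⟩
  · rcases hh _ (mem_prods_all hf) with (h' | h') | h'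
    · nlinarith
    · omega
    · rcases he with ⟨e, -⟩ | e
      · exact absurd e h'.1
      · exact absurd e h'.2

end Cfsg.Agent.J1U.Ord
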