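import Cfsg.Agent.Lib.Invol.J1.OrdSeven
import Cfsg.Agent.Lib.Transfer.Abelian

/-! The order of the centralizer of an involution in a simple group of order 175560. -/

set_option autoImplicit false
set_option linter.unusedSectionVars false
set_option linter.style.haveILetI false

namespace Cfsg.Agent.J1U.Ord

open Cfsg Cfsg.Agent.Block
open scoped commutatorElement

universe u

/-- The size of a class. -/
theorem class_card {C : Type u} [Group C] [Finite C] (w : C) :
    Nat.card {v : C // IsConj w v} = (Cen w).index := by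
  classical
  rw [Subgroup.index_eq_card]
  refine (Nat.card_congr (Equiv.ofBijective (fun q : C ⧸ Cen w =>
    Quotient.liftOn' q (fun g => (⟨g * w * g⁻¹, isConj_iff.2 ⟨g, rfl⟩⟩ : {v : C // IsConj w v}))
      fun a b hab => ?_) ⟨?_, ?_⟩)).symm
  · rw [QuotientGroup.leftRel_apply] at hab
    refine Subtype.ext ?_
    have h1 := Subgroup.mem_centralizer_singleton_iff.1 hab
    show a * w * a⁻¹ = b * w * b⁻¹
    calc a * w * a⁻¹ = a * ((a⁻¹ * b) * w * (a⁻¹ * b)⁻¹) * a⁻¹ := by rw [h1, mul_inv_cancel_right]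
      _ = b * w * b⁻¹ := by group
  · intro p q e
    induction p using QuotientGroup.induction_on with
    | _ a =>
      induction q using QuotientGroup.induction_on with
      | _ b =>
        have e' : a * w * a⁻¹ = b * w * b⁻¹ := congrArg Subtype.val e
        refine QuotientGroup.eq.2 (Subgroup.mem_centralizer_singleton_iff.2 ?_)
        calc a⁻¹ * b * w = a⁻¹ * (b * w * b⁻¹) * b := by group
          _ = w * (a⁻¹ * b) := by rw [← e']; group
  · rintro ⟨v, hv⟩
    obtain ⟨g, rfl⟩ := isConj_iff.1 hv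
    exact ⟨(g : C ⧸ Cen w), rfl⟩

theorem mem_385 {k : ℕ} (hk : k ∣ 385) :
    k = 1 ∨ k = 5 ∨ k = 7 ∨ k = 11 ∨ k = 35 ∨ k = 55 ∨ k = 77 ∨ k = 385 := by
  have h : k ∈ Nat.divisors 385 := Nat.mem_divisors.2 ⟨hk, by norm_num⟩
  rw [show Nat.divisors 385 = ({1, 5, 7, 11, 35, 55, 77, 385} : Finset ℕ) by decide +kernel] at h
  simpa using h

theorem idx_cases {i n p : ℕ} (hd : i ∣ n) (hi : i % p = 1) (h1 : i ≠ 1) :
    (n = 12 → p = 7 → False) ∧ (n = 60 → p = 7 → i = 15) ∧ (n = 84 → p = 11 → i = 12) ∧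
    (n = 12 → p = 11 → i = 12) ∧ (n = 60 → p = 11 → i = 12) ∧
    (n = 132 → p = 5 → i = 6 ∨ i = 11 ∨ i = 66) ∧ (n = 12 → p = 5 → i = 6) := by
  refine ⟨?_, ?_, ?_, ?_, ?_, ?_, ?_⟩ <;> intro hn hp <;> subst hn <;> subst hp <;>
    have hle := Nat.le_of_dvd (by norm_num) hd <;> interval_cases i <;> omega

variable {G : Type u} [Group G] [Finite G] [IsSimpleGroup G] (h : Nat.card G = 175560)
include h

theorem isConj_all (S : Sylow 2 G) {t v : G} (ht : t ∈ (S : Subgroup G)) (ht1 : t ≠ 1)
    (hv : orderOf v = 2) : IsConj t v := by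
  haveI : Fact (Nat.Prime 2) := ⟨Nat.prime_two⟩
  obtain ⟨Q, hQ⟩ := (IsPGroup.of_card (n := 1) (by rw [Nat.card_zpowers, hv, pow_one]) :
    IsPGroup 2 (Subgroup.zpowers v)).exists_le_sylow
  obtain ⟨g, hg⟩ := MulAction.exists_smul_eq G Q S
  have hmem : g * v * g⁻¹ ∈ (S : Subgroup G) := by
    rw [← hg, Sylow.coe_subgroup_smul, Subgroup.mem_pointwise_smul_iff_inv_smul_mem]
    simpa [MulAut.conj_apply, mul_assoc] using hQ (Subgroup.mem_zpowers v)
  have hne : g * v * g⁻¹ ≠ 1 := fun e => by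
    rw [conj_eq_one_iff] at e
    rw [e, orderOf_one] at hv
    norm_num at hv
  obtain ⟨n, -, hn⟩ := (transitive h S).1 t _ ht hmem ht1 hne
  exact (isConj_iff.2 ⟨n, hn⟩ : IsConj t (g * v * g⁻¹)).trans (isConj_iff.2 ⟨g⁻¹, by group⟩)

theorem card_cen_conj (S : Sylow 2 G) {t v : G} (ht : t ∈ (S : Subgroup G)) (ht1 : t ≠ 1)
    (hv : orderOf v = 2) : Nat.card (Cen v) = Nat.card (Cen t) := by
  obtain ⟨g, hg⟩ := isConj_iff.1 (isConj_all h S ht ht1 hv)
  have e : (Cen t).map (MulAut.conj g).toMonoidHom = Cen v := by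
    ext x
    simp only [Subgroup.mem_map, MulEquiv.coe_toMonoidHom, MulAut.conj_apply,
      Subgroup.mem_centralizer_singleton_iff]
    constructor
    · rintro ⟨y, hy, rfl⟩
      rw [← hg, conj_mul, hy, conj_mul]
    · intro hx
      refine ⟨g⁻¹ * x * g, ?_, by group⟩
      calc g⁻¹ * x * g * t = g⁻¹ * (x * (g * t * g⁻¹)) * g := by group
        _ = g⁻¹ * ((g * t * g⁻¹) * x) * g := by rw [hg, hx]
        _ = t * (g⁻¹ * x * g) := by group
  rw [← e, Subgroup.card_map_of_injective (MulAut.conj g).injective]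

/-- The data around an involution of a Sylow subgroup. -/
structure Ctx (S : Sylow 2 G) (t : G) (a : G) : Prop where
  ht : t ∈ (S : Subgroup G)
  ht1 : t ≠ 1
  ha : orderOf a = 3
  haN : a ∈ NS S
  hat : a * t = t * a

theorem exists_ctx (S : Sylow 2 G) {t : G} (ht : t ∈ (S : Subgroup G)) (ht1 : t ≠ 1) :
    ∃ a, Ctx S t a := by
  haveI : Fact (Nat.Prime 3) := ⟨Nat.prime_three⟩
  have h24 := card_stabilizer h S ht ht1
  rw [card_NS_eq h S] at h24
  obtain ⟨⟨a, ha⟩, hao⟩ := exists_prime_orderOf_dvd_card' (G := ↥(NS S ⊓ Cen t)) 3 (by omega)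
  rw [Subgroup.orderOf_mk] at hao
  exact ⟨a, ht, ht1, hao, ha.1, Subgroup.mem_centralizer_singleton_iff.1 ha.2⟩

variable {S : Sylow 2 G} {t a : G}

/-- Only `1` and `t` commute with `a` in `S`. -/
theorem fixed_eq (c : Ctx S t a) {s : G} (hs : s ∈ (S : Subgroup G)) (hc : a * s = s * a) :
    s = 1 ∨ s = t := by
  by_contra hne
  push Not at hne
  have hexp : ∀ x : (S : Subgroup G), x * x = 1 := fun x => Subtype.ext (sylow_sq h S x.2)
  set ρ := (S : Subgroup G).normalizerMonoidHom with hρ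
  have hα : ρ ⟨a, c.haN⟩ = 1 := by
    refine ElemEight.eq_one_of_fix_two hexp (sylow_card h S) _ ?_ (e := ⟨t, c.ht⟩) (f := ⟨s, hs⟩)
      (fun e => c.ht1 (congrArg Subtype.val e)) (fun e => hne.1 (congrArg Subtype.val e))
      (fun e => hne.2 (congrArg Subtype.val e).symm)
      (Subtype.ext (mul_inv_eq_iff_eq_mul.2 c.hat)) (Subtype.ext (mul_inv_eq_iff_eq_mul.2 hc))
    have hd := orderOf_map_dvd ρ ⟨a, c.haN⟩
    rw [Subgroup.orderOf_mk, c.ha] at hd
    exact Odd.of_dvd_nat (by decide : Odd 3) hd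
  have haS : a ∈ Subgroup.centralizer ((S : Subgroup G) : Set G) :=
    Subgroup.mem_centralizer_iff.2 fun y hy => by
      have h3 : a * y * a⁻¹ = y :=
        congrArg Subtype.val (DFunLike.congr_fun hα (⟨y, hy⟩ : (S : Subgroup G)))
      exact (mul_inv_eq_iff_eq_mul.1 h3).symm
  rw [cent_sylow h S] at haS
  have h2 := Subgroup.orderOf_dvd_natCard _ haS
  rw [c.ha, sylow_card h S] at h2
  norm_num at h2

theorem comm_ne_t (c : Ctx S t a) {s : G} (hs : s ∈ (S : Subgroup G)) :
    a * s * a⁻¹ * s⁻¹ ≠ t := by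
  intro e
  have e1 : a * s * a⁻¹ = t * s := by rw [← e]; group
  have e2 : a * (a * s * a⁻¹) * a⁻¹ = s := by
    rw [e1]
    calc a * (t * s) * a⁻¹ = (a * t) * s * a⁻¹ := by group
      _ = t * (a * s * a⁻¹) := by rw [c.hat]; group
      _ = s := by rw [e1, ← mul_assoc, sylow_sq h S c.ht, one_mul]
  have h3 : a * a * a = 1 := by
    have := pow_orderOf_eq_one a
    rwa [c.ha, pow_succ, pow_two] at this
  have e3 : a * s * a⁻¹ = s := by
    calc a * s * a⁻¹ = a * (a * (a * s * a⁻¹) * a⁻¹) * a⁻¹ := by rw [e2]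
      _ = (a * a * a) * s * (a * a * a)⁻¹ := by group
      _ = s := by rw [h3]; group
  rw [e3, mul_inv_cancel] at e
  exact c.ht1 e.symm

theorem comm_mem (c : Ctx S t a) {s : G} (hs : s ∈ (S : Subgroup G)) :
    a * s * a⁻¹ * s⁻¹ ∈ (S : Subgroup G) :=
  mul_mem ((Subgroup.mem_normalizer_iff.1 c.haN s).1 hs) (inv_mem hs)

/-- A subgroup of `S` containing `t` and all commutators with `a` is `S`. -/
theorem eq_sylow (c : Ctx S t a) (K : Subgroup G) (hK : K ≤ (S : Subgroup G)) (htK : t ∈ K)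
    (hc : ∀ s ∈ (S : Subgroup G), a * s * a⁻¹ * s⁻¹ ∈ K) : K = (S : Subgroup G) := by
  classical
  cases nonempty_fintype G
  refine Subgroup.eq_of_le_of_card_ge hK ?_
  set F : ↥(S : Subgroup G) → G := fun s => a * (s : G) * a⁻¹ * (s : G)⁻¹ with hF
  have hfib : ∀ v, (Finset.univ.filter fun s => F s = v).card ≤ 2 := by
    intro v
    by_cases hv : ∃ s0, F s0 = v
    · obtain ⟨s0, hs0⟩ := hv
      refine le_trans (Finset.card_le_card (t := {s0, s0 * ⟨t, c.ht⟩}) fun s hs => ?_) Finset.card_le_two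
      rw [Finset.mem_filter] at hs
      have hx : a * ((s0 : G)⁻¹ * s) = (s0 : G)⁻¹ * s * a := by
        have e : a * (s : G) * a⁻¹ * (s : G)⁻¹ = a * (s0 : G) * a⁻¹ * (s0 : G)⁻¹ := hs.2.trans hs0.symm
        have e' : a * (s : G) * a⁻¹ = (a * (s0 : G) * a⁻¹) * ((s0 : G)⁻¹ * s) := by
          rw [← mul_assoc, ← e]; group
        refine mul_inv_eq_iff_eq_mul.1 ?_
        calc a * ((s0 : G)⁻¹ * s) * a⁻¹ = (a * (s0 : G) * a⁻¹)⁻¹ * (a * (s : G) * a⁻¹) := by group
          _ = _ := by rw [e']; group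
      simp only [Finset.mem_insert, Finset.mem_singleton]
      rcases fixed_eq h c (mul_mem (inv_mem s0.2) s.2) hx with e | e
      · exact Or.inl (Subtype.ext (inv_mul_eq_one.1 e).symm)
      · exact Or.inr (Subtype.ext (inv_mul_eq_iff_eq_mul.1 e))
    · push Not at hv
      rw [Finset.filter_eq_empty_iff.2 fun s _ => hv s]
      norm_num
  have h4 : 4 ≤ (Finset.univ.image F).card := by
    have h1 := Finset.card_le_mul_card_image (s := Finset.univ) (f := F) 2 (fun v _ => hfib v)
    rw [Finset.card_univ, ← Nat.card_eq_fintype_card, sylow_card h S] at h1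
    omega
  have h5 : 5 ≤ Nat.card K := by
    rw [Nat.card_eq_fintype_card, Fintype.card_subtype]
    refine le_trans ?_ (Finset.card_le_card (s := insert t (Finset.univ.image F)) fun v hv => ?_)
    · rw [Finset.card_insert_of_notMem fun hmem => ?_]
      · omega
      · obtain ⟨s, -, e⟩ := Finset.mem_image.1 hmem
        exact comm_ne_t h c s.2 e
    · refine Finset.mem_filter.2 ⟨Finset.mem_univ _, ?_⟩
      rcases Finset.mem_insert.1 hv with rfl | hv'
      · exact htK
      · obtain ⟨s, -, rfl⟩ := Finset.mem_image.1 hv'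
        exact hc s s.2
  obtain ⟨i, hi, e⟩ := (Nat.dvd_prime_pow Nat.prime_two).1
    (show Nat.card K ∣ 2 ^ 3 from (Subgroup.card_dvd_of_le hK).trans (dvd_of_eq (sylow_card h S)))
  rw [sylow_card h S, e]
  rw [e] at h5
  interval_cases i <;> omega

/-- No subgroup of odd prime order is normal in the centralizer. -/
theorem no_prime (c : Ctx S t a) {p : ℕ} (hp : p.Prime) (hp2 : p ≠ 2) {x : Cen t}
    (hx : orderOf x = p) : Nor x ≠ ⊤ := by
  intro htop
  have hSC := sylow_le_cen h S c.ht
  have haC : a ∈ Cen t := Subgroup.mem_centralizer_singleton_iff.2 c.hat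
  have hX : orderOf (x : G) = p := by rw [Subgroup.orderOf_coe, hx]
  have he := eq_sylow h c ((S : Subgroup G) ⊓ Cen (x : G)) inf_le_left
    ⟨c.ht, Subgroup.mem_centralizer_singleton_iff.2 (Subgroup.mem_centralizer_singleton_iff.1 x.2).symm⟩
    fun s hs => ⟨comm_mem h c hs, by
      have := comm_mem_cen (x := x) (a := ⟨a, haC⟩) (s := ⟨s, hSC hs⟩) (htop ▸ Subgroup.mem_top _)
        (htop ▸ Subgroup.mem_top _)
      exact Subgroup.mem_centralizer_singleton_iff.2
        (congrArg Subtype.val (Subgroup.mem_centralizer_singleton_iff.1 this))⟩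
  have hxS : (x : G) ∈ Subgroup.centralizer ((S : Subgroup G) : Set G) :=
    Subgroup.mem_centralizer_iff.2 fun s hs => by
      have hmem : s ∈ (S : Subgroup G) ⊓ Cen (x : G) := he.symm ▸ hs
      exact Subgroup.mem_centralizer_singleton_iff.1 hmem.2
  rw [cent_sylow h S] at hxS
  exact hp2 (hX ▸ sylow_inv h S hxS (fun e => by rw [e, orderOf_one] at hX; exact hp.ne_one hX.symm))

theorem not_comm_t (c : Ctx S t a) :
    (⟨t, Subgroup.mem_centralizer_singleton_iff.2 rfl⟩ : Cen t) ∉ commutator (Cen t) := by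
  haveI : Fact (Nat.Prime 2) := ⟨Nat.prime_two⟩
  intro hmem
  have hSC : (S : Subgroup G) ≤ (Cen t) := sylow_le_cen h S c.ht
  have hab : IsMulCommutative ((S : Subgroup G).subgroupOf (Cen t)) :=
    ⟨⟨fun a b => Subtype.ext (Subtype.ext (sylow_comm h S a.2 b.2))⟩⟩
  have hhall : Nat.Coprime (Nat.card ((S : Subgroup G).subgroupOf (Cen t)))
      ((S : Subgroup G).subgroupOf (Cen t)).index := by
    rw [Nat.card_congr (Subgroup.subgroupOfEquivOfLe hSC).toEquiv, sylow_card h S,
      show 8 = 2 ^ 3 by norm_num]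
    refine Nat.Coprime.pow_left _ ((Nat.prime_two.coprime_iff_not_dvd).2 fun hd => ?_)
    exact S.not_dvd_index (hd.trans (Subgroup.relIndex_dvd_index_of_le hSC))
  have hh := Transfer.hall_inf_commutator_inf_center _ hab hhall
  have hm : (⟨t, Subgroup.mem_centralizer_singleton_iff.2 rfl⟩ : (Cen t)) ∈
      (S : Subgroup G).subgroupOf (Cen t) ⊓ commutator (Cen t) ⊓ Subgroup.center (Cen t) :=
    ⟨⟨Subgroup.mem_subgroupOf.2 c.ht, hmem⟩, Subgroup.mem_center_iff.2 fun g => Subtype.ext
      (Subgroup.mem_centralizer_singleton_iff.1 g.2)⟩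
  rw [hh, Subgroup.mem_bot] at hm
  exact c.ht1 (congrArg Subtype.val hm)

/-- The normalizer of a Sylow 2-subgroup of the centralizer has order 24. -/
theorem card_normalizer_two (c : Ctx S t a) (T : Sylow 2 (Cen t)) :
    Nat.card (Subgroup.normalizer ((T : Subgroup (Cen t)) : Set (Cen t))) = 24 := by
  haveI : Fact (Nat.Prime 2) := ⟨Nat.prime_two⟩
  have hSC : (S : Subgroup G) ≤ (Cen t) := sylow_le_cen h S c.ht
  set T0 : Sylow 2 (Cen t) := S.subtype hSC with hT0
  have hmem : ∀ x : (Cen t), x ∈ (T0 : Subgroup (Cen t)) ↔ (x : G) ∈ (S : Subgroup G) := fun x => by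
    rw [hT0, Sylow.coe_subtype, Subgroup.mem_subgroupOf]
  have e : Subgroup.normalizer ((T0 : Subgroup (Cen t)) : Set (Cen t)) = (NS S).subgroupOf (Cen t) := by
    ext n
    rw [Subgroup.mem_subgroupOf, Subgroup.mem_normalizer_iff, Subgroup.mem_normalizer_iff]
    constructor
    · intro hn w
      constructor
      · intro hw
        exact (hmem _).1 ((hn ⟨w, hSC hw⟩).1 ((hmem _).2 hw))
      · intro hw
        have hwC : w ∈ (Cen t) := by
          have := (Cen t).mul_mem ((Cen t).mul_mem ((Cen t).inv_mem n.2) (hSC hw)) n.2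
          simpa [mul_assoc] using this
        exact (hmem _).1 ((hn ⟨w, hwC⟩).2 ((hmem _).2 hw))
    · intro hn w
      rw [hmem, hmem]
      exact hn w
  have h24 := card_stabilizer h S c.ht c.ht1
  rw [card_NS_eq h S] at h24
  have h0 : Nat.card (Subgroup.normalizer ((T0 : Subgroup (Cen t)) : Set (Cen t))) = 24 := by
    rw [e, ← Subgroup.inf_subgroupOf_right,
      Nat.card_congr (Subgroup.subgroupOfEquivOfLe inf_le_right).toEquiv]
    show Nat.card ↥(NS S ⊓ Cen t) = 24
    omega
  have h1 := (Subgroup.normalizer ((T : Subgroup (Cen t)) : Set (Cen t))).card_mul_index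
  have h2 := (Subgroup.normalizer ((T0 : Subgroup (Cen t)) : Set (Cen t))).card_mul_index
  rw [show (Subgroup.normalizer ((T : Subgroup (Cen t)) : Set (Cen t))).index = Nat.card (Sylow 2 (Cen t))
    from (Sylow.card_eq_index_normalizer T).symm] at h1
  rw [show (Subgroup.normalizer ((T0 : Subgroup (Cen t)) : Set (Cen t))).index = Nat.card (Sylow 2 (Cen t))
    from (Sylow.card_eq_index_normalizer T0).symm] at h2
  rw [← h2, h0] at h1
  exact Nat.eq_of_mul_eq_mul_right Nat.card_pos h1

/-- A subgroup of prime order at least five is not central in its normalizer. -/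
theorem no_self (c : Ctx S t a) {p : ℕ} (hp : p.Prime) (hp5 : 5 ≤ p) {x : Cen t}
    (hx : orderOf x = p) (hex : ¬ p * p ∣ Nat.card (Cen t))
    (hd : Nat.card (Nor x) ∣ Nat.card (Cen x)) : False := by
  have heq : Cen x = Nor x :=
    Subgroup.eq_of_le_of_card_ge (cen_le_nor x) (Nat.le_of_dvd Nat.card_pos hd)
  obtain ⟨T⟩ : Nonempty (Sylow 2 (Cen t)) := inferInstance
  have h1 := dvd_nor_two hp (by omega) hx hex heq.ge T
  rw [card_normalizer_two h c T] at h1
  have := Nat.le_of_dvd (by norm_num) h1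
  interval_cases p <;> first | (norm_num at hp; done) | (norm_num at h1; done)

/-- Sylow data in the centralizer. -/
theorem sylow_data (c : Ctx S t a) {p k : ℕ} (hp : p.Prime) (hp2 : p ≠ 2)
    (hC : Nat.card (Cen t) = 24 * (p * k)) {x : Cen t} (hx : orderOf x = p) :
    (Nor x).index % p = 1 ∧ Nat.card (Nor x) * (Nor x).index = 24 * (p * k) ∧ (Nor x).index ≠ 1 ∧
      (Nor x).index ∣ 12 * k ∧ 2 * p ∣ Nat.card (Cen x) ∧ ¬ p * p ∣ Nat.card (Cen t) := by
  have hex : ¬ p * p ∣ Nat.card (Cen t) := fun hd =>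
    nine_not h p hp hp2 (hd.trans (h ▸ Subgroup.card_subgroup_dvd_card _))
  obtain ⟨h1, h2⟩ := nor_count hp hx hex
  rw [hC] at h2
  have h2p : 2 * p ∣ Nat.card (Cen x) := by
    refine Nat.Coprime.mul_dvd_of_dvd_of_dvd ((Nat.coprime_primes Nat.prime_two hp).2 hp2.symm) ?_
      (hx ▸ Subgroup.orderOf_dvd_natCard _ (Subgroup.mem_centralizer_singleton_iff.2 rfl))
    have ho : orderOf (⟨t, Subgroup.mem_centralizer_singleton_iff.2 rfl⟩ : Cen t) = 2 := by
      rw [Subgroup.orderOf_mk]; exact sylow_inv h S c.ht c.ht1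
    rw [← ho]
    exact Subgroup.orderOf_dvd_natCard _ (Subgroup.mem_centralizer_singleton_iff.2
      (Subtype.ext (Subgroup.mem_centralizer_singleton_iff.1 x.2).symm))
  refine ⟨h1, h2, fun e => no_prime h c hp hp2 hx (Subgroup.index_eq_one.1 e), ?_, h2p, hex⟩
  obtain ⟨r, hr⟩ := h2p.trans (Subgroup.card_dvd_of_le (cen_le_nor x))
  refine Dvd.intro_left r (Nat.eq_of_mul_eq_mul_left (show 0 < 2 * p by have := hp.pos; omega) ?_)
  rw [← mul_assoc, ← hr, h2]
  ring

/-- An involution of `S` different from `t`. -/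
theorem exists_other (c : Ctx S t a) : ∃ w ∈ (S : Subgroup G), w ≠ 1 ∧ w ≠ t := by
  by_contra hno
  push Not at hno
  have hsub : ((S : Subgroup G) : Set G) ⊆ {1, t} := fun s hs => by
    rcases em (s = 1) with e | e
    · exact Or.inl e
    · exact Or.inr (hno s hs e)
  have h2 := Set.ncard_le_ncard hsub (Set.toFinite _)
  rw [← Nat.card_coe_set_eq, Set.ncard_pair (Ne.symm c.ht1)] at h2
  have : Nat.card ↥((S : Subgroup G) : Set G) = 8 := sylow_card h S
  omega

/-- The number of involutions. -/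
theorem card_involutions (c : Ctx S t a) :
    Nat.card {v : G // orderOf v = 2} * Nat.card (Cen t) = 175560 := by
  have e : Nat.card {v : G // orderOf v = 2} = (Cen t).index := by
    rw [← class_card]
    refine Nat.card_congr (Equiv.subtypeEquivRight fun v => ⟨fun hv => isConj_all h S c.ht c.ht1 hv, fun hv => ?_⟩)
    obtain ⟨g, rfl⟩ := isConj_iff.1 hv
    rw [show g * t * g⁻¹ = MulAut.conj g t from rfl, MulEquiv.orderOf_eq]
    exact sylow_inv h S c.ht c.ht1
  rw [e, mul_comm, Subgroup.card_mul_index, h]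

/-- The involutions of a centralizer. -/
noncomputable def invs [Fintype G] (v : G) : Finset G :=
  @Finset.filter G (fun u => orderOf u = 2 ∧ u * v = v * u) (Classical.decPred _) Finset.univ

omit h in
theorem mem_invs [Fintype G] {u v : G} : u ∈ invs v ↔ orderOf u = 2 ∧ u * v = v * u := by
  classical
  simp [invs]

theorem invs_lower [Fintype G] (c : Ctx S t a) {w : G} (hw : w ∈ (S : Subgroup G)) (hw1 : w ≠ 1)
    (hwt : w ≠ t) :
    1 + 2 * (Cen (⟨w, sylow_le_cen h S c.ht hw⟩ : Cen t)).index ≤ (invs t).card := by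
  classical
  set wC : (Cen t) := ⟨w, sylow_le_cen h S c.ht hw⟩ with hwC
  set tC : (Cen t) := ⟨t, Subgroup.mem_centralizer_singleton_iff.2 rfl⟩ with htC
  have htc : ∀ x : (Cen t), x * tC = tC * x := fun x =>
    Subtype.ext (Subgroup.mem_centralizer_singleton_iff.1 x.2)
  cases nonempty_fintype (Cen t)
  set W := Finset.univ.filter fun v : (Cen t) => IsConj wC v with hW
  have hWc : W.card = (Cen wC).index := by
    rw [← class_card, Nat.card_eq_fintype_card, Fintype.card_subtype]
  have hor : ∀ v ∈ W, orderOf v = 2 := by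
    intro v hv
    obtain ⟨g, rfl⟩ := isConj_iff.1 (Finset.mem_filter.1 hv).2
    rw [show g * wC * g⁻¹ = MulAut.conj g wC from rfl, MulEquiv.orderOf_eq, hwC, Subgroup.orderOf_mk]
    exact sylow_inv h S hw hw1
  have hne : ∀ v ∈ W, v ≠ tC := by
    intro v hv e
    obtain ⟨g, hg⟩ := isConj_iff.1 (Finset.mem_filter.1 hv).2
    have : wC = g⁻¹ * tC * g := by rw [← e, ← hg]; group
    rw [htc, mul_assoc] at this
    exact hwt (congrArg Subtype.val (by rw [this]; rw [inv_mul_cancel, mul_one] : wC = tC))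
  have ht2 : tC * tC = 1 := Subtype.ext (sylow_sq h S c.ht)
  have hdis : Disjoint W (W.image (· * tC)) := by
    rw [Finset.disjoint_left]
    intro v hv hv'
    obtain ⟨u, hu, rfl⟩ := Finset.mem_image.1 hv'
    obtain ⟨g, hg⟩ := isConj_iff.1 ((Finset.mem_filter.1 hu).2.symm.trans (Finset.mem_filter.1 hv).2)
    refine not_comm_t h c ?_
    have e : tC = ⁅u⁻¹, g⁆ := by
      rw [commutatorElement_def, inv_inv]
      calc tC = u⁻¹ * (u * tC) := by group
        _ = u⁻¹ * (g * u * g⁻¹) := by rw [hg]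
        _ = _ := by group
    show tC ∈ commutator (Cen t)
    rw [e]
    exact Subgroup.commutator_mem_commutator (Subgroup.mem_top _) (Subgroup.mem_top _)
  have htn : tC ∉ W ∪ W.image (· * tC) := by
    intro hm
    rcases Finset.mem_union.1 hm with hm | hm
    · exact hne _ hm rfl
    · obtain ⟨u, hu, e⟩ := Finset.mem_image.1 hm
      have hu1 : u = 1 := by simpa using e
      have := hor u hu
      rw [hu1, orderOf_one] at this
      norm_num at this
  have hcard : (insert tC (W ∪ W.image (· * tC))).card = 1 + 2 * (Cen wC).index := by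
    rw [Finset.card_insert_of_notMem htn, Finset.card_union_of_disjoint hdis,
      Finset.card_image_of_injective _ (mul_left_injective tC), hWc]
    ring
  rw [← hcard, ← Finset.card_map ⟨(Subtype.val : (Cen t) → G), Subtype.val_injective⟩]
  refine Finset.card_le_card fun v hv => ?_
  obtain ⟨u, hu, rfl⟩ := Finset.mem_map.1 hv
  refine mem_invs.2 ⟨?_, Subgroup.mem_centralizer_singleton_iff.1 u.2⟩
  show orderOf (u : G) = 2
  rw [Subgroup.orderOf_coe]
  rcases Finset.mem_insert.1 hu with rfl | hu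
  · exact (Subgroup.orderOf_coe _).symm.trans (sylow_inv h S c.ht c.ht1)
  · rcases Finset.mem_union.1 hu with hu | hu
    · exact hor _ hu
    · obtain ⟨u', hu', rfl⟩ := Finset.mem_image.1 hu
      refine orderOf_eq_prime ?_ fun e => hne _ hu' ?_
      · have h1 := pow_orderOf_eq_one u'
        rw [hor _ hu'] at h1
        rw [(show Commute u' tC from htc u').mul_pow, h1, one_mul, pow_two, ht2]
      · calc u' = u' * tC * tC := by rw [mul_assoc, ht2, mul_one]
          _ = tC := by rw [e, one_mul]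

theorem not_385 (c : Ctx S t a) (hC : Nat.card (Cen t) = 9240) : False := by
  classical
  cases nonempty_fintype G
  haveI : Fact (Nat.Prime 11) := ⟨by norm_num⟩
  obtain ⟨y, hy⟩ := exists_prime_orderOf_dvd_card' (G := (Cen t)) 11 (by rw [hC]; norm_num)
  have hI : Nat.card {v : G // orderOf v = 2} = 19 := by
    have := card_involutions h c
    rw [hC] at this
    omega
  have hYS : (y : G) ∈ Subgroup.centralizer ((S : Subgroup G) : Set G) := by
    rw [Subgroup.mem_centralizer_iff]
    intro w hw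
    by_cases hw1 : w = 1
    · subst hw1; simp
    by_cases hwt : w = t
    · subst hwt; exact (Subgroup.mem_centralizer_singleton_iff.1 y.2).symm
    have hlow := invs_lower h c hw hw1 hwt
    set D := Cen (⟨w, sylow_le_cen h S c.ht hw⟩ : (Cen t))
    have hup : (invs t).card ≤ 19 := by
      rw [← hI, Nat.card_eq_fintype_card, Fintype.card_subtype]
      exact Finset.card_le_card fun v hv => Finset.mem_filter.2 ⟨Finset.mem_univ _, (mem_invs.1 hv).1⟩
    have hs : D.index ≤ 9 := by omega
    have hone : MulAction.toPermHom (Cen t) ((Cen t) ⧸ D) y = 1 := by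
      rw [← orderOf_eq_one_iff]
      have h1 := orderOf_map_dvd (MulAction.toPermHom (Cen t) ((Cen t) ⧸ D)) y
      rw [hy] at h1
      refine ((Nat.dvd_prime (Fact.out : Nat.Prime 11)).1 h1).resolve_right fun e => ?_
      have h2 := orderOf_dvd_natCard (MulAction.toPermHom (Cen t) ((Cen t) ⧸ D) y)
      rw [e, Nat.card_perm, ← Subgroup.index_eq_card, Nat.Prime.dvd_factorial (Fact.out : Nat.Prime 11)] at h2
      omega
    have h3 : y • ((1 : (Cen t)) : (Cen t) ⧸ D) = ((1 : (Cen t)) : (Cen t) ⧸ D) :=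
      (Equiv.Perm.congr_fun hone ((1 : (Cen t)) : (Cen t) ⧸ D) :)
    rw [MulAction.Quotient.smul_coe, smul_eq_mul, mul_one, QuotientGroup.eq, mul_one, inv_mem_iff] at h3
    exact congrArg Subtype.val (Subgroup.mem_centralizer_singleton_iff.1 h3).symm
  rw [cent_sylow h S] at hYS
  have := Subgroup.orderOf_dvd_natCard _ hYS
  rw [Subgroup.orderOf_coe, hy, sylow_card h S] at this
  norm_num at this

theorem four_dvd_cen (c : Ctx S t a) {w : G} (hw : w ∈ (S : Subgroup G)) (hw1 : w ≠ 1) (hwt : w ≠ t)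
    {y : Cen t} (hy : Commute y (⟨w, sylow_le_cen h S c.ht hw⟩ : Cen t)) :
    4 ∣ Nat.card (Cen y) := by
  classical
  cases nonempty_fintype G
  set V := (S : Subgroup G) ⊓ Cen (y : G) with hV
  have hle : V ≤ (Cen y).map (Cen t).subtype := by
    intro v hv
    exact ⟨⟨v, sylow_le_cen h S c.ht hv.1⟩, Subgroup.mem_centralizer_singleton_iff.2
      (Subtype.ext (Subgroup.mem_centralizer_singleton_iff.1 hv.2)), rfl⟩
  have h4 : 4 ∣ Nat.card V := by
    have h3 : 3 ≤ Nat.card V := by
      rw [Nat.card_eq_fintype_card, Fintype.card_subtype]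
      have e3 : ({1, t, w} : Finset G).card = 3 := by
        simp [Ne.symm c.ht1, Ne.symm hw1, Ne.symm hwt]
      rw [← e3]
      refine Finset.card_le_card fun v hv => Finset.mem_filter.2 ⟨Finset.mem_univ _, ?_⟩
      simp only [Finset.mem_insert, Finset.mem_singleton] at hv
      rcases hv with rfl | rfl | rfl
      · exact V.one_mem
      · exact ⟨c.ht, Subgroup.mem_centralizer_singleton_iff.2
          (Subgroup.mem_centralizer_singleton_iff.1 y.2).symm⟩
      · exact ⟨hw, Subgroup.mem_centralizer_singleton_iff.2 (congrArg Subtype.val hy.symm.eq)⟩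
    obtain ⟨i, hi, e⟩ := (Nat.dvd_prime_pow Nat.prime_two).1
      (show Nat.card V ∣ 2 ^ 3 from (Subgroup.card_dvd_of_le inf_le_left).trans (dvd_of_eq (sylow_card h S)))
    rw [e] at h3 ⊢
    interval_cases i <;> omega
  refine h4.trans ((Subgroup.card_dvd_of_le hle).trans (dvd_of_eq ?_))
  rw [Subgroup.card_map_of_injective (Cen t).subtype_injective]

theorem not_55 (c : Ctx S t a) (hC : Nat.card (Cen t) = 1320) : False := by
  classical
  cases nonempty_fintype G
  have hsmall : ∀ (w : G) (hw : w ∈ (S : Subgroup G)), w ≠ 1 → w ≠ t →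
      Nat.card (Cen (⟨w, sylow_le_cen h S c.ht hw⟩ : (Cen t))) ≤ 24 := by
    intro w hw hw1 hwt
    set D := Cen (⟨w, sylow_le_cen h S c.ht hw⟩ : (Cen t)) with hD
    obtain ⟨j, hj⟩ : 8 ∣ Nat.card D := by
      rw [← sylow_card h S, ← Nat.card_congr (Subgroup.subgroupOfEquivOfLe (sylow_le_cen h S c.ht)).toEquiv]
      refine Subgroup.card_dvd_of_le fun s hs => Subgroup.mem_centralizer_singleton_iff.2 ?_
      exact Subtype.ext (sylow_comm h S hs hw)
    have hj165 : j ∣ 165 := Nat.dvd_of_mul_dvd_mul_left (show 0 < 8 by norm_num)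
      (show 8 * j ∣ 8 * 165 from hj ▸ (Subgroup.card_subgroup_dvd_card D).trans (dvd_of_eq hC))
    have hno : ∀ p, p = 5 ∨ p = 11 → ¬ p ∣ j := by
      intro p hp55 hpj
      have hp : p.Prime := by rcases hp55 with rfl | rfl <;> norm_num
      haveI := Fact.mk hp
      obtain ⟨y, hy⟩ := exists_prime_orderOf_dvd_card' (G := D) p (hj ▸ hpj.mul_left 8)
      have hy' : orderOf (y : (Cen t)) = p := by rw [Subgroup.orderOf_coe, hy]
      have h4 := four_dvd_cen h c hw hw1 hwt (y := (y : (Cen t))) (Subgroup.mem_centralizer_singleton_iff.1 y.2)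
      have hdN := nor_index hp hy'
      have hCN := Subgroup.card_dvd_of_le (cen_le_nor (y : (Cen t)))
      rcases hp55 with rfl | rfl
      · obtain ⟨h1, h2, h3, h6, h2p, hex⟩ := sylow_data h c (k := 11) hp (by norm_num) (by rw [hC]) hy'
        have h20 : 20 ∣ Nat.card (Cen (y : (Cen t))) :=
          Nat.Coprime.mul_dvd_of_dvd_of_dvd (m := 4) (n := 5) (by norm_num) h4
            ((dvd_mul_left 5 2).trans h2p)
        rcases (idx_cases h6 h1 h3).2.2.2.2.2.1 rfl rfl with e | e | e <;> rw [e] at h2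
        · have hN : Nat.card (Nor (y : (Cen t))) = 220 := by omega
          refine no_self h c hp (by norm_num) hy' hex ?_
          rw [hN] at hdN ⊢
          exact Nat.Coprime.mul_dvd_of_dvd_of_dvd (m := 20) (n := 11) (by norm_num) h20
            (Nat.Coprime.dvd_of_dvd_mul_right (by norm_num : Nat.Coprime 11 (5 - 1))
              ((dvd_mul_left 11 20).trans hdN))
        · have hN : Nat.card (Nor (y : (Cen t))) = 120 := by omega
          rw [hN] at hdN
          refine (five_facts h (x := ((y : (Cen t)) : G)) (by rw [Subgroup.orderOf_coe, hy'])).2 ?_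
          refine dvd_trans ?_ (cen_sub (y : (Cen t)))
          have h30 : 30 ∣ Nat.card (Cen (y : (Cen t))) :=
            Nat.dvd_of_mul_dvd_mul_right (show 0 < 4 by norm_num) (by exact hdN)
          exact (show 12 ∣ Nat.lcm 20 30 by norm_num).trans (Nat.lcm_dvd h20 h30)
        · refine no_self h c hp (by norm_num) hy' hex ?_
          rwa [show Nat.card (Nor (y : (Cen t))) = 20 by omega]
      · obtain ⟨h1, h2, h3, h6, h2p, hex⟩ := sylow_data h c (k := 5) hp (by norm_num) (by rw [hC]) hy'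
        rw [(idx_cases h6 h1 h3).2.2.2.2.1 rfl rfl] at h2
        have hN : Nat.card (Nor (y : (Cen t))) = 110 := by omega
        have := h4.trans hCN
        rw [hN] at this
        norm_num at this
    have h5 := hno 5 (Or.inl rfl)
    have h11 := hno 11 (Or.inr rfl)
    have hj3 : j ∣ 3 := Nat.Coprime.dvd_of_dvd_mul_left
      ((Nat.Prime.coprime_iff_not_dvd (by norm_num : Nat.Prime 5)).2 h5).symm
      (Nat.Coprime.dvd_of_dvd_mul_left
        ((Nat.Prime.coprime_iff_not_dvd (by norm_num : Nat.Prime 11)).2 h11).symm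
        (show j ∣ 11 * (5 * 3) from hj165))
    have := Nat.le_of_dvd (by norm_num) hj3
    omega
  obtain ⟨w, hw, hw1, hwt⟩ := exists_other h c
  have hD := hsmall w hw hw1 hwt
  have hlow := invs_lower h c hw hw1 hwt
  set D := Cen (⟨w, sylow_le_cen h S c.ht hw⟩ : (Cen t)) with hDdef
  have hidx : 55 ≤ D.index := by
    have h1 := D.card_mul_index
    rw [hC] at h1
    nlinarith
  obtain ⟨g, hg⟩ := isConj_iff.1 (isConj_all h S c.ht c.ht1 (sylow_inv h S hw hw1))
  have hIw : (invs t).card ≤ (invs w).card := by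
    rw [← Finset.card_map (MulAut.conj g).toEquiv.toEmbedding]
    refine Finset.card_le_card fun v hv => ?_
    obtain ⟨u, hu, rfl⟩ := Finset.mem_map.1 hv
    obtain ⟨hu2, hut⟩ := mem_invs.1 hu
    refine mem_invs.2 ⟨?_, ?_⟩
    · show orderOf (MulAut.conj g u) = 2
      rw [MulEquiv.orderOf_eq, hu2]
    · show g * u * g⁻¹ * w = w * (g * u * g⁻¹)
      rw [← hg, conj_mul, conj_mul, hut]
  have hcap : (invs t ∩ invs w).card ≤ 23 := by
    have hsub : invs t ∩ invs w ⊆ (Finset.univ.filter fun v => v ∈ D.map (Cen t).subtype).erase 1 := by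
      intro v hv
      obtain ⟨h1, h2⟩ := Finset.mem_inter.1 hv
      obtain ⟨hv2, hvt⟩ := mem_invs.1 h1
      refine Finset.mem_erase.2 ⟨fun e => by rw [e, orderOf_one] at hv2; norm_num at hv2,
        Finset.mem_filter.2 ⟨Finset.mem_univ _, ?_⟩⟩
      exact ⟨⟨v, Subgroup.mem_centralizer_singleton_iff.2 hvt⟩,
        Subgroup.mem_centralizer_singleton_iff.2 (Subtype.ext (mem_invs.1 h2).2), rfl⟩
    refine (Finset.card_le_card hsub).trans ?_
    rw [Finset.card_erase_of_mem (Finset.mem_filter.2 ⟨Finset.mem_univ _, one_mem _⟩), ← Fintype.card_subtype, ← Nat.card_eq_fintype_card,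
      Subgroup.card_map_of_injective (Cen t).subtype_injective]
    omega
  have hI : (invs t ∪ invs w).card ≤ 133 := by
    have e : Nat.card {v : G // orderOf v = 2} = 133 := by
      have := card_involutions h c
      rw [hC] at this
      omega
    rw [← e, Nat.card_eq_fintype_card, Fintype.card_subtype]
    refine Finset.card_le_card fun v hv => Finset.mem_filter.2 ⟨Finset.mem_univ _, ?_⟩
    rcases Finset.mem_union.1 hv with hv | hv <;> exact (mem_invs.1 hv).1
  have := Finset.card_union_add_card_inter (invs t) (invs w)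
  omega

/-- The centralizer of an involution has order 120. -/
theorem card_cen_eq (S : Sylow 2 G) {t : G} (ht : t ∈ (S : Subgroup G)) (ht1 : t ≠ 1) :
    Nat.card (Cen t) = 120 := by
  classical
  obtain ⟨a, c⟩ := exists_ctx h S ht ht1
  have hSC := sylow_le_cen h S ht
  have h24 := card_stabilizer h S ht ht1
  rw [card_NS_eq h S] at h24
  have hst : Nat.card ↥(NS S ⊓ Cen t) = 24 := by omega
  obtain ⟨k, hk⟩ := hst ▸ Subgroup.card_dvd_of_le (inf_le_right : NS S ⊓ Cen t ≤ Cen t)
  have hk7315 : k ∣ 7315 := Nat.dvd_of_mul_dvd_mul_left (show 0 < 24 by norm_num)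
    (show 24 * k ∣ 24 * 7315 from (hk ▸ h ▸ Subgroup.card_subgroup_dvd_card (Cen t) : 24 * k ∣ 175560))
  have hex : ∀ p, p.Prime → p ∣ k → ∃ x : Cen t, orderOf x = p := fun p hp hd => by
    haveI := Fact.mk hp
    exact exists_prime_orderOf_dvd_card' p (hk ▸ hd.mul_left 24)
  have h19 : ¬ 19 ∣ k := fun hd => by
    obtain ⟨x, hx⟩ := hex 19 (by norm_num) hd
    exact no_prime h c (by norm_num) (by norm_num) hx (nor_nineteen h ht1 hx)
  have hk385 : k ∣ 385 := Nat.Coprime.dvd_of_dvd_mul_left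
    ((Nat.Prime.coprime_iff_not_dvd (by norm_num : Nat.Prime 19)).2 h19).symm
    (show k ∣ 19 * 385 from hk7315)
  rcases mem_385 hk385 with rfl | rfl | rfl | rfl | rfl | rfl | rfl | rfl
  · exfalso
    refine not_semiregular h S fun u hu hu1 => ?_
    have hu' := card_stabilizer h S hu hu1
    rw [card_NS_eq h S] at hu'
    have heq : NS S ⊓ Cen u = Cen u := Subgroup.eq_of_le_of_card_ge inf_le_right (by
      rw [card_cen_conj h S ht ht1 (sylow_inv h S hu hu1), hk]; omega)
    exact heq ▸ inf_le_left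
  · rw [hk]
  · exfalso
    obtain ⟨x, hx⟩ := hex 7 (by norm_num) (by norm_num)
    obtain ⟨h1, h2, h3, h4, -, -⟩ := sylow_data h c (k := 1) (by norm_num : Nat.Prime 7) (by norm_num)
      (by rw [hk]) hx
    exact (idx_cases h4 h1 h3).1 rfl rfl
  · exfalso
    obtain ⟨x, hx⟩ := hex 11 (by norm_num) (by norm_num)
    obtain ⟨h1, h2, h3, h4, h5, h6⟩ := sylow_data h c (k := 1) (by norm_num : Nat.Prime 11) (by norm_num)
      (by rw [hk]) hx
    rw [(idx_cases h4 h1 h3).2.2.2.1 rfl rfl] at h2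
    refine no_self h c (by norm_num) (by norm_num) hx h6 ?_
    rwa [show Nat.card (Nor x) = 22 by omega]
  · exfalso
    obtain ⟨x, hx⟩ := hex 7 (by norm_num) (by norm_num)
    obtain ⟨h1, h2, h3, h4, -, -⟩ := sylow_data h c (k := 5) (by norm_num : Nat.Prime 7) (by norm_num)
      (by rw [hk]) hx
    rw [(idx_cases h4 h1 h3).2.1 rfl rfl] at h2
    refine (seven_facts h (x := (x : G)) (by rw [Subgroup.orderOf_coe, hx])).2 ?_
    exact (dvd_of_eq (by omega)).trans (nor_sub x)
  · exact (not_55 h c hk).elim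
  · exfalso
    obtain ⟨x, hx⟩ := hex 11 (by norm_num) (by norm_num)
    obtain ⟨h1, h2, h3, h4, -, -⟩ := sylow_data h c (k := 7) (by norm_num : Nat.Prime 11) (by norm_num)
      (by rw [hk]) hx
    rw [(idx_cases h4 h1 h3).2.2.1 rfl rfl] at h2
    refine (eleven_facts h (x := (x : G)) (by rw [Subgroup.orderOf_coe, hx])).2 ?_
    exact (dvd_of_eq (by omega)).trans (nor_sub x)
  · exact (not_385 h c hk).elim

end Cfsg.Agent.J1U.Ord
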