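import Cfsg.Agent.Lib.Block.SmallOrd.Order175560
import Cfsg.Agent.Lib.Block.SevenPts.Sylow
import Cfsg.Agent.Lib.Block.SmallIndex

/-! Centralizers of elements of prime order in a simple group of order 175560. -/

set_option autoImplicit false
set_option linter.unusedSectionVars false

namespace Cfsg.Agent.J1U.Ord

open Cfsg Cfsg.Agent.Block

universe u

variable {G : Type u} [Group G] [Finite G]

/-- The centralizer of an element. -/
abbrev Cen (x : G) : Subgroup G := Subgroup.centralizer ({x} : Set G)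

/-- The normalizer of a cyclic subgroup. -/
abbrev Nor (x : G) : Subgroup G := Subgroup.normalizer ((Subgroup.zpowers x : Subgroup G) : Set G)

theorem cen_le_nor (x : G) : Cen x ≤ Nor x := by
  rw [Cen, ← SevenPts.cent_zpowers]
  exact Subgroup.centralizer_le_normalizer _

theorem orderOf_dvd_cen {x y : G} (hxy : Commute x y) : orderOf y ∣ Nat.card (Cen x) :=
  Subgroup.orderOf_dvd_natCard _ (Subgroup.mem_centralizer_singleton_iff.2 hxy.symm.eq)

theorem exists_commute {q : ℕ} (hq : q.Prime) {x : G} (hd : q ∣ Nat.card (Cen x)) :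
    ∃ y : G, orderOf y = q ∧ Commute x y := by
  haveI := Fact.mk hq
  obtain ⟨y, hy⟩ := exists_prime_orderOf_dvd_card' q hd
  exact ⟨y, by rw [Subgroup.orderOf_coe, hy],
    (Subgroup.mem_centralizer_singleton_iff.1 y.2).symm⟩

variable [IsSimpleGroup G] (h : Nat.card G = 175560)
include h

theorem not_comm : ¬ IsMulCommutative G := small_not_comm (by rw [h]; norm_num)

theorem center_bot : Subgroup.center G = ⊥ := by
  refine (inferInstance : (Subgroup.center G).Normal).eq_bot_or_eq_top.resolve_right fun e => ?_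
  exact not_comm h ⟨⟨fun a b => (Subgroup.mem_center_iff.1 (e ▸ Subgroup.mem_top b) a)⟩⟩

/-- The options for an element of prime order. -/
theorem opt {p : ℕ} [hp : Fact p.Prime] (L : List (ℕ × ℕ))
    (ht : SmallOrd.optsTest 175560 p 420 L = true) {x : G} (hx : orderOf x = p) :
    ∃ nc ∈ L, Nat.card (Cen x) = p * nc.2 ∧ Nat.card (Nor x) * nc.1 = 175560 := by
  obtain ⟨hP, ho⟩ := SmallOrd.options_of_test (not_comm h) (B := 420) h L ht
  obtain ⟨P⟩ : Nonempty (Sylow p G) := inferInstance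
  let Q : Sylow p G := Sylow.ofCard (Subgroup.zpowers x)
    (by rw [Nat.card_zpowers, hx, ← P.card_eq_multiplicity, hP P])
  obtain ⟨c, hL, hc⟩ := ho Q
  refine ⟨_, hL, ?_, ?_⟩
  · rw [Cen, ← SevenPts.cent_zpowers, ← hc, Sylow.coe_ofCard]
  · show Nat.card (Nor x) * Nat.card (Sylow p G) = 175560
    rw [Sylow.card_eq_index_normalizer Q]
    exact (Subgroup.card_mul_index (Nor x)).trans h

/-- The prime divisors of the order. -/
theorem prime_cases {p : ℕ} (hp : p.Prime) (hd : p ∣ 175560) :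
    p = 2 ∨ p = 3 ∨ p = 5 ∨ p = 7 ∨ p = 11 ∨ p = 19 := by
  have h3 : p ∣ 2 ^ 3 * 3 * 5 * 7 * 11 * 19 := by norm_num; exact hd
  rcases hp.dvd_mul.1 h3 with h3 | h3
  · rcases hp.dvd_mul.1 h3 with h3 | h3
    · rcases hp.dvd_mul.1 h3 with h3 | h3
      · rcases hp.dvd_mul.1 h3 with h3 | h3
        · rcases hp.dvd_mul.1 h3 with h3 | h3
          · exact Or.inl ((Nat.prime_dvd_prime_iff_eq hp Nat.prime_two).1 (hp.dvd_of_dvd_pow h3))
          · exact Or.inr (Or.inl ((Nat.prime_dvd_prime_iff_eq hp Nat.prime_three).1 h3))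
        · exact Or.inr (Or.inr (Or.inl ((Nat.prime_dvd_prime_iff_eq hp (by norm_num)).1 h3)))
      · exact Or.inr (Or.inr (Or.inr (Or.inl ((Nat.prime_dvd_prime_iff_eq hp (by norm_num)).1 h3))))
    · exact Or.inr (Or.inr (Or.inr (Or.inr (Or.inl ((Nat.prime_dvd_prime_iff_eq hp (by norm_num)).1 h3)))))
  · exact Or.inr (Or.inr (Or.inr (Or.inr (Or.inr ((Nat.prime_dvd_prime_iff_eq hp (by norm_num)).1 h3)))))

theorem three_not_eight {x : G} (hx : orderOf x = 3) : ¬ 8 ∣ Nat.card (Cen x) := by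
  haveI : Fact (Nat.Prime 3) := ⟨Nat.prime_three⟩
  obtain ⟨nc, hL, hc, -⟩ := opt h (p := 3) [(19,1540),(22,1330),(28,1045),(55,532),(70,418),(76,385),
    (133,220),(154,190),(190,154),(220,133),(385,76),(418,70),(532,55),(1045,28),(1330,22),(1540,19),
    (2926,10),(4180,7),(7315,4),(29260,1)] (by decide +kernel) hx
  rw [hc]
  simp only [List.mem_cons, List.not_mem_nil, or_false] at hL
  rcases hL with rfl | rfl | rfl | rfl | rfl | rfl | rfl | rfl | rfl | rfl | rfl | rfl | rfl | rfl | rfl |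
    rfl | rfl | rfl | rfl | rfl <;> norm_num

theorem five_facts {x : G} (hx : orderOf x = 5) :
    ¬ 8 ∣ Nat.card (Cen x) ∧ ¬ 12 ∣ Nat.card (Cen x) := by
  haveI : Fact (Nat.Prime 5) := ⟨by norm_num⟩
  obtain ⟨nc, hL, hc, -⟩ := opt h (p := 5) [(21,836),(21,418),(66,266),(66,133),(76,231),(231,76),
    (231,38),(266,66),(266,33),(836,21),(1596,11),(2926,6),(2926,3),(17556,1)] (by decide +kernel) hx
  rw [hc]
  simp only [List.mem_cons, List.not_mem_nil, or_false] at hL
  rcases hL with rfl | rfl | rfl | rfl | rfl | rfl | rfl | rfl | rfl | rfl | rfl | rfl | rfl | rfl <;>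
    norm_num

theorem eleven_facts {x : G} (hx : orderOf x = 11) :
    ¬ 7 ∣ Nat.card (Cen x) ∧ ¬ 154 ∣ Nat.card (Nor x) := by
  haveI : Fact (Nat.Prime 11) := ⟨by norm_num⟩
  obtain ⟨nc, hL, hc, hn⟩ := opt h (p := 11) [(56,57),(133,60),(133,24),(133,12),(210,38),(1596,5),
    (1596,2),(1596,1)] (by decide +kernel) hx
  rw [hc]
  simp only [List.mem_cons, List.not_mem_nil, or_false] at hL
  rcases hL with rfl | rfl | rfl | rfl | rfl | rfl | rfl | rfl <;>
    exact ⟨by norm_num, fun hd => by obtain ⟨k, hk⟩ := hd; simp only at hn; omega⟩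

theorem nineteen_not_seven {x : G} (hx : orderOf x = 19) : ¬ 7 ∣ Nat.card (Cen x) := by
  haveI : Fact (Nat.Prime 19) := ⟨by norm_num⟩
  obtain ⟨nc, hL, hc, -⟩ := opt h (p := 19) [(77,60),(77,40),(77,20),(210,22),(1540,3),(1540,2),
    (1540,1)] (by decide +kernel) hx
  rw [hc]
  simp only [List.mem_cons, List.not_mem_nil, or_false] at hL
  rcases hL with rfl | rfl | rfl | rfl | rfl | rfl | rfl <;> norm_num

theorem no_commute {q : ℕ} (hq : q = 11 ∨ q = 19) {x y : G} (hx : orderOf x = 7) (hy : orderOf y = q)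
    (hxy : Commute x y) : False := by
  have h7 := orderOf_dvd_cen (x := y) (y := x) hxy.symm
  rw [hx] at h7
  rcases hq with rfl | rfl
  · exact (eleven_facts h hy).1 h7
  · exact nineteen_not_seven h hy h7

theorem seven_facts {x : G} (hx : orderOf x = 7) :
    ¬ 4 ∣ Nat.card (Cen x) ∧ ¬ 56 ∣ Nat.card (Nor x) := by
  haveI : Fact (Nat.Prime 7) := ⟨by norm_num⟩
  obtain ⟨nc, hL, hc, hn⟩ := opt h (p := 7) [(22,570),(22,380),(22,190),(57,220),(190,66),(190,44),
    (190,22),(330,38),(1254,10),(4180,3),(4180,2),(4180,1)] (by decide +kernel) hx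
  have h11 : ¬ 11 ∣ Nat.card (Cen x) := fun hd => by
    obtain ⟨y, hy, hxy⟩ := exists_commute (by norm_num) hd
    exact no_commute h (Or.inl rfl) hx hy hxy
  have h19 : ¬ 19 ∣ Nat.card (Cen x) := fun hd => by
    obtain ⟨y, hy, hxy⟩ := exists_commute (by norm_num) hd
    exact no_commute h (Or.inr rfl) hx hy hxy
  rw [hc] at h11 h19 ⊢
  simp only [List.mem_cons, List.not_mem_nil, or_false] at hL
  rcases hL with rfl | rfl | rfl | rfl | rfl | rfl | rfl | rfl | rfl | rfl | rfl | rfl <;>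
    first
      | (exfalso; norm_num at h11; done)
      | (exfalso; norm_num at h19; done)
      | exact ⟨by norm_num, fun hd => by obtain ⟨k, hk⟩ := hd; simp only at hn; omega⟩

/-- An element of odd prime order commuting with a group of order eight has order 11 or 19. -/
theorem eight_prime {p : ℕ} (hp : p.Prime) (hp2 : p ≠ 2) {x : G} (hx : orderOf x = p)
    (h8 : 8 ∣ Nat.card (Cen x)) : p = 11 ∨ p = 19 := by
  rcases prime_cases h hp (h ▸ hx ▸ orderOf_dvd_natCard x) with rfl | rfl | rfl | rfl | e | e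
  · exact absurd rfl hp2
  · exact absurd h8 (three_not_eight h hx)
  · exact absurd h8 (five_facts h hx).1
  · exact absurd (dvd_trans (by norm_num) h8) (seven_facts h hx).1
  · exact Or.inl e
  · exact Or.inr e

end Cfsg.Agent.J1U.Ord
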