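import Cfsg.Agent.Lib.Invol.J1.OrdFacts

/-! Elementary tools for subgroups of prime order. -/

set_option autoImplicit false
set_option linter.unusedSectionVars false

namespace Cfsg.Agent.J1U.Ord

universe u

variable {C : Type u} [Group C] [Finite C]

/-- An element normalizing a cyclic subgroup acts as a power map. -/
theorem exists_zpow_conj {x s : C} (hs : s ∈ Nor x) : ∃ i : ℤ, s * x * s⁻¹ = x ^ i := by
  obtain ⟨i, hi⟩ := Subgroup.mem_zpowers_iff.1 ((Subgroup.mem_normalizer_iff.1 hs x).1 (Subgroup.mem_zpowers x))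
  exact ⟨i, hi.symm⟩

/-- Two normalizing elements induce commuting maps on a cyclic subgroup. -/
theorem comm_mem_cen {x a s : C} (ha : a ∈ Nor x) (hs : s ∈ Nor x) :
    a * s * a⁻¹ * s⁻¹ ∈ Cen x := by
  obtain ⟨i, hi⟩ := exists_zpow_conj ha
  obtain ⟨j, hj⟩ := exists_zpow_conj hs
  obtain ⟨i', hi'⟩ := exists_zpow_conj (inv_mem ha)
  obtain ⟨j', hj'⟩ := exists_zpow_conj (inv_mem hs)
  rw [inv_inv] at hi' hj'
  have ei : x ^ (i' * i) = x := by
    rw [mul_comm, zpow_mul, ← hi, conj_zpow, ← hi']; group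
  have ej : x ^ (j' * j) = x := by
    rw [mul_comm, zpow_mul, ← hj, conj_zpow, ← hj']; group
  have e : a * s * a⁻¹ * s⁻¹ * x * (a * s * a⁻¹ * s⁻¹)⁻¹ = x := by
    calc a * s * a⁻¹ * s⁻¹ * x * (a * s * a⁻¹ * s⁻¹)⁻¹
        = a * (s * (a⁻¹ * (s⁻¹ * x * s) * a) * s⁻¹) * a⁻¹ := by group
      _ = a * (s * (a⁻¹ * x * a) ^ j' * s⁻¹) * a⁻¹ := by
          rw [hj', show a⁻¹ * x ^ j' * a = a⁻¹ * x ^ j' * (a⁻¹)⁻¹ by rw [inv_inv], ← conj_zpow,
            inv_inv]
      _ = a * ((s * x * s⁻¹) ^ (i' * j')) * a⁻¹ := by rw [hi', ← zpow_mul, conj_zpow]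
      _ = (a * x * a⁻¹) ^ (j * (i' * j')) := by rw [hj, ← zpow_mul, conj_zpow]
      _ = (x ^ (i' * i)) ^ (j' * j) := by rw [hi, ← zpow_mul, ← zpow_mul]; congr 1; ring
      _ = x := by rw [ei, ej]
  exact Subgroup.mem_centralizer_singleton_iff.2 (mul_inv_eq_iff_eq_mul.1 e)

/-- The automizer of a subgroup of prime order `p` has order dividing `p - 1`. -/
theorem nor_index {p : ℕ} (hp : p.Prime) {x : C} (hx : orderOf x = p) :
    Nat.card (Nor x) ∣ Nat.card (Cen x) * (p - 1) := by
  haveI := Fact.mk hp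
  have hc : Nat.card (Subgroup.zpowers x) = p := by rw [Nat.card_zpowers, hx]
  have h1 : ((Cen x).subgroupOf (Nor x)).index ∣ p - 1 := by
    rw [Cen, ← Block.SevenPts.cent_zpowers, ← Subgroup.normalizerMonoidHom_ker, Subgroup.index_ker]
    refine (Subgroup.card_subgroup_dvd_card _).trans (dvd_of_eq ?_)
    rw [IsCyclic.card_mulAut, hc, Nat.totient_prime hp]
  refine dvd_trans ?_ (Nat.mul_dvd_mul_left _ h1)
  rw [← Nat.card_congr (Subgroup.subgroupOfEquivOfLe (cen_le_nor x)).toEquiv, Subgroup.card_mul_index]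

/-- An element of order prime to `p - 1` normalizing a subgroup of order `p` centralizes it. -/
theorem commute_of_normalize {p q : ℕ} (hp : p.Prime) (hq : q.Prime) (hqp : ¬ q ∣ p - 1) {x b : C}
    (hx : orderOf x = p) (hb : orderOf b = q) (hbn : b ∈ Nor x) : Commute x b := by
  haveI := Fact.mk hp
  have h1 : (Subgroup.zpowers x).normalizerMonoidHom ⟨b, hbn⟩ = 1 := by
    rw [← orderOf_eq_one_iff]
    have hd1 := orderOf_map_dvd (Subgroup.zpowers x).normalizerMonoidHom ⟨b, hbn⟩
    rw [Subgroup.orderOf_mk, hb] at hd1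
    refine ((Nat.dvd_prime hq).1 hd1).resolve_right fun e => hqp ?_
    have hd2 := orderOf_dvd_natCard ((Subgroup.zpowers x).normalizerMonoidHom ⟨b, hbn⟩)
    rwa [e, IsCyclic.card_mulAut, Nat.card_zpowers, hx, Nat.totient_prime hp] at hd2
  have h2 : b * x * b⁻¹ = x := by
    have h3 := DFunLike.congr_fun h1 ⟨x, Subgroup.mem_zpowers x⟩
    exact congrArg Subtype.val h3
  exact (mul_inv_eq_iff_eq_mul.1 h2).symm

/-- Sylow's theorem for a prime dividing the order exactly once. -/
theorem nor_count {p : ℕ} (hp : p.Prime) {x : C} (hx : orderOf x = p) (hex : ¬ p * p ∣ Nat.card C) :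
    (Nor x).index % p = 1 ∧ Nat.card (Nor x) * (Nor x).index = Nat.card C := by
  haveI := Fact.mk hp
  refine ⟨?_, Subgroup.card_mul_index _⟩
  let Q : Sylow p C := Sylow.ofCard (Subgroup.zpowers x) (by
    rw [Nat.card_zpowers, hx]
    have h1 : 1 ≤ (Nat.card C).factorization p :=
      (hp.dvd_iff_one_le_factorization Nat.card_pos.ne').1 (hx ▸ orderOf_dvd_natCard x)
    have h2 : (Nat.card C).factorization p < 2 := by
      by_contra hge
      push Not at hge
      exact hex (pow_two p ▸ (hp.pow_dvd_iff_le_factorization Nat.card_pos.ne').2 hge)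
    rw [show (Nat.card C).factorization p = 1 by omega, pow_one])
  have h2 : Nat.card (Sylow p C) % p = 1 % p := card_sylow_modEq_one p C
  rw [Nat.mod_eq_of_lt hp.one_lt] at h2
  rw [← h2, Sylow.card_eq_index_normalizer Q]
  rfl

/-- Burnside: if a subgroup of order `p` is central in its normalizer then `p` divides the order
of the normalizer of every Sylow 2-subgroup. -/
theorem dvd_nor_two {p : ℕ} (hp : p.Prime) (hp2 : p ≠ 2) {x : C} (hx : orderOf x = p)
    (hex : ¬ p * p ∣ Nat.card C) (hle : Nor x ≤ Cen x) (T : Sylow 2 C) :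
    p ∣ Nat.card (Subgroup.normalizer ((T : Subgroup C) : Set C)) := by
  haveI := Fact.mk hp
  haveI : Fact (Nat.Prime 2) := ⟨Nat.prime_two⟩
  let Q : Sylow p C := Sylow.ofCard (Subgroup.zpowers x) (by
    rw [Nat.card_zpowers, hx]
    have h1 : 1 ≤ (Nat.card C).factorization p :=
      (hp.dvd_iff_one_le_factorization Nat.card_pos.ne').1 (hx ▸ orderOf_dvd_natCard x)
    have h2 : (Nat.card C).factorization p < 2 := by
      by_contra hge
      push Not at hge
      exact hex (pow_two p ▸ (hp.pow_dvd_iff_le_factorization Nat.card_pos.ne').2 hge)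
    rw [show (Nat.card C).factorization p = 1 by omega, pow_one])
  have hQ : Subgroup.normalizer ((Q : Subgroup C) : Set C) ≤
      Subgroup.centralizer ((Q : Subgroup C) : Set C) := by
    show Nor x ≤ Subgroup.centralizer ((Subgroup.zpowers x : Subgroup C) : Set C)
    rw [Block.SevenPts.cent_zpowers]
    exact hle
  set M := (MonoidHom.transferSylow Q hQ).ker with hM
  have hidx : M.index = p := by
    rw [(MonoidHom.ker_transferSylow_isComplement' Q hQ).symm.index_eq_card]
    show Nat.card (Subgroup.zpowers x) = p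
    rw [Nat.card_zpowers, hx]
  have hTM : (T : Subgroup C) ≤ M := by
    rw [← Subgroup.relIndex_eq_one]
    obtain ⟨n, hn⟩ := IsPGroup.iff_card.1 T.isPGroup'
    refine Nat.eq_one_of_dvd_coprimes ?_ (Subgroup.relIndex_dvd_card (H := M) (K := (T : Subgroup C)))
      (hidx ▸ Subgroup.relIndex_dvd_index_of_normal M _)
    rw [hn]
    exact Nat.Coprime.pow_left _ ((Nat.coprime_primes Nat.prime_two hp).2 hp2.symm)
  have hfr := Sylow.normalizer_sup_eq_top (T.subtype hTM)
  rw [show ((T.subtype hTM : Sylow 2 M) : Subgroup M).map M.subtype = (T : Subgroup C) from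
    Subgroup.map_subgroupOf_eq_of_le hTM] at hfr
  have h2 := M.relIndex_dvd_card (Subgroup.normalizer ((T : Subgroup C) : Set C))
  rwa [← Subgroup.relIndex_sup_right, hfr, Subgroup.relIndex_top_right, hidx] at h2

/-- A centralizer in a subgroup. -/
theorem cen_sub {H : Subgroup C} (x : H) : Nat.card (Cen x) ∣ Nat.card (Cen (x : C)) := by
  rw [← Subgroup.card_map_of_injective H.subtype_injective]
  refine Subgroup.card_dvd_of_le ?_
  rintro _ ⟨y, hy, rfl⟩
  exact Subgroup.mem_centralizer_singleton_iff.2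
    (congrArg Subtype.val (Subgroup.mem_centralizer_singleton_iff.1 hy))

/-- A normalizer in a subgroup. -/
theorem nor_sub {H : Subgroup C} (x : H) : Nat.card (Nor x) ∣ Nat.card (Nor (x : C)) := by
  rw [← Subgroup.card_map_of_injective H.subtype_injective]
  refine Subgroup.card_dvd_of_le ?_
  rintro _ ⟨y, hy, rfl⟩
  refine Subgroup.mem_normalizer_iff.2 fun w => ?_
  have hmem : ∀ v : C, v ∈ Subgroup.zpowers (x : C) ↔ ∃ v' : H, v' ∈ Subgroup.zpowers x ∧ (v' : C) = v := by
    intro v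
    constructor
    · intro hv
      obtain ⟨i, rfl⟩ := Subgroup.mem_zpowers_iff.1 hv
      exact ⟨x ^ i, zpow_mem (Subgroup.mem_zpowers x) i, by simp⟩
    · rintro ⟨v', hv', rfl⟩
      obtain ⟨i, rfl⟩ := Subgroup.mem_zpowers_iff.1 hv'
      exact Subgroup.mem_zpowers_iff.2 ⟨i, by simp⟩
  constructor
  · intro hw
    obtain ⟨v, hv, rfl⟩ := (hmem w).1 hw
    exact (hmem _).2 ⟨y * v * y⁻¹, (Subgroup.mem_normalizer_iff.1 hy v).1 hv, by simp⟩
  · intro hw
    obtain ⟨v, hv, hv'⟩ := (hmem _).1 hw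
    refine (hmem w).2 ⟨y⁻¹ * v * y, (Subgroup.mem_normalizer_iff.1 hy _).2 ?_, ?_⟩
    · simpa [mul_assoc] using hv
    · simp only [Subgroup.coe_mul, Subgroup.coe_inv, hv']
      simp [mul_assoc]

end Cfsg.Agent.J1U.Ord
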