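import Cfsg.Agent.Lib.Invol.J1.OrdTwo
import Cfsg.Agent.Lib.Invol.J1.OrdTools
import Cfsg.Agent.Lib.Block.ElemEight.Aut

/-! The normalizer of a Sylow 2-subgroup in a simple group of order 175560. -/

set_option autoImplicit false
set_option linter.unusedSectionVars false
set_option linter.style.haveILetI false

namespace Cfsg.Agent.J1U.Ord

open Cfsg Cfsg.Agent.Block

universe u

variable {G : Type u} [Group G] [Finite G]

/-- The normalizer of a Sylow 2-subgroup. -/
abbrev NS (S : Sylow 2 G) : Subgroup G := Subgroup.normalizer ((S : Subgroup G) : Set G)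

theorem sylow_eq_of_le (S T : Sylow 2 G) (h : (T : Subgroup G) ≤ NS S) : T = S := by
  haveI : Fact (Nat.Prime 2) := ⟨Nat.prime_two⟩
  have hsup := IsPGroup.to_sup_of_normal_left' S.isPGroup' T.isPGroup' h
  have e1 := S.3 hsup le_sup_left
  have e2 := T.3 hsup le_sup_right
  exact Sylow.ext (e2.symm.trans e1)

variable [IsSimpleGroup G] (h : Nat.card G = 175560)
include h

theorem sylow_comm (S : Sylow 2 G) {x y : G} (hx : x ∈ (S : Subgroup G)) (hy : y ∈ (S : Subgroup G)) :
    x * y = y * x :=
  congrArg Subtype.val ((sylow_elem h S).1.is_comm.comm ⟨x, hx⟩ ⟨y, hy⟩)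

theorem sylow_sq (S : Sylow 2 G) {x : G} (hx : x ∈ (S : Subgroup G)) : x * x = 1 := by
  rw [← pow_two]; exact (sylow_elem h S).2 x hx

theorem sylow_inv (S : Sylow 2 G) {x : G} (hx : x ∈ (S : Subgroup G)) (h1 : x ≠ 1) : orderOf x = 2 :=
  orderOf_eq_prime ((sylow_elem h S).2 x hx) h1

theorem sylow_le_cen (S : Sylow 2 G) {x : G} (hx : x ∈ (S : Subgroup G)) : (S : Subgroup G) ≤ Cen x :=
  fun _ hy => Subgroup.mem_centralizer_singleton_iff.2 (sylow_comm h S hy hx)

/-- The normalizer is transitive on the involutions of the Sylow subgroup. -/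
theorem transitive (S : Sylow 2 G) :
    (∀ e f : G, e ∈ (S : Subgroup G) → f ∈ (S : Subgroup G) → e ≠ 1 → f ≠ 1 →
      ∃ n ∈ NS S, n * e * n⁻¹ = f) ∧
    ((Subgroup.centralizer ((S : Subgroup G) : Set G)).relIndex (NS S) = 7 ∨
      (Subgroup.centralizer ((S : Subgroup G) : Set G)).relIndex (NS S) = 21) := by
  classical
  have hEA := sylow_elem h S
  haveI := hEA.1
  set N := NS S with hN
  set ρ := (S : Subgroup G).normalizerMonoidHom with hρ
  have happ : ∀ (n : N) (s : (S : Subgroup G)), ((ρ n s : (S : Subgroup G)) : G) = n * s * (n : G)⁻¹ :=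
    fun n s => rfl
  have hexp : ∀ x : (S : Subgroup G), x * x = 1 := fun x => Subtype.ext (sylow_sq h S x.2)
  have hcard : Nat.card ρ.range = (Subgroup.centralizer ((S : Subgroup G) : Set G)).relIndex N := by
    rw [← Subgroup.index_ker, hρ, Subgroup.normalizerMonoidHom_ker]
    rfl
  have hSC : (S : Subgroup G) ≤ Subgroup.centralizer ((S : Subgroup G) : Set G) := fun x hx =>
    Subgroup.mem_centralizer_iff.2 fun y hy => sylow_comm h S hy hx
  have hodd : Odd (Nat.card ρ.range) := by
    rw [hcard, ← Nat.not_even_iff_odd, even_iff_two_dvd]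
    exact fun hd => S.not_dvd_index ((hd.trans (Subgroup.relIndex_dvd_of_le_left _ hSC)).trans
      (Subgroup.relIndex_dvd_index_of_le Subgroup.le_normalizer))
  have hnf : ∀ x : (S : Subgroup G), x ≠ 1 → ∃ α ∈ ρ.range, α x ≠ x := by
    intro x he
    by_contra hno
    push Not at hno
    refine he (Subtype.ext (no_fixed h S hEA.1 x.2 fun n hn => ?_))
    exact mul_inv_eq_iff_eq_mul.1 (congrArg Subtype.val (hno _ ⟨⟨n, hn⟩, rfl⟩))
  obtain ⟨htr, hc⟩ := ElemEight.transitive_card hexp (sylow_card h S) ρ.range hodd hnf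
  refine ⟨fun e f he hf he1 hf1 => ?_, by rwa [← hcard]⟩
  obtain ⟨α, ⟨n, rfl⟩, hα⟩ := htr ⟨e, he⟩ ⟨f, hf⟩ (fun e' => he1 (congrArg Subtype.val e'))
    (fun e' => hf1 (congrArg Subtype.val e'))
  exact ⟨n, n.2, congrArg Subtype.val hα⟩

theorem nine_not (p : ℕ) (hp : p.Prime) (hp2 : p ≠ 2) : ¬ p * p ∣ 175560 := by
  intro hd
  rcases prime_cases h hp ((dvd_mul_right p p).trans hd) with rfl | rfl | rfl | rfl | rfl | rfl
  · exact hp2 rfl
  all_goals norm_num at hd

/-- The Sylow 2-subgroups are self-centralizing. -/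
theorem cent_sylow (S : Sylow 2 G) :
    Subgroup.centralizer ((S : Subgroup G) : Set G) = (S : Subgroup G) := by
  classical
  haveI : Fact (Nat.Prime 2) := ⟨Nat.prime_two⟩
  set Z := Subgroup.centralizer ((S : Subgroup G) : Set G) with hZ
  have hSZ : (S : Subgroup G) ≤ Z := fun x hx =>
    Subgroup.mem_centralizer_iff.2 fun y hy => sylow_comm h S hy hx
  obtain ⟨k, hk⟩ := sylow_card h S ▸ Subgroup.card_dvd_of_le hSZ
  suffices k = 1 by
    refine (Subgroup.eq_of_le_of_card_ge hSZ ?_).symm
    rw [hk, this, sylow_card h S]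
  by_contra hk1
  obtain ⟨p, hp, hpk⟩ := Nat.exists_prime_and_dvd hk1
  have hZd : 8 * k ∣ 175560 := hk ▸ h ▸ Subgroup.card_subgroup_dvd_card Z
  have hp2 : p ≠ 2 := fun e => by
    subst e
    exact absurd (dvd_trans hpk (Nat.dvd_of_mul_dvd_mul_left (by norm_num : 0 < 8)
      (show 8 * k ∣ 8 * 21945 from hZd))) (by norm_num)
  haveI := Fact.mk hp
  obtain ⟨P⟩ : Nonempty (Sylow p Z) := inferInstance
  have hpZ : p ∣ Nat.card Z := hk ▸ hpk.mul_left 8
  have hPc : Nat.card (P : Subgroup Z) = p := by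
    rw [P.card_eq_multiplicity]
    have h1 : 1 ≤ (Nat.card Z).factorization p :=
      (hp.dvd_iff_one_le_factorization Nat.card_pos.ne').1 hpZ
    have h2 : (Nat.card Z).factorization p < 2 := by
      by_contra hge
      push Not at hge
      exact nine_not h p hp hp2 (((pow_two p ▸ (hp.pow_dvd_iff_le_factorization Nat.card_pos.ne').2 hge :
        p * p ∣ Nat.card Z)).trans (h ▸ Subgroup.card_subgroup_dvd_card Z))
    rw [show (Nat.card Z).factorization p = 1 by omega, pow_one]
  obtain ⟨z, hz⟩ := exists_prime_orderOf_dvd_card' (G := (P : Subgroup Z)) p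
    (by rw [show Nat.card (P : Subgroup Z) = p from hPc])
  set x : G := ((z : Z) : G) with hxdef
  have hx : orderOf x = p := by rw [hxdef, Subgroup.orderOf_coe, Subgroup.orderOf_coe, hz]
  have hSx : (S : Subgroup G) ≤ Cen x := fun s hs => Subgroup.mem_centralizer_singleton_iff.2
    (Subgroup.mem_centralizer_iff.1 (z : Z).2 s hs)
  have h1119 := eight_prime h hp hp2 hx (sylow_card h S ▸ Subgroup.card_dvd_of_le hSx)
  -- an element of order 7 of the normalizer of `S` normalizing `P`
  set N := NS S with hN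
  have hZN : Z ≤ N := Subgroup.centralizer_le_normalizer _
  set K := Z.subgroupOf N with hK
  haveI hKn : K.Normal := by
    rw [hK, hZ, hN, NS, ← Subgroup.normalizerMonoidHom_ker]
    infer_instance
  have h7 : 7 ∣ K.index := by
    rcases (transitive h S).2 with e | e
    · exact dvd_of_eq e.symm
    · exact ⟨3, e⟩
  let φ : Z ≃* K := (Subgroup.subgroupOfEquivOfLe hZN).symm
  let Pk : Sylow p K := P.mapSurjective (f := φ.toMonoidHom) φ.surjective
  set R := (Pk : Subgroup K).map K.subtype with hR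
  have hfr : Subgroup.normalizer (R : Set N) ⊔ K = ⊤ := Sylow.normalizer_sup_eq_top Pk
  have hdvd : 7 ∣ Nat.card (Subgroup.normalizer (R : Set N)) := by
    refine h7.trans ?_
    rw [← Subgroup.relIndex_top_right (H := K), ← hfr, Subgroup.relIndex_sup_right]
    exact Subgroup.relIndex_dvd_card K _
  haveI : Fact (Nat.Prime 7) := ⟨by norm_num⟩
  obtain ⟨⟨b, hb⟩, hbo⟩ := exists_prime_orderOf_dvd_card' 7 hdvd
  rw [Subgroup.orderOf_mk] at hbo
  have hxR : (⟨x, hZN (z : Z).2⟩ : N) ∈ R :=
    ⟨φ (z : Z), ⟨(z : Z), z.2, rfl⟩, rfl⟩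
  have hRc : Nat.card R = p := by
    rw [hR, Subgroup.card_map_of_injective K.subtype_injective]
    show Nat.card ((P : Subgroup Z).map φ.toMonoidHom) = p
    rw [Subgroup.card_map_of_injective φ.injective]
    exact hPc
  have hRz : Subgroup.zpowers (⟨x, hZN (z : Z).2⟩ : N) = R := by
    refine Subgroup.eq_of_le_of_card_ge (Subgroup.zpowers_le.2 hxR) ?_
    rw [hRc, Nat.card_zpowers, Subgroup.orderOf_mk, hx]
  have hcomm : Commute (⟨x, hZN (z : Z).2⟩ : N) b := by
    refine commute_of_normalize hp (by norm_num : Nat.Prime 7) ?_ (by rw [Subgroup.orderOf_mk, hx]) hbo ?_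
    · rcases h1119 with rfl | rfl <;> norm_num
    · rw [Nor, hRz]
      exact hb
  exact no_commute h h1119 (x := (b : G)) (y := x) (by rw [Subgroup.orderOf_coe, hbo]) hx
    (congrArg Subtype.val hcomm.eq.symm)

theorem card_NS (S : Sylow 2 G) : Nat.card (NS S) = 56 ∨ Nat.card (NS S) = 168 := by
  have e : Nat.card (S : Subgroup G) * (S : Subgroup G).relIndex (NS S) = Nat.card (NS S) := by
    have h1 := ((S : Subgroup G).subgroupOf (NS S)).card_mul_index
    rwa [Nat.card_congr (Subgroup.subgroupOfEquivOfLe Subgroup.le_normalizer).toEquiv] at h1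
  have h7 := (transitive h S).2
  rw [cent_sylow h S] at h7
  rw [sylow_card h S] at e
  rcases h7 with h7 | h7 <;> rw [h7] at e <;> omega

/-- The stabilizer of an involution of `S` in the normalizer. -/
theorem card_stabilizer (S : Sylow 2 G) {t : G} (ht : t ∈ (S : Subgroup G)) (ht1 : t ≠ 1) :
    Nat.card ↥(NS S ⊓ Cen t) * 7 = Nat.card (NS S) := by
  classical
  cases nonempty_fintype G
  set N := NS S
  let X := {x : (S : Subgroup G) // x ≠ 1}
  have hX : Nat.card X = 7 := by
    rw [Nat.card_eq_fintype_card, Fintype.card_subtype_compl, Fintype.card_subtype_eq,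
      ← Nat.card_eq_fintype_card, sylow_card h S]
  letI : MulAction N X :=
    { smul := fun n x => ⟨(S : Subgroup G).normalizerMonoidHom n x.1, fun e => x.2 (by simpa using e)⟩
      one_smul := fun x => Subtype.ext (by
        show (S : Subgroup G).normalizerMonoidHom 1 x.1 = x.1
        simp)
      mul_smul := fun m n x => Subtype.ext (by
        show (S : Subgroup G).normalizerMonoidHom (m * n) x.1 = _
        simp
        rfl) }
  haveI : MulAction.IsPretransitive N X := ⟨fun x y => by
    obtain ⟨n, hn, e⟩ := (transitive h S).1 _ _ x.1.2 y.1.2 (fun e => x.2 (Subtype.ext e))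
      (fun e => y.2 (Subtype.ext e))
    exact ⟨⟨n, hn⟩, Subtype.ext (Subtype.ext e)⟩⟩
  let t0 : X := ⟨⟨t, ht⟩, fun e => ht1 (congrArg Subtype.val e)⟩
  have hst : MulAction.stabilizer N t0 = (Cen t).subgroupOf N := by
    ext n
    rw [MulAction.mem_stabilizer_iff, Subgroup.mem_subgroupOf, Subgroup.mem_centralizer_singleton_iff]
    constructor
    · intro e
      exact mul_inv_eq_iff_eq_mul.1 (congrArg (fun v : X => ((v.1 : (S : Subgroup G)) : G)) e)
    · intro e
      exact Subtype.ext (Subtype.ext (mul_inv_eq_iff_eq_mul.2 e))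
  have hidx : ((Cen t).subgroupOf N).index = 7 := by
    rw [← hst, MulAction.index_stabilizer_of_transitive, hX]
  have h1 := ((Cen t).subgroupOf N).card_mul_index
  rw [hidx, ← Subgroup.inf_subgroupOf_right,
    Nat.card_congr (Subgroup.subgroupOfEquivOfLe inf_le_right).toEquiv, inf_comm] at h1
  exact h1

/-- Not every centralizer of an involution lies in the normalizer of a Sylow subgroup. -/
theorem not_semiregular (S : Sylow 2 G)
    (hC : ∀ t ∈ (S : Subgroup G), t ≠ 1 → Cen t ≤ NS S) : False := by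
  classical
  haveI : Fact (Nat.Prime 2) := ⟨Nat.prime_two⟩
  cases nonempty_fintype G
  haveI := Fintype.ofFinite (Sylow 2 G)
  let X := {T : Sylow 2 G // T ≠ S}
  have hfixS : ∀ s : (S : Subgroup G), (s : G) • S = S := fun s =>
    Sylow.smul_eq_iff_mem_normalizer.2 (Subgroup.le_normalizer s.2)
  letI : MulAction (S : Subgroup G) X :=
    { smul := fun s T => ⟨(s : G) • T.1, fun e => T.2 (by
        exact smul_left_cancel _ (e.trans (hfixS s).symm))⟩
      one_smul := fun T => Subtype.ext (one_smul G T.1)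
      mul_smul := fun m n T => Subtype.ext (mul_smul (m : G) (n : G) T.1) }
  have hfree : ∀ T : X, MulAction.stabilizer (S : Subgroup G) T = ⊥ := by
    intro T
    rw [Subgroup.eq_bot_iff_forall]
    intro s hs
    by_contra hs1
    have hs1' : (s : G) ≠ 1 := fun e => hs1 (Subtype.ext e)
    have hn : (s : G) • T.1 = T.1 := congrArg Subtype.val hs
    rw [Sylow.smul_eq_iff_mem_normalizer] at hn
    have hsT : (s : G) ∈ (T.1 : Subgroup G) := by
      have hz : IsPGroup 2 (Subgroup.zpowers (s : G)) :=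
        IsPGroup.of_card (n := 1) (by rw [Nat.card_zpowers, sylow_inv h S s.2 hs1', pow_one])
      have hsup := IsPGroup.to_sup_of_normal_right' hz T.1.isPGroup' (Subgroup.zpowers_le.2 hn)
      exact (T.1.3 hsup le_sup_right) ▸
        (le_sup_left : _ ≤ Subgroup.zpowers (s : G) ⊔ (T.1 : Subgroup G)) (Subgroup.mem_zpowers _)
    exact T.2 (sylow_eq_of_le S T.1 ((sylow_le_cen h T.1 hsT).trans (hC _ s.2 hs1')))
  have h8 : 8 ∣ Nat.card X := by
    rw [Nat.card_congr (MulAction.selfEquivOrbitsQuotientProd hfree), Nat.card_prod, sylow_card h S]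
    exact dvd_mul_left _ _
  have hX : Nat.card X + 1 = Nat.card (Sylow 2 G) := by
    rw [Nat.card_eq_fintype_card, Nat.card_eq_fintype_card, Fintype.card_subtype_compl,
      Fintype.card_subtype_eq]
    have : 0 < Fintype.card (Sylow 2 G) := Fintype.card_pos
    omega
  have hidx := (NS S).card_mul_index
  rw [h, show (NS S).index = Nat.card (Sylow 2 G) from (Sylow.card_eq_index_normalizer S).symm,
    ← hX] at hidx
  obtain ⟨j, hj⟩ := h8
  rw [hj] at hidx
  rcases card_NS h S with e | e <;> rw [e] at hidx <;> omega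

end Cfsg.Agent.J1U.Ord
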