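import Cfsg.Agent.Lib.Invol.J1.OrdLocal
import Cfsg.Agent.Lib.Invol.J1.Five

/-! The automizer of a Sylow 2-subgroup of a simple group of order 175560 has order 21. -/

set_option autoImplicit false
set_option linter.unusedSectionVars false
set_option linter.style.haveILetI false

namespace Cfsg.Agent.J1U.Ord

open Cfsg Cfsg.Agent.Block

universe u

theorem dvd_list {d : ℕ} (hd : d ∣ 21945) (h1 : d ≠ 1) :
    ∃ p : ℕ, p.Prime ∧ p ∣ d ∧ (p = 19 ∨ (p = 11 ∧ d ∣ 1155) ∨ (p = 7 ∧ d ∣ 105) ∨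
      (p = 5 ∧ d ∣ 15) ∨ (p = 3 ∧ d ∣ 3)) := by
  have key : ∀ (q a : ℕ), q.Prime → d ∣ q * a → ¬ q ∣ d → d ∣ a := fun q a hq h hn =>
    Nat.Coprime.dvd_of_dvd_mul_left ((hq.coprime_iff_not_dvd.2 hn).symm) h
  by_cases h19 : 19 ∣ d
  · exact ⟨19, by norm_num, h19, Or.inl rfl⟩
  have e1 : d ∣ 1155 := key 19 1155 (by norm_num) (by norm_num; exact hd) h19
  by_cases h11 : 11 ∣ d
  · exact ⟨11, by norm_num, h11, Or.inr (Or.inl ⟨rfl, e1⟩)⟩
  have e2 : d ∣ 105 := key 11 105 (by norm_num) (by norm_num; exact e1) h11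
  by_cases h7 : 7 ∣ d
  · exact ⟨7, by norm_num, h7, Or.inr (Or.inr (Or.inl ⟨rfl, e2⟩))⟩
  have e3 : d ∣ 15 := key 7 15 (by norm_num) (by norm_num; exact e2) h7
  by_cases h5 : 5 ∣ d
  · exact ⟨5, by norm_num, h5, Or.inr (Or.inr (Or.inr (Or.inl ⟨rfl, e3⟩)))⟩
  have e4 : d ∣ 3 := key 5 3 (by norm_num) (by norm_num; exact e3) h5
  refine ⟨3, by norm_num, ?_, Or.inr (Or.inr (Or.inr (Or.inr ⟨rfl, e4⟩)))⟩
  rcases (Nat.dvd_prime Nat.prime_three).1 e4 with e | e
  · exact absurd e h1
  · rw [e]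

theorem small_index {i n : ℕ} (hn : n = 105 ∨ n = 3 ∨ n = 1) (hd : i ∣ n) {p : ℕ}
    (hp : (n = 105 ∧ p = 11) ∨ (n = 3 ∧ p = 5) ∨ (n = 1 ∧ p = 3)) (hi : i % p = 1) : i = 1 := by
  have hle := Nat.le_of_dvd (by omega) hd
  have hi0 : i ≠ 0 := fun e => by subst e; simp at hi
  rcases hp with ⟨rfl, rfl⟩ | ⟨rfl, rfl⟩ | ⟨rfl, rfl⟩ <;> interval_cases i <;> omega

theorem index_fifteen {i : ℕ} (hd : i ∣ 15) (hi : i % 7 = 1) : i = 1 ∨ i = 15 := by
  have hle := Nat.le_of_dvd (by omega) hd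
  interval_cases i <;> omega

variable {G : Type u} [Group G] [Finite G] [IsSimpleGroup G] (h : Nat.card G = 175560)
include h

theorem cen_ne_top {t : G} (ht1 : t ≠ 1) : Cen t ≠ ⊤ := fun e => ht1 (by
  have hc : t ∈ Subgroup.center G := Subgroup.mem_center_iff.2 fun g =>
    Subgroup.mem_centralizer_singleton_iff.1 (show g ∈ Cen t by rw [e]; trivial)
  rwa [center_bot h, Subgroup.mem_bot] at hc)

/-- The order of a centralizer of an involution. -/
theorem card_cen (S : Sylow 2 G) {t : G} (ht : t ∈ (S : Subgroup G)) :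
    ∃ m : ℕ, Nat.card (Cen t) = 8 * m ∧ m ∣ 21945 := by
  obtain ⟨m, hm⟩ := sylow_card h S ▸ Subgroup.card_dvd_of_le (sylow_le_cen h S ht)
  exact ⟨m, hm, Nat.dvd_of_mul_dvd_mul_left (by norm_num : 0 < 8)
    (show 8 * m ∣ 8 * 21945 from (hm ▸ h ▸ Subgroup.card_subgroup_dvd_card (Cen t) : 8 * m ∣ 175560))⟩

/-- A subgroup of order 19 is normal in every centralizer of an involution containing it. -/
theorem nor_nineteen {t : G} (ht1 : t ≠ 1) {x : Cen t} (hx : orderOf x = 19) : Nor x = ⊤ := by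
  haveI : Fact (Nat.Prime 19) := ⟨by norm_num⟩
  have hd : Nat.card (Cen t) ∣ 175560 := h ▸ Subgroup.card_subgroup_dvd_card _
  have hlt : Nat.card (Cen t) < 175560 := by
    rcases Nat.lt_or_ge (Nat.card (Cen t)) 175560 with e | e
    · exact e
    · exact absurd ((Cen t).eq_top_of_le_card (h.le.trans e)) (cen_ne_top h ht1)
  obtain ⟨P, hP⟩ := (IsPGroup.of_card (n := 1) (by rw [Nat.card_zpowers, hx, pow_one]) :
    IsPGroup 19 (Subgroup.zpowers x)).exists_le_sylow
  have hPn := SmallOrd.sylow_nineteen_normal _ (Cen t) rfl hd hlt P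
  have heq : Subgroup.zpowers x = (P : Subgroup (Cen t)) := by
    refine Subgroup.eq_of_le_of_card_ge hP ?_
    rw [P.card_eq_multiplicity, Nat.card_zpowers, hx]
    refine le_trans (Nat.pow_le_pow_right (by norm_num) ?_) (le_of_eq (pow_one 19))
    by_contra hlt2
    push Not at hlt2
    have h2 := ((Fact.out : Nat.Prime 19).pow_dvd_iff_le_factorization Nat.card_pos.ne').2 hlt2
    exact nine_not h 19 (by norm_num) (by norm_num) ((by simpa [pow_succ] using h2 : 19 * 19 ∣ Nat.card (Cen t)).trans hd)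
  rw [Nor, heq]
  exact Subgroup.normalizer_eq_top_iff.2 hPn

/-- The normalizer of a Sylow 2-subgroup has order 168. -/
theorem card_NS_eq (S : Sylow 2 G) : Nat.card (NS S) = 168 := by
  classical
  refine (card_NS h S).resolve_left fun h56 => not_semiregular h S fun t ht ht1 => ?_
  haveI : Fact (Nat.Prime 2) := ⟨Nat.prime_two⟩
  set C := Cen t with hCdef
  have hSC := sylow_le_cen h S ht
  obtain ⟨m, hm, hmd⟩ := card_cen h S ht
  by_cases hm1 : m = 1
  · have : (S : Subgroup G) = C :=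
      Subgroup.eq_of_le_of_card_ge hSC (by rw [sylow_card h S, hm, hm1])
    rw [← this]
    exact Subgroup.le_normalizer
  exfalso
  have hst : NS S ⊓ C = (S : Subgroup G) := by
    refine (Subgroup.eq_of_le_of_card_ge (le_inf Subgroup.le_normalizer hSC) ?_).symm
    have := card_stabilizer h S ht ht1
    rw [h56] at this
    rw [sylow_card h S]
    show Nat.card ↥(NS S ⊓ Cen t) ≤ 8
    omega
  set T : Sylow 2 C := S.subtype hSC with hT
  have hTmem : ∀ c : C, c ∈ (T : Subgroup C) ↔ (c : G) ∈ (S : Subgroup G) := fun c => by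
    rw [hT, Sylow.coe_subtype, Subgroup.mem_subgroupOf]
  have hTN : ∀ c : C, c ∈ Subgroup.normalizer ((T : Subgroup C) : Set C) → (c : G) ∈ (S : Subgroup G) := by
    intro c hc
    rw [← hst]
    refine ⟨Subgroup.mem_normalizer_iff.2 fun w => ⟨fun hw => ?_, fun hw => ?_⟩, c.2⟩
    · exact (hTmem _).1 ((Subgroup.mem_normalizer_iff.1 hc ⟨w, hSC hw⟩).1 ((hTmem _).2 hw))
    · have hwC : w ∈ C := by
        have := C.mul_mem (C.mul_mem (C.inv_mem c.2) (hSC hw)) c.2
        simpa [mul_assoc] using this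
      exact (hTmem _).1 ((Subgroup.mem_normalizer_iff.1 hc ⟨w, hwC⟩).2 ((hTmem _).2 hw))
  have hQ : Subgroup.normalizer ((T : Subgroup C) : Set C) ≤
      Subgroup.centralizer ((T : Subgroup C) : Set C) := fun c hc =>
    Subgroup.mem_centralizer_iff.2 fun d hd => Subtype.ext (sylow_comm h S ((hTmem d).1 hd) (hTN c hc))
  set M := (MonoidHom.transferSylow T hQ).ker with hM
  have hT8 : Nat.card (T : Subgroup C) = 8 := by
    rw [hT, Sylow.coe_subtype, Nat.card_congr (Subgroup.subgroupOfEquivOfLe hSC).toEquiv, sylow_card h S]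
  have hidx : M.index = 8 := by
    rw [(MonoidHom.ker_transferSylow_isComplement' T hQ).symm.index_eq_card, hT8]
  have hMc : Nat.card M = m := by
    have h1 := M.card_mul_index
    rw [hidx, hm] at h1
    omega
  obtain ⟨p, hp, hpm, hcase⟩ := dvd_list hmd hm1
  haveI := Fact.mk hp
  have hp2 : p ≠ 2 := by rintro rfl; omega
  have hCd : Nat.card C ∣ 175560 := h ▸ Subgroup.card_subgroup_dvd_card _
  have hexC : ¬ p * p ∣ Nat.card C := fun hd => nine_not h p hp hp2 (hd.trans hCd)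
  obtain ⟨P⟩ : Nonempty (Sylow p M) := inferInstance
  have hPc : Nat.card (P : Subgroup M) = p := by
    rw [P.card_eq_multiplicity]
    have h1 : 1 ≤ (Nat.card M).factorization p :=
      (hp.dvd_iff_one_le_factorization Nat.card_pos.ne').1 (hMc ▸ hpm)
    have h2 : (Nat.card M).factorization p < 2 := by
      by_contra hge
      push Not at hge
      exact hexC ((pow_two p ▸ (hp.pow_dvd_iff_le_factorization Nat.card_pos.ne').2 hge :
        p * p ∣ Nat.card M).trans (Subgroup.card_subgroup_dvd_card M))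
    rw [show (Nat.card M).factorization p = 1 by omega, pow_one]
  obtain ⟨z, hz⟩ := exists_prime_orderOf_dvd_card' (G := (P : Subgroup M)) p
    (by rw [show Nat.card (P : Subgroup M) = p from hPc])
  set x : C := ((z : M) : C) with hxdef
  have hx : orderOf x = p := by rw [hxdef, Subgroup.orderOf_coe, Subgroup.orderOf_coe, hz]
  have hxP : Subgroup.zpowers x = (P : Subgroup M).map M.subtype := by
    refine Subgroup.eq_of_le_of_card_ge (Subgroup.zpowers_le.2 ⟨(z : M), z.2, rfl⟩) ?_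
    rw [Subgroup.card_map_of_injective M.subtype_injective, Nat.card_zpowers, hx]
    exact le_of_eq hPc
  have hfr : Nor x ⊔ M = ⊤ := by
    rw [Nor, hxP]
    exact Sylow.normalizer_sup_eq_top P
  have h8N : 8 ∣ Nat.card (Nor x) := by
    have h2 := M.relIndex_dvd_card (Nor x)
    rwa [← Subgroup.relIndex_sup_right, hfr, Subgroup.relIndex_top_right, hidx] at h2
  obtain ⟨hi1, hi2⟩ := nor_count hp hx hexC
  have hpN : 8 * p ∣ Nat.card (Nor x) :=
    Nat.Coprime.mul_dvd_of_dvd_of_dvd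
      (by rw [show 8 = 2 ^ 3 by norm_num]; exact Nat.Coprime.pow_left _ ((Nat.coprime_primes Nat.prime_two hp).2 hp2.symm))
      h8N (hx ▸ Subgroup.orderOf_dvd_natCard _ (Subgroup.le_normalizer (Subgroup.mem_zpowers x)))
  obtain ⟨r, hr⟩ := hpN
  have hrm : p * (r * (Nor x).index) = m := by
    rw [hr, hm] at hi2
    refine Nat.eq_of_mul_eq_mul_left (show 0 < 8 by norm_num) ?_
    rw [← hi2]; ring
  have hidx1 : (Nor x).index = 1 := by
    have hdd : ∀ n, m ∣ p * n → (Nor x).index ∣ n := fun n hn =>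
      (Dvd.intro_left r rfl).trans (Nat.dvd_of_mul_dvd_mul_left hp.pos (hrm.symm ▸ hn))
    rcases hcase with rfl | ⟨rfl, hd⟩ | ⟨rfl, hd⟩ | ⟨rfl, hd⟩ | ⟨rfl, hd⟩
    · rw [Subgroup.index_eq_one]
      exact nor_nineteen h ht1 hx
    · exact small_index (Or.inl rfl) (hdd 105 hd) (Or.inl ⟨rfl, rfl⟩) hi1
    · rcases index_fifteen (hdd 15 hd) hi1 with e | e
      · exact e
      · exfalso
        have hj : r * 15 ∣ 15 := by
          refine Nat.dvd_of_mul_dvd_mul_left (show 0 < 7 by norm_num) ?_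
          have hd' := hd
          rw [← hrm, e] at hd'
          exact hd'
        have hr1 : r = 1 := by
          have := Nat.le_of_dvd (by norm_num) hj
          rcases Nat.eq_zero_or_pos r with e0 | e0
          · rw [e0] at hr; exact absurd hr Nat.card_pos.ne'
          · omega
        rw [hr1] at hr
        refine (seven_facts h (x := (x : G)) (by rw [Subgroup.orderOf_coe, hx])).2 ?_
        exact (dvd_of_eq (by rw [hr])).trans (nor_sub x)
    · exact small_index (Or.inr (Or.inl rfl)) (hdd 3 hd) (Or.inr (Or.inl ⟨rfl, rfl⟩)) hi1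
    · exact small_index (Or.inr (Or.inr rfl)) (hdd 1 hd) (Or.inr (Or.inr ⟨rfl, rfl⟩)) hi1
  have htop : Nor x = ⊤ := Subgroup.index_eq_one.1 hidx1
  -- the subgroup of order `p` is unique
  have huniq : ∀ y : C, orderOf y = p → y ∈ Subgroup.zpowers x := by
    intro y hy
    have hc := commute_of_normalize hp hp (fun hd => by
      have := Nat.le_of_dvd (by have := hp.two_le; omega) hd
      omega) hx hy (htop ▸ Subgroup.mem_top y)
    exact mem_zpowers_of_commute hp hexC (by rw [← hy]; exact pow_orderOf_eq_one y)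
      (by rw [← hx]; exact pow_orderOf_eq_one x) (fun e => by rw [e, orderOf_one] at hx; exact hp.ne_one hx.symm)
      hc.eq.symm
  set X : G := (x : G) with hXdef
  have hX : orderOf X = p := by rw [hXdef, Subgroup.orderOf_coe, hx]
  have hSnor : ∀ s ∈ (S : Subgroup G), ∃ i : ℤ, s * X * s⁻¹ = X ^ i := by
    intro s hs
    obtain ⟨i, hi⟩ := exists_zpow_conj (x := x) (s := ⟨s, hSC hs⟩) (htop ▸ Subgroup.mem_top _)
    exact ⟨i, by simpa using congrArg (Subtype.val : C → G) hi⟩
  -- conjugation by elements of `S` either fixes or inverts `X`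
  have hpm1 : ∀ s ∈ (S : Subgroup G), s * X * s⁻¹ = X ∨ s * X * s⁻¹ = X⁻¹ := by
    intro s hs
    obtain ⟨i, hi⟩ := hSnor s hs
    have e1 : X ^ (i * i) = X ^ (1 : ℤ) := by
      rw [zpow_one, zpow_mul, ← hi, conj_zpow, ← hi]
      calc s * (s * X * s⁻¹) * s⁻¹ = (s * s) * X * (s * s)⁻¹ := by group
        _ = X := by rw [sylow_sq h S hs]; group
    rw [zpow_eq_zpow_iff_modEq, hX, Int.modEq_iff_dvd] at e1
    have e2 : (p : ℤ) ∣ (1 - i) * (1 + i) := by rwa [show (1 - i) * (1 + i) = 1 - i * i by ring]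
    rcases (Nat.prime_iff_prime_int.1 hp).dvd_mul.1 e2 with e | e
    · left
      have : X ^ i = X ^ (1 : ℤ) := by rw [zpow_eq_zpow_iff_modEq, hX, Int.modEq_iff_dvd]; exact e
      rw [hi, this, zpow_one]
    · right
      have : X ^ i = X ^ (-1 : ℤ) := by
        rw [zpow_eq_zpow_iff_modEq, hX, Int.modEq_iff_dvd]
        rw [show (-1 : ℤ) - i = -(1 + i) by ring]
        exact dvd_neg.2 e
      rw [hi, this, zpow_neg_one]
  set K := (S : Subgroup G) ⊓ Cen X with hK
  have hX1 : X ≠ 1 := fun e => by rw [e, orderOf_one] at hX; exact hp.ne_one hX.symm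
  have hXC : X * t = t * X := Subgroup.mem_centralizer_singleton_iff.1 x.2
  have htK : t ∈ K := ⟨ht, Subgroup.mem_centralizer_singleton_iff.2 hXC.symm⟩
  have hKmem : ∀ s ∈ (S : Subgroup G), (s ∈ K ↔ s * X * s⁻¹ = X) := fun s hs =>
    ⟨fun hk => mul_inv_eq_iff_eq_mul.2 (Subgroup.mem_centralizer_singleton_iff.1 hk.2),
      fun hk => ⟨hs, Subgroup.mem_centralizer_singleton_iff.2 (mul_inv_eq_iff_eq_mul.1 hk)⟩⟩
  obtain ⟨a, haS, haK⟩ : ∃ a ∈ (S : Subgroup G), a ∉ K := by
    by_contra hno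
    push Not at hno
    have hXS : X ∈ Subgroup.centralizer ((S : Subgroup G) : Set G) := Subgroup.mem_centralizer_iff.2
      fun s hs => Subgroup.mem_centralizer_singleton_iff.1 (hno s hs).2
    rw [cent_sylow h S] at hXS
    exact hp2 (hX ▸ sylow_inv h S hXS hX1)
  obtain ⟨w, hwK, hw1, hwt⟩ : ∃ w ∈ K, w ≠ 1 ∧ w ≠ t := by
    -- two outside elements multiply into `K`
    have hmul : ∀ b ∈ (S : Subgroup G), b ∉ K → a * b ∈ K := by
      intro b hb hbK
      rw [hKmem b hb] at hbK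
      rw [hKmem a haS] at haK
      rw [hKmem _ (mul_mem haS hb)]
      have ea := (hpm1 a haS).resolve_left haK
      have eb := (hpm1 b hb).resolve_left hbK
      calc a * b * X * (a * b)⁻¹ = a * (b * X * b⁻¹) * a⁻¹ := by group
        _ = (a * X * a⁻¹)⁻¹ := by rw [eb]; group
        _ = X := by rw [ea, inv_inv]
    by_contra hno
    push Not at hno
    have hsub : ∀ s ∈ (S : Subgroup G), s ∈ ({1, t, a, a * t} : Set G) := by
      intro s hs
      simp only [Set.mem_insert_iff, Set.mem_singleton_iff]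
      by_cases hsK : s ∈ K
      · rcases em (s = 1) with e | e
        · exact Or.inl e
        · exact Or.inr (Or.inl (hno s hsK e))
      · have h2 := hmul s hs hsK
        rcases em (a * s = 1) with e | e
        · exact Or.inr (Or.inr (Or.inl (mul_left_cancel (e.trans (sylow_sq h S haS).symm))))
        · refine Or.inr (Or.inr (Or.inr ?_))
          rw [← hno _ h2 e, ← mul_assoc, sylow_sq h S haS, one_mul]
    have h3 := Set.ncard_le_ncard (s := ((S : Subgroup G) : Set G)) hsub (Set.toFinite _)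
    rw [← Nat.card_coe_set_eq] at h3
    have h4 : ({1, t, a, a * t} : Set G).ncard ≤ 4 := by
      refine le_trans (Set.ncard_insert_le _ _) (Nat.succ_le_succ ?_)
      refine le_trans (Set.ncard_insert_le _ _) (Nat.succ_le_succ ?_)
      refine le_trans (Set.ncard_insert_le _ _) (Nat.succ_le_succ ?_)
      exact le_of_eq (Set.ncard_singleton _)
    have h5 : Nat.card ↥((S : Subgroup G) : Set G) = 8 := sylow_card h S
    omega
  obtain ⟨g, hg, hgt⟩ := (transitive h S).1 t w ht hwK.1 ht1 hw1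
  have hwX : w * X = X * w := Subgroup.mem_centralizer_singleton_iff.1 hwK.2
  have hgX : g ∈ Nor X := by
    have hy : g⁻¹ * X * g ∈ Cen t := by
      refine Subgroup.mem_centralizer_singleton_iff.2 ?_
      calc g⁻¹ * X * g * t = g⁻¹ * (X * (g * t * g⁻¹)) * g := by group
        _ = g⁻¹ * ((g * t * g⁻¹) * X) * g := by rw [hgt, hwX]
        _ = t * (g⁻¹ * X * g) := by group
    have hyo : orderOf (⟨g⁻¹ * X * g, hy⟩ : C) = p := by
      rw [Subgroup.orderOf_mk]
      have : g⁻¹ * X * g = MulAut.conj g⁻¹ X := by simp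
      rw [this, MulEquiv.orderOf_eq, hX]
    obtain ⟨i, hi⟩ := Subgroup.mem_zpowers_iff.1 (huniq _ hyo)
    have hi' : X ^ i = g⁻¹ * X * g := by simpa using congrArg (Subtype.val : C → G) hi
    have hmem : g⁻¹ * X * g ∈ Subgroup.zpowers X := hi' ▸ zpow_mem (Subgroup.mem_zpowers X) i
    have hle : (Subgroup.zpowers X).map (MulAut.conj g⁻¹).toMonoidHom = Subgroup.zpowers X := by
      rw [MonoidHom.map_zpowers]
      refine Subgroup.eq_of_le_of_card_ge (Subgroup.zpowers_le.2 (by simpa using hmem)) ?_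
      rw [Nat.card_zpowers, Nat.card_zpowers]
      exact le_of_eq (MulEquiv.orderOf_eq _ _).symm
    refine inv_mem_iff.1 (Subgroup.mem_normalizer_iff.2 fun v => ?_)
    conv_rhs => rw [← hle]
    constructor
    · intro hv
      exact ⟨v, hv, by simp⟩
    · rintro ⟨u', hu', e⟩
      simp only [MulEquiv.coe_toMonoidHom, MulAut.conj_apply, mul_left_inj, mul_right_inj] at e
      exact e ▸ hu'
  set H := NS S ⊓ Nor X with hH
  have hSH : (S : Subgroup G) ≤ H := by
    refine le_inf Subgroup.le_normalizer fun s hs => Subgroup.mem_normalizer_iff.2 fun v => ?_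
    have hs' : (⟨s, hSC hs⟩ : C) ∈ Nor x := htop ▸ Subgroup.mem_top _
    have hiff : ∀ v : G, v ∈ Subgroup.zpowers X ↔ ∃ v' ∈ Subgroup.zpowers x, ((v' : C) : G) = v := by
      intro v
      constructor
      · intro hv
        obtain ⟨i, rfl⟩ := Subgroup.mem_zpowers_iff.1 hv
        exact ⟨x ^ i, zpow_mem (Subgroup.mem_zpowers x) i, by simp [hXdef]⟩
      · rintro ⟨v', hv', rfl⟩
        obtain ⟨i, rfl⟩ := Subgroup.mem_zpowers_iff.1 hv'
        exact Subgroup.mem_zpowers_iff.2 ⟨i, by simp [hXdef]⟩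
    constructor
    · intro hv
      obtain ⟨v', hv', rfl⟩ := (hiff v).1 hv
      exact (hiff _).2 ⟨_, (Subgroup.mem_normalizer_iff.1 hs' v').1 hv', by simp⟩
    · intro hv
      obtain ⟨v', hv', e⟩ := (hiff _).1 hv
      refine (hiff v).2 ⟨⟨s, hSC hs⟩⁻¹ * v' * ⟨s, hSC hs⟩, (Subgroup.mem_normalizer_iff.1 hs' _).2
        (by simpa [mul_assoc] using hv'), ?_⟩
      simp only [Subgroup.coe_mul, Subgroup.coe_inv, e]
      simp [mul_assoc]
  have hHK : ∀ n ∈ H, ∀ k ∈ K, n * k * n⁻¹ ∈ K := by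
    intro n hn k hk
    refine ⟨(Subgroup.mem_normalizer_iff.1 hn.1 k).1 hk.1, ?_⟩
    obtain ⟨i, hi⟩ := exists_zpow_conj (inv_mem hn.2)
    rw [inv_inv] at hi
    refine Subgroup.mem_centralizer_singleton_iff.2 ?_
    calc n * k * n⁻¹ * X = n * (k * (n⁻¹ * X * n)) * n⁻¹ := by group
      _ = n * ((n⁻¹ * X * n) * k) * n⁻¹ := by
        have hkc : Commute k X := Subgroup.mem_centralizer_singleton_iff.1 hk.2
        rw [hi, (hkc.zpow_right i).eq]
      _ = _ := by group
  have hHd : Nat.card H ∣ 56 := h56 ▸ Subgroup.card_dvd_of_le inf_le_left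
  obtain ⟨j, hj⟩ := sylow_card h S ▸ Subgroup.card_dvd_of_le hSH
  rw [hj, show (56 : ℕ) = 8 * 7 by norm_num] at hHd
  rcases (Nat.dvd_prime (by norm_num : Nat.Prime 7)).1 (Nat.dvd_of_mul_dvd_mul_left (by norm_num) hHd) with
    rfl | rfl
  · -- `H = S`
    have he : (S : Subgroup G) = H :=
      Subgroup.eq_of_le_of_card_ge hSH (by rw [hj, sylow_card h S])
    have hgS : g ∈ (S : Subgroup G) := he ▸ ⟨hg, hgX⟩
    exact hwt (by rw [← hgt, sylow_comm h S hgS ht, mul_inv_cancel_right])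
  · have he : H = NS S := Subgroup.eq_of_le_of_card_ge inf_le_left (by rw [hj, h56])
    have ha1 : a ≠ 1 := fun e => haK (e ▸ K.one_mem)
    obtain ⟨n, hn, hna⟩ := (transitive h S).1 t a ht haS ht1 ha1
    exact haK (hna ▸ hHK n (he ▸ hn) t htK)

end Cfsg.Agent.J1U.Ord
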