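import Cfsg.Agent.Lib.Invol.J1.OrdFacts
import Cfsg.Agent.Lib.Invol.J1.OrdArith
import Cfsg.Agent.Lib.Invol.SmallCent.Local
import Cfsg.Agent.Lib.Invol.BrauerSuzuki
import Cfsg.Agent.Lib.Block.QuaternionSylow
import Cfsg.Agent.Lib.Block.FewSylow.Basic
import Cfsg.Agent.Lib.Block.Dihedral.OrderFormula
import Cfsg.Agent.Lib.Fus.OrderEight
import Cfsg.Agent.Lib.Transfer.Abelian
import Cfsg.Agent.Lib.Block.ElemEight.Local

/-! The Sylow 2-subgroups of a simple group of order 175560. -/

set_option autoImplicit false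
set_option linter.unusedSectionVars false
set_option linter.style.haveILetI false

namespace Cfsg.Agent.J1U.Ord

open Cfsg Cfsg.Agent.Block Cfsg.Agent.Char Cfsg.Agent.Block.Dih

universe u

variable {G : Type u} [Group G] [Finite G]

/-- A 2-element centralized by a Sylow subgroup lies in it. -/
theorem mem_sylow_of_comm (P : Sylow 2 G) {x : G} (hx : orderOf x = 2)
    (hc : (P : Subgroup G) ≤ Cen x) : x ∈ (P : Subgroup G) := by
  haveI : Fact (Nat.Prime 2) := ⟨Nat.prime_two⟩
  have hz : IsPGroup 2 (Subgroup.zpowers x) :=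
    IsPGroup.of_card (n := 1) (by rw [Nat.card_zpowers, hx, pow_one])
  have hle : (P : Subgroup G) ≤ Subgroup.normalizer ((Subgroup.zpowers x : Subgroup G) : Set G) :=
    hc.trans (cen_le_nor x)
  have hsup := IsPGroup.to_sup_of_normal_left' hz P.isPGroup' hle
  have e := P.3 hsup le_sup_right
  exact e ▸ (le_sup_left : _ ≤ Subgroup.zpowers x ⊔ (P : Subgroup G)) (Subgroup.mem_zpowers x)

theorem odd_dvd {n : ℕ} (h2 : ¬ 2 ∣ n) (hd : 8 * n ∣ 175560) : n ∣ 21945 :=
  Nat.dvd_of_mul_dvd_mul_left (by norm_num : 0 < 8) (by norm_num; exact hd)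

theorem d4_center : ∀ a b : DihedralGroup 4, (∀ x, x * a = a * x) → (∀ x, x * b = b * x) →
    a ≠ 1 → b ≠ 1 → a = b := by decide

theorem d4_fix : ∀ a : DihedralGroup 4, a * a = 1 → a ≠ 1 → (¬ ∀ x, x * a = a * x) →
    (Finset.univ.filter fun x => x * a = a * x).card = 4 := by decide

variable [IsSimpleGroup G] (h : Nat.card G = 175560)
include h

theorem sylow_card (P : Sylow 2 G) : Nat.card (P : Subgroup G) = 8 := by
  haveI : Fact (Nat.Prime 2) := ⟨Nat.prime_two⟩
  rw [Sylow.card_eq_multiplicity, h, show (175560 : ℕ) = 2 ^ 3 * 21945 by norm_num,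
    Nat.factorization_mul (by norm_num) (by norm_num), Finsupp.add_apply,
    Nat.Prime.factorization_pow Nat.prime_two, Finsupp.single_eq_same,
    Nat.factorization_eq_zero_of_not_dvd (by norm_num)]
  norm_num

/-- The normalizer of an abelian Sylow 2-subgroup fixes none of its non-trivial elements. -/
theorem no_fixed (P : Sylow 2 G) (hab : IsMulCommutative (P : Subgroup G)) {x : G}
    (hx : x ∈ (P : Subgroup G))
    (hfix : ∀ n ∈ Subgroup.normalizer ((P : Subgroup G) : Set G), n * x = x * n) : x = 1 := by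
  haveI : Fact (Nat.Prime 2) := ⟨Nat.prime_two⟩
  haveI := hab
  set N := Subgroup.normalizer ((P : Subgroup G) : Set G) with hN
  have hSN : (P : Subgroup G) ≤ N := Subgroup.le_normalizer
  have hab' : IsMulCommutative ((P : Subgroup G).subgroupOf N) :=
    ⟨⟨fun a b => by
      have h := congrArg Subtype.val (hab.is_comm.comm
        (a := (⟨((a : N) : G), a.2⟩ : (P : Subgroup G))) (b := ⟨((b : N) : G), b.2⟩))
      exact Subtype.ext (Subtype.ext h)⟩⟩
  have hhall : Nat.Coprime (Nat.card ((P : Subgroup G).subgroupOf N))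
      ((P : Subgroup G).subgroupOf N).index := by
    rw [Nat.card_congr (Subgroup.subgroupOfEquivOfLe hSN).toEquiv, sylow_card h P,
      show 8 = 2 ^ 3 by norm_num]
    refine Nat.Coprime.pow_left _ ((Nat.prime_two.coprime_iff_not_dvd).2 fun hd => ?_)
    exact P.not_dvd_index (hd.trans (Subgroup.relIndex_dvd_index_of_le hSN))
  have hh := Transfer.hall_inf_commutator_inf_center _ hab' hhall
  have hmem : (⟨x, hSN hx⟩ : N) ∈
      (P : Subgroup G).subgroupOf N ⊓ commutator N ⊓ Subgroup.center N := by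
    refine ⟨⟨Subgroup.mem_subgroupOf.2 hx, ?_⟩, Subgroup.mem_center_iff.2 fun n =>
      Subtype.ext (hfix n n.2)⟩
    have h1 : x ∈ ⁅(P : Subgroup G), N⁆ :=
      (Transfer.abelian_sylow_inf_commutator P hab).1
        ⟨by rw [ElemEight.commutator_top (not_comm h)]; trivial, hx⟩
    have h2 : x ∈ (commutator N).map N.subtype := by
      rw [Subgroup.map_subtype_commutator]
      exact Subgroup.commutator_mono hSN le_rfl h1
    obtain ⟨m, hm, hme⟩ := h2
    exact (show m = ⟨x, hSN hx⟩ from Subtype.ext hme) ▸ hm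
  rw [hh, Subgroup.mem_bot] at hmem
  exact congrArg (Subtype.val : N → G) hmem

/-- An abelian Sylow 2-subgroup is elementary. -/
theorem abelian_sq (P : Sylow 2 G) (hab : IsMulCommutative (P : Subgroup G)) :
    ∀ x ∈ (P : Subgroup G), x ^ 2 = 1 := by
  classical
  haveI : Fact (Nat.Prime 2) := ⟨Nat.prime_two⟩
  haveI := hab
  intro y hy
  by_contra hne
  letI : CommGroup (P : Subgroup G) :=
    { (inferInstance : Group (P : Subgroup G)) with mul_comm := fun a b => hab.is_comm.comm a b }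
  let sq : (P : Subgroup G) →* (P : Subgroup G) := powMonoidHom 2
  have hmul : Nat.card sq.ker * Nat.card sq.range = 8 := by
    rw [← Subgroup.index_ker, Subgroup.card_mul_index, sylow_card h P]
  have hrange : 1 < Nat.card sq.range := by
    rw [Subgroup.one_lt_card_iff_ne_bot]
    intro e
    have : sq ⟨y, hy⟩ ∈ (⊥ : Subgroup _) := e ▸ ⟨_, rfl⟩
    exact hne (congrArg Subtype.val (Subgroup.mem_bot.1 this))
  have hker : 1 < Nat.card sq.ker := by
    obtain ⟨z, hz⟩ := exists_prime_orderOf_dvd_card' (G := (P : Subgroup G)) 2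
      (by rw [sylow_card h P]; norm_num)
    rw [Subgroup.one_lt_card_iff_ne_bot]
    intro e
    have hz2 : z ∈ sq.ker := by
      show z ^ 2 = 1
      have h2 := pow_orderOf_eq_one z
      rwa [hz] at h2
    rw [e, Subgroup.mem_bot] at hz2
    rw [hz2, orderOf_one] at hz
    norm_num at hz
  -- a characteristic subgroup of order two
  obtain ⟨K, hK, hchar⟩ : ∃ K : Subgroup (P : Subgroup G), Nat.card K = 2 ∧
      ∀ (φ : MulAut (P : Subgroup G)) (x : (P : Subgroup G)), x ∈ K → φ x ∈ K := by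
    have hd : Nat.card sq.ker ∣ 2 ^ 3 := Dvd.intro _ hmul
    obtain ⟨i, hi, hi'⟩ := (Nat.dvd_prime_pow Nat.prime_two).1 hd
    rw [hi'] at hmul hker
    interval_cases i
    · norm_num at hker
    · refine ⟨sq.ker, by rw [hi']; norm_num, fun φ x hx => ?_⟩
      show (φ x) ^ 2 = 1
      rw [← map_pow, show x ^ 2 = 1 from hx, map_one]
    · refine ⟨sq.range, by omega, fun φ x hx => ?_⟩
      obtain ⟨w, rfl⟩ := hx
      exact ⟨φ w, (map_pow φ w 2).symm⟩
    · exfalso; omega
  obtain ⟨z, hz⟩ := exists_prime_orderOf_dvd_card' (G := K) 2 (by rw [hK])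
  have hz1 : ((z : (P : Subgroup G)) : G) ≠ 1 := fun e => by
    have : z = 1 := Subtype.ext (Subtype.ext e)
    rw [this, orderOf_one] at hz
    norm_num at hz
  refine hz1 (no_fixed h P hab (z : (P : Subgroup G)).2 fun n hn => ?_)
  have h1 := hchar ((P : Subgroup G).normalizerMonoidHom ⟨n, hn⟩) _ z.2
  obtain ⟨w, hwne, huniq⟩ := Nat.card_eq_two_iff' (1 : K) |>.1 hK
  have e1 : (⟨_, h1⟩ : K) = z := by
    have hz' : z ≠ 1 := fun e => hz1 (by rw [e]; rfl)
    have hn' : (⟨_, h1⟩ : K) ≠ 1 := fun e => hz' (Subtype.ext (by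
      have e' := congrArg Subtype.val e
      simpa using e'))
    rw [huniq _ hn', huniq _ hz']
  have e2 : n * ((z : (P : Subgroup G)) : G) * n⁻¹ = ((z : (P : Subgroup G)) : G) :=
    congrArg (fun w : K => ((w : (P : Subgroup G)) : G)) e1
  exact mul_inv_eq_iff_eq_mul.1 e2

theorem not_quaternion (P : Sylow 2 G) (e : (P : Subgroup G) ≃* QuaternionGroup 2) : False := by
  haveI : Fact (Nat.Prime 2) := ⟨Nat.prime_two⟩
  have hR := Q8Sylow.twoRankOne (q8Sylow_of_equiv P e)
  obtain ⟨z, hz⟩ := exists_prime_orderOf_dvd_card' (G := G) 2 (by rw [h]; norm_num)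
  obtain ⟨N, hN, hodd, hmem⟩ := BS.exists_odd_normal hR hz
  rcases hN.eq_bot_or_eq_top with e' | e'
  · have hzc : z ∈ Subgroup.center G := Subgroup.mem_center_iff.2 fun g => by
      have h1 := hmem g
      rw [e', Subgroup.mem_bot, mul_inv_eq_one] at h1
      exact (mul_inv_eq_iff_eq_mul.1 h1).symm
    rw [center_bot h, Subgroup.mem_bot] at hzc
    rw [hzc, orderOf_one] at hz
    norm_num at hz
  · rw [e', Subgroup.card_top, h] at hodd
    exact absurd hodd (by decide)

theorem not_dihedral (P : Sylow 2 G) (e : (P : Subgroup G) ≃* DihedralGroup 4) : False := by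
  classical
  haveI : Fact (Nat.Prime 2) := ⟨Nat.prime_two⟩
  set σ : G := ((e.symm (DihedralGroup.r 1) : (P : Subgroup G)) : G) with hσdef
  have hσo : orderOf σ = 4 := by
    rw [hσdef, Subgroup.orderOf_coe, MulEquiv.orderOf_eq, DihedralGroup.orderOf_r_one]
  have d : Data P σ 4 := data_of_equiv P (n := 3) le_rfl e (e.symm (DihedralGroup.r 1)).2
    (by rw [hσo]; norm_num)
  obtain ⟨τ, hτ, hττ, hτσ⟩ := d.exists_refl
  have hne : σ ≠ σ⁻¹ := fun e' => by
    have h2 : σ ^ 2 = 1 := by rw [pow_two]; exact mul_eq_one_iff_eq_inv.2 e'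
    have := orderOf_le_of_pow_eq_one (by norm_num) h2
    omega
  set J := σ ^ (1 + 1) with hJdef
  have hJo : orderOf J = 2 := d.orderOf_half (r := 1) rfl
  have hcomm4 : σ * J = J * σ := (Commute.self_pow σ _).eq
  have hJP : J ∈ (P : Subgroup G) := pow_mem d.mem _
  have hPC : (P : Subgroup G) ≤ Cen J := d.half_central (r := 1) rfl
  have hrefl : ∀ τ' ∈ (P : Subgroup G), τ' * τ' = 1 → τ' * σ * τ'⁻¹ = σ⁻¹ →
      orderOf τ' = 2 ∧ 4 ∣ Nat.card (Subgroup.centralizer ({J, τ'} : Set G)) ∧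
        ¬ 8 ∣ Nat.card (Subgroup.centralizer ({J, τ'} : Set G)) := by
    intro τ' hτ' hsq hinv
    have h1 : τ' ≠ 1 := fun e' => hne (by rw [e', one_mul, inv_one, mul_one] at hinv; exact hinv)
    have ho : orderOf τ' = 2 := orderOf_eq_prime (by rw [pow_two]; exact hsq) h1
    set a := e ⟨τ', hτ'⟩ with ha
    have hnc : ¬ ∀ x, x * a = a * x := fun hall => hne (by
      have h2 := congrArg e.symm (hall (e ⟨σ, d.mem⟩))
      simp only [ha, map_mul, e.symm_apply_apply] at h2
      have h3 : σ * τ' = τ' * σ := congrArg Subtype.val h2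
      rw [← h3, mul_inv_cancel_right] at hinv
      exact hinv)
    have h4 := d4_fix a
      (by rw [ha, ← map_mul, ← map_one e]; exact congrArg e (Subtype.ext hsq))
      (fun e' => h1 (congrArg Subtype.val (e.injective (e'.trans (map_one e).symm)))) hnc
    refine ⟨ho, ?_, ?_⟩
    · set V := (P : Subgroup G) ⊓ Cen τ' with hV
      have hV4 : Nat.card V = 4 := by
        rw [← h4, ← Fintype.card_subtype, ← Nat.card_eq_fintype_card]
        refine Nat.card_congr
          { toFun := fun v => ⟨e ⟨v, (Subgroup.mem_inf.1 v.2).1⟩, ?_⟩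
            invFun := fun x => ⟨(e.symm x.1 : (P : Subgroup G)), Subgroup.mem_inf.2 ⟨(e.symm x.1).2, ?_⟩⟩
            left_inv := fun v => Subtype.ext (by simp)
            right_inv := fun x => Subtype.ext (by simp) }
        · rw [ha, ← map_mul, ← map_mul]
          exact congrArg e (Subtype.ext (Subgroup.mem_centralizer_singleton_iff.1 (Subgroup.mem_inf.1 v.2).2))
        · refine Subgroup.mem_centralizer_singleton_iff.2 ?_
          have h2 := congrArg e.symm x.2
          simp only [ha, map_mul, e.symm_apply_apply] at h2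
          exact congrArg Subtype.val h2
      have hle : V ≤ Subgroup.centralizer ({J, τ'} : Set G) := by
        intro v hv
        rw [Subgroup.mem_centralizer_iff]
        rintro w (rfl | rfl)
        · exact (Subgroup.mem_centralizer_singleton_iff.1 (hPC (Subgroup.mem_inf.1 hv).1)).symm
        · exact (Subgroup.mem_centralizer_singleton_iff.1 (Subgroup.mem_inf.1 hv).2).symm
      exact hV4 ▸ Subgroup.card_dvd_of_le hle
    · intro h8
      set H := Subgroup.centralizer ({J, τ'} : Set G) with hH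
      obtain ⟨Q, hQ⟩ := Sylow.exists_subgroup_card_pow_prime (G := H) 2 (n := 3) (by norm_num; exact h8)
      let P' : Sylow 2 G := Sylow.ofCard (Q.map H.subtype) (by
        rw [← P.card_eq_multiplicity, sylow_card h P, Subgroup.card_map_of_injective H.subtype_injective, hQ]
        norm_num)
      have hP' : (P' : Subgroup G) ≤ H := by
        show Q.map H.subtype ≤ H
        exact Subgroup.map_subtype_le Q
      have hc : ∀ w ∈ ({J, τ'} : Set G), (P' : Subgroup G) ≤ Cen w := fun w hw x hx =>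
        Subgroup.mem_centralizer_singleton_iff.2 ((Subgroup.mem_centralizer_iff.1 (hP' hx)) w hw).symm
      have m1 := mem_sylow_of_comm P' hJo (hc J (by simp))
      have m2 := mem_sylow_of_comm P' ho (hc τ' (by simp))
      let e' := (Sylow.equiv P' P).trans e
      have hz : ∀ (w : G) (hw : w ∈ (P' : Subgroup G)), (P' : Subgroup G) ≤ Cen w →
          ∀ x, x * e' ⟨w, hw⟩ = e' ⟨w, hw⟩ * x := by
        intro w hw hc x
        obtain ⟨y, rfl⟩ := e'.surjective x
        rw [← map_mul, ← map_mul]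
        exact congrArg e' (Subtype.ext (Subgroup.mem_centralizer_singleton_iff.1 (hc y.2)))
      have hJ1 : J ≠ 1 := fun e'' => by rw [e'', orderOf_one] at hJo; norm_num at hJo
      have := d4_center _ _ (hz J m1 (hc J (by simp))) (hz τ' m2 (hc τ' (by simp)))
        (fun e'' => hJ1 (congrArg Subtype.val (e'.injective (e''.trans (map_one e').symm))))
        (fun e'' => h1 (congrArg Subtype.val (e'.injective (e''.trans (map_one e').symm))))
      have hJt : J = τ' := congrArg Subtype.val (e'.injective this)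
      rw [← hJt, ← hcomm4, mul_inv_cancel_right] at hinv
      exact hne hinv
  obtain ⟨hτo, h41, h81⟩ := hrefl τ hτ hττ hτσ
  have hστinv : σ * τ * σ * (σ * τ)⁻¹ = σ⁻¹ := by
    calc σ * τ * σ * (σ * τ)⁻¹ = σ * (τ * σ * τ⁻¹) * σ⁻¹ := by group
      _ = σ⁻¹ := by rw [hτσ]; group
  have hστsq : σ * τ * (σ * τ) = 1 := by
    calc σ * τ * (σ * τ) = σ * (τ * σ * τ⁻¹) * (τ * τ) := by group
      _ = 1 := by rw [hτσ, hττ, mul_one, mul_inv_cancel]
  obtain ⟨hστo, h42, h82⟩ := hrefl (σ * τ) (mul_mem d.mem hτ) hστsq hστinv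
  have hres : Cfsg.pResidual 2 G = ⊤ := by
    refine Invol.SmallCent.pResidual_eq_top fun hc => not_comm h ?_
    obtain ⟨g, hg⟩ := hc.exists_generator
    refine ⟨⟨fun a b => ?_⟩⟩
    obtain ⟨i, rfl⟩ := Subgroup.mem_zpowers_iff.1 (hg a)
    obtain ⟨j, rfl⟩ := Subgroup.mem_zpowers_iff.1 (hg b)
    exact zpow_mul_comm g i j
  have hone : ∀ w : G, orderOf w = 2 → IsConj J w := fun w hw => isConj_iff.2
    (Cfsg.Agent.S0107.result P 2 le_rfl ⟨e⟩ hres J w hJo hw)
  obtain ⟨L, o⟩ := d.exists_odd2 (r := 1) rfl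
  obtain ⟨M, hM⟩ := Cfsg.Agent.Char.exists_isPModular 2 Nat.prime_two
  obtain ⟨a, b, c, η, δ, δ₂, δ₃, hδ, -, -, -, ha1, -, -, -, -, -, -, hset, -, hval, -⟩ :=
    dihedral_block hM d (r := 1) rfl one_pos (by norm_num) (Complex.isPrimitiveRoot_exp 4 (by norm_num))
  have haB : a ∈ principalBlock M G := by rw [hset]; exact Or.inr (Or.inl rfl)
  obtain ⟨hfδ, heq⟩ := order_formula hM d (r := 1) rfl one_pos (by norm_num) hτ hτo hτσ (hone τ hτo)
    (hone _ hστo) haB (fun e' => ha1 (Subtype.ext e')) hδ (fun l hl hl' => (hval l hl hl').1)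
  set f := Cfsg.charDegree (a : G → ℂ) with hfdef
  have hf : f ∣ 175560 := h ▸ charDeg_dvd a
  have hf1 : 1 ≤ f := charDeg_pos a
  have hf2 : f * f < 175560 := by
    cases nonempty_fintype G
    exact h ▸ Few.deg_sq_lt ha1
  set l := Nat.card L with hldef
  have hC : Nat.card (Cen J) = l * 8 := by rw [hldef, o.card, sylow_card h P]
  have hl : l ∣ 21945 := odd_dvd o.odd (by
    rw [mul_comm, ← hC, ← h]; exact Subgroup.card_subgroup_dvd_card _)
  have hpart : ∀ τ' : G, 4 ∣ Nat.card (Subgroup.centralizer ({J, τ'} : Set G)) →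
      ¬ 8 ∣ Nat.card (Subgroup.centralizer ({J, τ'} : Set G)) →
      ∃ x, Nat.card (Subgroup.centralizer ({J, τ'} : Set G)) = 4 * x ∧ x ∣ l := by
    intro τ' h4 h8
    obtain ⟨x, hx⟩ := h4
    refine ⟨x, hx, ?_⟩
    have hd : Nat.card (Subgroup.centralizer ({J, τ'} : Set G)) ∣ l * 8 := hC ▸
      Subgroup.card_dvd_of_le (Subgroup.centralizer_le (by simp))
    rw [hx, show l * 8 = 4 * (2 * l) by ring] at hd
    have hd' := Nat.dvd_of_mul_dvd_mul_left (by norm_num : 0 < 4) hd
    refine Nat.Coprime.dvd_of_dvd_mul_left (Nat.prime_two.coprime_iff_not_dvd.2 fun hx2 => h8 ?_).symm hd'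
    rw [hx]
    exact (show (8 : ℕ) = 4 * 2 by norm_num) ▸ Nat.mul_dvd_mul_left 4 hx2
  obtain ⟨x1, hx1, hx1d⟩ := hpart τ h41 h81
  obtain ⟨x2, hx2, hx2d⟩ := hpart (σ * τ) h42 h82
  rw [h, hx1, hx2, hC] at heq
  have hl0 : 0 < l := Nat.card_pos
  have hx10 : 0 < x1 := Nat.pos_of_dvd_of_pos hx1d hl0
  have hx20 : 0 < x2 := Nat.pos_of_dvd_of_pos hx2d hl0
  have hx1q : (x1 : ℚ) ≠ 0 := by positivity
  have hx2q : (x2 : ℚ) ≠ 0 := by positivity
  have heq' : (175560 : ℚ) * ((f : ℚ) - δ) ^ 2 * x1 ^ 2 * x2 ^ 2 =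
      64 * f * ((f : ℚ) + δ) * l ^ 3 * ((x1 : ℚ) + x2) ^ 2 := by
    push_cast at heq
    field_simp at heq
    linarith
  have harith : x1 = l ∧ x2 = l ∧ l = 1045 := by
    obtain ⟨g, hg⟩ : ∃ g, f = g + 1 := ⟨f - 1, by omega⟩
    refine d8_arith hl hx1d hx2d hf hf1 hf2 ?_
    rw [hg] at heq' hfδ ⊢
    simp only [Nat.add_sub_cancel]
    rcases hδ with hδ | hδ <;> rw [hδ] at heq' hfδ
    · refine Or.inl ⟨?_, fun e' => hfδ (by rw [e']; rfl)⟩
      have hq : ((175560 * g ^ 2 * x1 ^ 2 * x2 ^ 2 : ℕ) : ℚ) =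
          ((64 * (g + 1) * (g + 1 + 1) * l ^ 3 * (x1 + x2) ^ 2 : ℕ) : ℚ) := by
        push_cast at heq' ⊢
        linarith
      exact_mod_cast hq
    · refine Or.inr ?_
      have hq : ((175560 * (g + 1 + 1) ^ 2 * x1 ^ 2 * x2 ^ 2 : ℕ) : ℚ) =
          ((64 * (g + 1) * g * l ^ 3 * (x1 + x2) ^ 2 : ℕ) : ℚ) := by
        push_cast at heq' ⊢
        linarith
      exact_mod_cast hq
  obtain ⟨hx1l, hx2l, hl5⟩ := harith
  have hcent : ∀ τ' : G, Nat.card (Subgroup.centralizer ({J, τ'} : Set G)) = 4 * l →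
      ∀ v ∈ L, v * τ' = τ' * v := by
    intro τ' hH v hv
    set H := Subgroup.centralizer ({J, τ'} : Set G) with hHdef
    have hHC : H ≤ Cen J := Subgroup.centralizer_le (by simp)
    have hLH : L ⊓ H = L := by
      refine Subgroup.eq_of_le_of_card_ge inf_le_left ?_
      have hn : (L.subgroupOf (Cen J)).Normal := by
        refine ⟨fun w hw c => ?_⟩
        rw [Subgroup.mem_subgroupOf] at hw ⊢
        simpa using (Subgroup.mem_normalizer_iff.1 (o.norm c.2) _).1 hw
      have hidx : L.relIndex H ∣ 8 := by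
        rw [← Subgroup.relIndex_subgroupOf hHC]
        refine (Subgroup.relIndex_dvd_index_of_normal _ _).trans (dvd_of_eq ?_)
        have h2 := (L.subgroupOf (Cen J)).card_mul_index
        rw [Nat.card_congr (Subgroup.subgroupOfEquivOfLe o.le).toEquiv, hC] at h2
        exact Nat.eq_of_mul_eq_mul_left hl0 h2
      have h3 : Nat.card (L ⊓ H : Subgroup G) * L.relIndex H = Nat.card H := by
        have h2 := (L.subgroupOf H).card_mul_index
        rw [← h2]
        congr 1
        rw [← Subgroup.inf_subgroupOf_right,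
          Nat.card_congr (Subgroup.subgroupOfEquivOfLe inf_le_right).toEquiv]
      have h4 : l ∣ Nat.card (L ⊓ H : Subgroup G) * 8 :=
        (Dvd.intro_left 4 (hH ▸ rfl)).trans (h3 ▸ Nat.mul_dvd_mul_left _ hidx)
      refine Nat.le_of_dvd Nat.card_pos (Nat.Coprime.dvd_of_dvd_mul_right ?_ h4)
      rw [← hldef, hl5]; norm_num
    have hv' : v ∈ H := (hLH.ge hv).2
    exact (Subgroup.mem_centralizer_iff.1 hv' τ' (by simp)).symm
  obtain ⟨⟨v, hvL⟩, hv⟩ := exists_prime_orderOf_dvd_card' (G := L) 5 (hp := ⟨by norm_num⟩)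
    (by rw [← hldef, hl5]; norm_num)
  rw [Subgroup.orderOf_mk] at hv
  have ct := hcent τ (by rw [hx1, hx1l]) v hvL
  have cst := hcent (σ * τ) (by rw [hx2, hx2l]) v hvL
  have cs : v * σ = σ * v := by
    refine mul_right_cancel (b := τ) ?_
    calc v * σ * τ = σ * τ * v := by rw [mul_assoc, cst]
      _ = σ * v * τ := by rw [mul_assoc, ← ct, mul_assoc]
  refine (five_facts h hv).1 ?_
  have hPv : (P : Subgroup G) ≤ Cen v := by
    have hrot : Subgroup.zpowers σ ≤ Cen v :=
      Subgroup.zpowers_le.2 (Subgroup.mem_centralizer_singleton_iff.2 cs.symm)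
    intro w hw
    rcases d.cases w hw with hr | ⟨-, -, hwσ⟩
    · exact hrot hr
    · rcases d.cases (τ * w) (mul_mem hτ hw) with hr | ⟨-, -, hs⟩
      · have : w = τ⁻¹ * (τ * w) := (inv_mul_cancel_left τ w).symm
        rw [this]
        exact mul_mem (inv_mem (Subgroup.mem_centralizer_singleton_iff.2 ct.symm)) (hrot hr)
      · exfalso
        refine hne ?_
        rw [← hs]
        calc σ = (τ * σ * τ⁻¹)⁻¹ := by rw [hτσ, inv_inv]
          _ = τ * (w * σ * w⁻¹) * τ⁻¹ := by rw [hwσ]; group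
          _ = τ * w * σ * (τ * w)⁻¹ := by group
  exact sylow_card h P ▸ Subgroup.card_dvd_of_le hPv

/-- The Sylow 2-subgroups are elementary abelian of order eight. -/
theorem sylow_elem (P : Sylow 2 G) : Cfsg.IsElementaryAbelian 2 (P : Subgroup G) := by
  by_cases hab : ∀ a b : (P : Subgroup G), a * b = b * a
  · exact ⟨⟨⟨hab⟩⟩, abelian_sq h P ⟨⟨hab⟩⟩⟩
  · exfalso
    rcases Fus.dihedral_or_quaternion_of_card_eight (sylow_card h P) hab with he | he
    · exact he.elim (not_dihedral h P)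
    · exact he.elim (not_quaternion h P)

end Cfsg.Agent.J1U.Ord
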