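import Cfsg.Agent.Lib.Spor.Coset

/-! Two additions to coset-table certificates: walks in a closed table with a certificate that the
cosets of a table are pairwise different, and certificates given by a list of derived edges. -/

set_option autoImplicit false

namespace Cfsg.Agent.J1U

open Cfsg.Agent.Spor.Coset (ev ev_append)
open Cfsg.Agent.Spor

/-! ### Walks in a table -/

/-- The end of a walk. -/
def run (C : Coset.Cert) (a : ℕ) : List ℕ → ℕ
  | [] => a
  | s :: w => run C (C.tgt a s) w

/-- The table consists of involutions and the tree is in it. -/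
def actChk (C : Coset.Cert) : Bool :=
  decide (0 < C.n) && (List.range C.N).all fun a =>
    ((List.range C.n).all fun s => decide (C.tgt a s < C.N) && Nat.beq (C.tgt (C.tgt a s) s) a) &&
    (Nat.beq a 0 || (decide (C.par a / C.n < a) && Nat.beq (C.tgt (C.par a / C.n) (C.par a % C.n)) a))

variable {G : Type*} [Group G]

theorem act_row {C : Coset.Cert} (h : actChk C = true) {a : ℕ} (ha : a < C.N) :
    (∀ s < C.n, C.tgt a s < C.N ∧ C.tgt (C.tgt a s) s = a) ∧
      (a ≠ 0 → C.par a / C.n < a ∧ C.par a % C.n < C.n ∧ C.tgt (C.par a / C.n) (C.par a % C.n) = a) := by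
  simp only [actChk, Bool.and_eq_true, decide_eq_true_eq, List.all_eq_true, List.mem_range,
    Bool.or_eq_true] at h
  obtain ⟨hn, h⟩ := h
  obtain ⟨h1, h2⟩ := h a ha
  refine ⟨fun s hs => ⟨(h1 s hs).1, Nat.eq_of_beq_eq_true (h1 s hs).2⟩, fun h0 => ?_⟩
  rcases h2 with h2 | h2
  · exact absurd (Nat.eq_of_beq_eq_true h2) h0
  · exact ⟨h2.1, Nat.mod_lt _ hn, Nat.eq_of_beq_eq_true h2.2⟩

theorem run_lt {C : Coset.Cert} (h : actChk C = true) :
    ∀ (w : List ℕ) (a : ℕ), a < C.N → (∀ s ∈ w, s < C.n) → run C a w < C.N
  | [], _, ha, _ => ha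
  | s :: w, a, ha, hw => run_lt h w _ ((act_row h ha).1 s (hw s List.mem_cons_self)).1
      fun t ht => hw t (List.mem_cons_of_mem _ ht)

theorem run_holds {C : Coset.Cert} (h : actChk C = true) {g : ℕ → G} {H : Subgroup G}
    (hall : ∀ a < C.N, ∀ s < C.n, C.Holds g H a s) :
    ∀ (w : List ℕ) (a : ℕ), a < C.N → (∀ s ∈ w, s < C.n) →
      C.rep g a * ev g w * (C.rep g (run C a w))⁻¹ ∈ H
  | [], a, _, _ => by simp [run, ev]
  | s :: w, a, ha, hw => by
    have hs := hw s List.mem_cons_self
    have h1 := hall a ha s hs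
    have h2 := run_holds h hall w _ ((act_row h ha).1 s hs).1
      fun t ht => hw t (List.mem_cons_of_mem _ ht)
    have := H.mul_mem h1 h2
    simp only [run, ev]
    simpa [mul_assoc] using this

/-- The relation of lying in the same coset. -/
def SameCoset (C : Coset.Cert) (g : ℕ → G) (H : Subgroup G) (a b : ℕ) : Prop :=
  C.rep g a * (C.rep g b)⁻¹ ∈ H

theorem SameCoset.symm {C : Coset.Cert} {g : ℕ → G} {H : Subgroup G} {a b : ℕ}
    (h : SameCoset C g H a b) : SameCoset C g H b a := by
  simpa [SameCoset] using H.inv_mem h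

theorem SameCoset.trans {C : Coset.Cert} {g : ℕ → G} {H : Subgroup G} {a b c : ℕ}
    (h : SameCoset C g H a b) (h' : SameCoset C g H b c) : SameCoset C g H a c := by
  simpa [SameCoset, mul_assoc] using H.mul_mem h h'

theorem SameCoset.move {C : Coset.Cert} (hc : actChk C = true) {g : ℕ → G} {H : Subgroup G}
    (hall : ∀ a < C.N, ∀ s < C.n, C.Holds g H a s) {a b : ℕ} (ha : a < C.N) (hb : b < C.N)
    {w : List ℕ} (hw : ∀ s ∈ w, s < C.n) (h : SameCoset C g H a b) :
    SameCoset C g H (run C a w) (run C b w) := by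
  have h1 := run_holds hc hall w a ha hw
  have h2 := run_holds hc hall w b hb hw
  have := H.mul_mem (H.mul_mem (H.inv_mem h1) h) h2
  simpa [SameCoset, mul_assoc] using this

/-- The data showing that no coset is repeated: `stp` moves a coset to one of smaller depth by a
generator fixing the first coset; `chain` joins the first coset to its neighbour by translates of a
given pair. -/
structure Sep where
  stp : ℕ → ℕ
  depth : ℕ → ℕ
  chain : ℕ → List (Bool × List ℕ)

/-- Check of a chain. -/
def chainChk (C : Coset.Cert) (o : ℕ) : List (Bool × List ℕ) → ℕ → Bool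
  | [], x => Nat.beq x (C.tgt 0 0)
  | (f, v) :: l, x =>
    (v.all fun s => decide (s < C.n)) && Nat.beq (run C (bif f then o else 0) v) x &&
      chainChk C o l (run C (bif f then 0 else o) v)

/-- Check of one coset. -/
def sepRow (C : Coset.Cert) (S : Sep) (b : ℕ) : Bool :=
  Nat.beq b 0 ||
    (bif Nat.beq (S.stp b) 0 then chainChk C b (S.chain b) 0
     else decide (S.stp b < C.n) && Nat.beq (C.tgt 0 (S.stp b)) 0 &&
      decide (S.depth (C.tgt b (S.stp b)) < S.depth b) && !(Nat.beq (C.tgt b (S.stp b)) 0))

theorem chain_sound {C : Coset.Cert} (hc : actChk C = true) {g : ℕ → G} {H : Subgroup G}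
    (hall : ∀ a < C.N, ∀ s < C.n, C.Holds g H a s) {o : ℕ} (ho : o < C.N)
    (h : SameCoset C g H 0 o) : ∀ (l : List (Bool × List ℕ)) (x : ℕ),
      chainChk C o l x = true → SameCoset C g H 0 x → SameCoset C g H 0 (C.tgt 0 0)
  | [], x, hl, hx => Nat.eq_of_beq_eq_true hl ▸ hx
  | (f, v) :: l, x, hl, hx => by
    simp only [chainChk, Bool.and_eq_true, List.all_eq_true, decide_eq_true_eq] at hl
    obtain ⟨⟨hv, hx'⟩, hl⟩ := hl
    refine chain_sound hc hall ho h l _ hl (hx.trans ?_)
    rw [← Nat.eq_of_beq_eq_true hx']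
    have hN : 0 < C.N := by omega
    cases f with
    | false => exact h.move hc hall hN ho hv
    | true => exact (h.move hc hall hN ho hv).symm

theorem sep_zero {C : Coset.Cert} (hc : actChk C = true) {S : Sep}
    (hS : ∀ b < C.N, sepRow C S b = true) {g : ℕ → G} {H : Subgroup G}
    (hall : ∀ a < C.N, ∀ s < C.n, C.Holds g H a s) (h0 : 0 < C.n) (hg : g 0 ∉ H) :
    ∀ b < C.N, SameCoset C g H 0 b → b = 0 := by
  intro b
  induction hd : S.depth b using Nat.strong_induction_on generalizing b with
  | _ d ih =>
    intro hb h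
    have hr := hS b hb
    simp only [sepRow, Bool.or_eq_true] at hr
    rcases hr with hr | hr
    · exact Nat.eq_of_beq_eq_true hr
    · exfalso
      cases hs : Nat.beq (S.stp b) 0 with
      | true =>
        rw [hs] at hr
        have h1 : SameCoset C g H 0 (C.tgt 0 0) := chain_sound hc hall hb h _ 0 hr (by simp [SameCoset])
        have h2 := hall 0 (by omega) 0 h0
        apply hg
        have h3 := H.mul_mem h2 (H.inv_mem h1)
        unfold Coset.Cert.Holds at h2
        simpa [SameCoset, Coset.Cert.Holds, Coset.Cert.rep, Coset.Cert.repAux, mul_assoc] using h3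
      | false =>
        rw [hs] at hr
        simp only [cond_false, Bool.and_eq_true, decide_eq_true_eq, Bool.not_eq_true'] at hr
        obtain ⟨⟨⟨hsn, hfix⟩, hdec⟩, hne⟩ := hr
        have hm := h.move hc hall (by omega) hb (w := [S.stp b]) (by simp [hsn])
        simp only [run] at hm
        rw [Nat.eq_of_beq_eq_true hfix] at hm
        have := ih _ (hd ▸ hdec) _ rfl ((act_row hc hb).1 _ hsn).1 hm
        rw [this, Nat.beq_refl] at hne
        exact Bool.noConfusion hne

theorem sep_inj {C : Coset.Cert} (hc : actChk C = true) {S : Sep}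
    (hS : ∀ b < C.N, sepRow C S b = true) {g : ℕ → G} {H : Subgroup G}
    (hall : ∀ a < C.N, ∀ s < C.n, C.Holds g H a s) (h0 : 0 < C.n) (hg : g 0 ∉ H) :
    ∀ a < C.N, ∀ b < C.N, SameCoset C g H a b → a = b := by
  intro a
  induction a using Nat.strong_induction_on with
  | _ a ih =>
    intro ha b hb h
    by_cases h1 : a = 0
    · subst h1
      exact (sep_zero hc hS hall h0 hg b hb h).symm
    obtain ⟨hlt, hmod, htg⟩ := (act_row hc ha).2 h1
    have hs : ∀ t ∈ [C.par a % C.n], t < C.n := by simp [hmod]
    have hm := h.move hc hall ha hb hs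
    simp only [run] at hm
    have hp : C.par a / C.n < C.N := by omega
    have e1 : C.tgt a (C.par a % C.n) = C.par a / C.n :=
      calc C.tgt a (C.par a % C.n)
          = C.tgt (C.tgt (C.par a / C.n) (C.par a % C.n)) (C.par a % C.n) :=
            congrArg (fun x => C.tgt x (C.par a % C.n)) htg.symm
        _ = C.par a / C.n := ((act_row hc hp).1 _ hmod).2
    rw [e1] at hm
    have e2 := ih _ hlt hp _ ((act_row hc hb).1 _ hmod).1 hm
    rw [← htg, e2]
    exact ((act_row hc hb).1 _ hmod).2

/-! ### Derived edges -/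

/-- The reason for a derived edge. -/
inductive Just
  | dfn
  | sub
  | path (ri rot : ℕ) (flip : Bool) (P : List ℕ)

/-- A derived edge; the label `4` is the identity. -/
abbrev Edge : Type := ℕ × ℕ × ℕ × Just

/-- A certificate consisting of derived edges. -/
structure Deriv where
  rels : List (List ℕ)
  subs : List ℕ
  par : List ℕ
  edges : List (List Edge)

/-- An edge by number. -/
def Deriv.edge (D : Deriv) (k : ℕ) : Edge :=
  (D.edges.getD (k / 32) []).getD (k % 32) (0, 4, 0, .dfn)

/-- Free reduction of words in involutions, `4` being the identity. -/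
def red : List ℕ → List ℕ
  | [] => []
  | s :: w =>
    bif Nat.beq s 4 then red w else
    match red w with
    | [] => [s]
    | t :: v => bif Nat.beq s t then v else s :: t :: v

/-- A trivial word made from a relator. -/
def Deriv.triv (D : Deriv) (ri rot : ℕ) (flip : Bool) : List ℕ :=
  let w := D.rels.getD ri []
  let v := bif flip then w.reverse else w
  v.drop rot ++ v.take rot

/-- The end and word of a path of earlier edges. -/
def Deriv.follow (D : Deriv) (k : ℕ) : List ℕ → ℕ → Option (ℕ × List ℕ)
  | [], a => some (a, [])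
  | r :: P, a =>
    let e := D.edge (r / 2)
    bif decide (r / 2 < k) && Nat.beq (bif Nat.beq (r % 2) 0 then e.1 else e.2.2.1) a then
      match D.follow k P (bif Nat.beq (r % 2) 0 then e.2.2.1 else e.1) with
      | some (b, w) => some (b, e.2.1 :: w)
      | none => none
    else none

/-- Check of an edge. -/
def Deriv.edgeChk (D : Deriv) (k : ℕ) : Bool :=
  let e := D.edge k
  match e.2.2.2 with
  | .dfn => !(Nat.beq e.2.2.1 0) && Nat.beq (D.par.getD e.2.2.1 0) (e.1 * 5 + e.2.1) &&
      decide (e.2.1 < 5) && decide (e.1 < e.2.2.1)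
  | .sub => Nat.beq e.1 0 && Nat.beq e.2.2.1 0 && D.subs.contains e.2.1
  | .path ri rot fl P =>
    match D.follow k P e.1 with
    | some (b, w) => Nat.beq b e.2.2.1 && decide (red (w ++ [e.2.1]) = red (D.triv ri rot fl))
    | none => false

/-- Representatives, with fuel. -/
def Deriv.repAux (D : Deriv) (g : ℕ → G) : ℕ → ℕ → G
  | 0, _ => 1
  | f + 1, b => if b = 0 then 1 else
      if D.par.getD b 0 / 5 < b then D.repAux g f (D.par.getD b 0 / 5) * g (D.par.getD b 0 % 5) else 1

/-- The representative of a node. -/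
def Deriv.rep (D : Deriv) (g : ℕ → G) (b : ℕ) : G := D.repAux g b b

theorem Deriv.repAux_eq (D : Deriv) (g : ℕ → G) :
    ∀ f b, b ≤ f → D.repAux g f b = D.repAux g b b := by
  intro f
  induction f using Nat.strong_induction_on with
  | _ f ih =>
    intro b hbf
    rcases f with _ | f
    · rw [Nat.le_zero.mp hbf]
    rcases b with _ | b
    · simp [Deriv.repAux]
    simp only [Deriv.repAux, Nat.add_one_ne_zero, if_false]
    split
    · next h =>
      rw [ih f (Nat.lt_succ_self f) _ (by omega)]
      rcases Nat.lt_or_ge b f with hlt | hge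
      · rw [ih b (by omega) _ (by omega)]
      · rw [show b = f by omega] at h ⊢
        rw [ih f (Nat.lt_succ_self f) _ (by omega)]
    · rfl

theorem ev_red {g : ℕ → G} (hi : ∀ s, g s * g s = 1) (h4 : g 4 = 1) :
    ∀ w : List ℕ, ev g (red w) = ev g w
  | [] => rfl
  | s :: w => by
    have ih := ev_red hi h4 w
    simp only [red, Coset.ev]
    cases hs : Nat.beq s 4 with
    | true => rw [cond_true, ih, Nat.eq_of_beq_eq_true hs, h4, one_mul]
    | false =>
      rw [cond_false]
      split
      · next h => rw [h] at ih; simp only [Coset.ev] at ih ⊢; rw [← ih]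
      · next t v h =>
        rw [h] at ih
        simp only [Coset.ev] at ih
        cases hst : Nat.beq s t with
        | true =>
          rw [cond_true, ← ih, Nat.eq_of_beq_eq_true hst, ← mul_assoc, hi, one_mul]
        | false => rw [cond_false]; simp only [Coset.ev]; rw [ih]

theorem ev_reverse {g : ℕ → G} (hi : ∀ s, g s * g s = 1) :
    ∀ w : List ℕ, ev g w.reverse = (ev g w)⁻¹
  | [] => by simp [Coset.ev]
  | s :: w => by
    rw [List.reverse_cons, ev_append, ev_reverse hi w]
    simp only [Coset.ev, mul_one, mul_inv_rev]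
    rw [inv_eq_of_mul_eq_one_left (hi s)]

theorem ev_triv {g : ℕ → G} (hi : ∀ s, g s * g s = 1) (D : Deriv) (hr : ∀ w ∈ D.rels, ev g w = 1)
    (ri rot : ℕ) (fl : Bool) : ev g (D.triv ri rot fl) = 1 := by
  have h0 : ev g (D.rels.getD ri []) = 1 := by
    by_cases h : ri < D.rels.length
    · rw [List.getD_eq_getElem _ _ h]; exact hr _ (List.getElem_mem h)
    · rw [List.getD_eq_default _ _ (by omega)]; rfl
  have h1 : ev g (bif fl then (D.rels.getD ri []).reverse else D.rels.getD ri []) = 1 := by
    cases fl with
    | true => rw [cond_true, ev_reverse hi, h0, inv_one]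
    | false => exact h0
  simp only [Deriv.triv]
  generalize (bif fl then (D.rels.getD ri []).reverse else D.rels.getD ri []) = v at h1 ⊢
  rw [← List.take_append_drop rot v, ev_append] at h1
  rw [ev_append, eq_inv_of_mul_eq_one_right h1]
  simp

/-- An edge holds. -/
def Deriv.Holds (D : Deriv) (g : ℕ → G) (H : Subgroup G) (k : ℕ) : Prop :=
  D.rep g (D.edge k).1 * g (D.edge k).2.1 * (D.rep g (D.edge k).2.2.1)⁻¹ ∈ H

theorem Deriv.follow_sound (D : Deriv) {g : ℕ → G} (hi : ∀ s, g s * g s = 1) {H : Subgroup G}
    {k : ℕ} (hk : ∀ i < k, D.Holds g H i) :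
    ∀ (P : List ℕ) (a b : ℕ) (w : List ℕ), D.follow k P a = some (b, w) →
      D.rep g a * ev g w * (D.rep g b)⁻¹ ∈ H
  | [], a, b, w, h => by
    simp only [Deriv.follow, Option.some.injEq, Prod.mk.injEq] at h
    obtain ⟨rfl, rfl⟩ := h
    simp [Coset.ev]
  | r :: P, a, b, w, h => by
    simp only [Deriv.follow] at h
    cases hc : decide (r / 2 < k) &&
        Nat.beq (bif Nat.beq (r % 2) 0 then (D.edge (r / 2)).1 else (D.edge (r / 2)).2.2.1) a with
    | false => rw [hc] at h; simp at h
    | true =>
      rw [hc, cond_true] at h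
      simp only [Bool.and_eq_true, decide_eq_true_eq] at hc
      obtain ⟨hlt, ha⟩ := hc
      have he := hk _ hlt
      split at h
      · next b' w' hf =>
        simp only [Option.some.injEq, Prod.mk.injEq] at h
        obtain ⟨rfl, rfl⟩ := h
        have h2 := D.follow_sound hi hk P _ _ _ hf
        have ha' := Nat.eq_of_beq_eq_true ha
        simp only [Coset.ev]
        cases hd : Nat.beq (r % 2) 0 with
        | true =>
          rw [hd] at h2 ha'
          simp only [cond_true] at h2 ha'
          rw [← ha']
          simpa [Deriv.Holds, mul_assoc] using H.mul_mem he h2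
        | false =>
          rw [hd] at h2 ha'
          simp only [cond_false] at h2 ha'
          rw [← ha']
          have he' := H.inv_mem he
          simpa [Deriv.Holds, mul_assoc, inv_eq_of_mul_eq_one_left (hi (D.edge (r / 2)).2.1)] using
            H.mul_mem he' h2
      · simp at h

theorem Deriv.sound (D : Deriv) {g : ℕ → G} (hi : ∀ s, g s * g s = 1) (h4 : g 4 = 1)
    {H : Subgroup G} (hr : ∀ w ∈ D.rels, ev g w = 1) (hs : ∀ s ∈ D.subs, g s ∈ H) {n : ℕ}
    (hchk : ∀ k < n, D.edgeChk k = true) : ∀ k < n, D.Holds g H k := by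
  intro k
  induction k using Nat.strong_induction_on with
  | _ k ih =>
    intro hk
    have h := hchk k hk
    have hprev : ∀ i < k, D.Holds g H i := fun i hi' => ih i hi' (hi'.trans hk)
    unfold Deriv.edgeChk at h
    unfold Deriv.Holds
    generalize he : D.edge k = e at h ⊢
    obtain ⟨a, s, b, J⟩ := e
    cases J with
    | dfn =>
      simp only [Bool.and_eq_true, decide_eq_true_eq, Bool.not_eq_true'] at h
      obtain ⟨⟨⟨hb, hp⟩, hs5⟩, hab⟩ := h
      have hp' := Nat.eq_of_beq_eq_true hp
      have hb0 : b ≠ 0 := by rintro rfl; exact absurd hb (by simp)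
      obtain ⟨c, rfl⟩ : ∃ c, b = c + 1 := ⟨b - 1, by omega⟩
      have e1 : D.rep g (c + 1) = D.rep g a * g s := by
        show D.repAux g (c + 1) (c + 1) = _
        have d1 : D.par.getD (c + 1) 0 / 5 = a := by omega
        have d2 : D.par.getD (c + 1) 0 % 5 = s := by omega
        rw [Deriv.repAux, if_neg (Nat.add_one_ne_zero c), d1, d2, if_pos hab,
          D.repAux_eq g c a (by omega)]
        rfl
      show D.rep g a * g s * (D.rep g (c + 1))⁻¹ ∈ H
      rw [e1, mul_inv_cancel]
      exact H.one_mem
    | sub =>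
      simp only [Bool.and_eq_true, List.contains_iff_mem] at h
      obtain ⟨⟨ha, hb⟩, hm⟩ := h
      show D.rep g a * g s * (D.rep g b)⁻¹ ∈ H
      rw [Nat.eq_of_beq_eq_true ha, Nat.eq_of_beq_eq_true hb]
      simpa [Deriv.rep, Deriv.repAux] using hs s hm
    | path ri rot fl P =>
      show D.rep g a * g s * (D.rep g b)⁻¹ ∈ H
      simp only at h
      split at h
      · next b' w hf =>
        simp only [Bool.and_eq_true, decide_eq_true_eq] at h
        obtain ⟨hb, hw⟩ := h
        obtain rfl := Nat.eq_of_beq_eq_true hb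
        have h2 := D.follow_sound hi hprev P _ _ _ hf
        have e : ev g (w ++ [s]) = 1 := by
          rw [← ev_red hi h4, hw, ev_red hi h4, ev_triv hi D hr]
        rw [ev_append] at e
        simp only [Coset.ev, mul_one] at e
        have e' : ev g w = g s := by
          rw [eq_inv_of_mul_eq_one_left e, inv_eq_of_mul_eq_one_left (hi s)]
        rwa [e'] at h2
      · simp at h

end Cfsg.Agent.J1U
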